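import Mathlib
import Cfsg.Prelude.Def_LieExceptional

/-!
Basic theory of `Cfsg.BNPair`: length, Bruhat decomposition, exchange condition, parabolics.
-/

set_option autoImplicit false

namespace Cfsg.Agent.Lib.BNPair

open scoped Pointwise

variable {G : Type*} [Group G] (P : Cfsg.BNPair G)

/-- The double coset `B g B`. -/
def dc (g : G) : Set G := DoubleCoset.doubleCoset g (P.B : Set G) P.B

theorem mem_dc {g x : G} : x ∈ dc P g ↔ ∃ a ∈ P.B, ∃ b ∈ P.B, x = a * g * b :=
  DoubleCoset.mem_doubleCoset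

theorem mem_dc_self (g : G) : g ∈ dc P g := DoubleCoset.mem_doubleCoset_self _ _ g

theorem dc_eq_of_mem {g x : G} (h : x ∈ dc P g) : dc P x = dc P g :=
  DoubleCoset.doubleCoset_eq_of_mem h

theorem dc_mul_left {g x b : G} (hb : b ∈ P.B) (h : x ∈ dc P g) : b * x ∈ dc P g := by
  obtain ⟨a, ha, c, hc, rfl⟩ := (mem_dc P).1 h
  exact (mem_dc P).2 ⟨b * a, mul_mem hb ha, c, hc, by group⟩

theorem dc_mul_right {g x b : G} (hb : b ∈ P.B) (h : x ∈ dc P g) : x * b ∈ dc P g := by
  obtain ⟨a, ha, c, hc, rfl⟩ := (mem_dc P).1 h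
  exact (mem_dc P).2 ⟨a, ha, c * b, mul_mem hc hb, by group⟩

theorem dc_inv {g x : G} (h : x ∈ dc P g) : x⁻¹ ∈ dc P g⁻¹ := by
  obtain ⟨a, ha, c, hc, rfl⟩ := (mem_dc P).1 h
  exact (mem_dc P).2 ⟨c⁻¹, inv_mem hc, a⁻¹, inv_mem ha, by group⟩

theorem dc_one {x : G} : x ∈ dc P 1 ↔ x ∈ P.B := by
  constructor
  · intro h
    obtain ⟨a, ha, c, hc, rfl⟩ := (mem_dc P).1 h
    simpa using mul_mem ha hc
  · intro h
    exact (mem_dc P).2 ⟨x, h, 1, one_mem _, by simp⟩

/-- Congruence modulo `B` on the right. -/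
def Cong (n n' : G) : Prop := n⁻¹ * n' ∈ P.B

theorem cong_refl (n : G) : Cong P n n := by simp [Cong]

theorem cong_symm {n n' : G} (h : Cong P n n') : Cong P n' n := by
  have := inv_mem h
  simpa [Cong] using this

theorem cong_trans {a b c : G} (h : Cong P a b) (h' : Cong P b c) : Cong P a c := by
  have h2 := mul_mem h h'
  have : a⁻¹ * b * (b⁻¹ * c) = a⁻¹ * c := by group
  rwa [this] at h2

theorem cong_left (g : G) {a b : G} (h : Cong P a b) : Cong P (g * a) (g * b) := by
  simpa [Cong, mul_assoc] using h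

theorem cong_left_iff (g : G) {a b : G} : Cong P (g * a) (g * b) ↔ Cong P a b := by
  simp [Cong, mul_assoc]

theorem cong_mul_right {a b : G} (hb : b ∈ P.B) : Cong P a (a * b) := by
  simpa [Cong] using hb

theorem dc_eq_of_cong {n n' : G} (h : Cong P n n') : dc P n = dc P n' := by
  refine (dc_eq_of_mem P ?_).symm
  exact (mem_dc P).2 ⟨1, one_mem _, n⁻¹ * n', h, by group⟩

theorem s_mem {s : G} (hs : s ∈ P.S) : s ∈ P.N := P.subset hs

theorem t_conj {n t : G} (hn : n ∈ P.N) (ht : t ∈ P.B) (ht' : t ∈ P.N) :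
    n * t * n⁻¹ ∈ P.B :=
  P.conj_mem n hn t ⟨ht, ht'⟩

/-- On `N`, congruence is compatible with right multiplication. -/
theorem cong_right {a b g : G} (ha : a ∈ P.N) (hb : b ∈ P.N) (hg : g ∈ P.N) (h : Cong P a b) :
    Cong P (a * g) (b * g) := by
  have h1 : a⁻¹ * b ∈ P.N := mul_mem (inv_mem ha) hb
  have := t_conj P (inv_mem hg) h h1
  unfold Cong
  simpa [mul_assoc] using this

theorem t_conj' {n t : G} (hn : n ∈ P.N) (ht : t ∈ P.B) (ht' : t ∈ P.N) :
    n⁻¹ * t * n ∈ P.B := by
  simpa using t_conj P (inv_mem hn) ht ht'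

theorem sq_mem' {s : G} (hs : s ∈ P.S) : s * s ∈ P.N := mul_mem (s_mem P hs) (s_mem P hs)

theorem cong_inv_s {s : G} (hs : s ∈ P.S) : Cong P s⁻¹ s := by
  simpa [Cong] using P.sq_mem s hs

theorem inv_eq {s : G} : s⁻¹ = s * (s * s)⁻¹ := by group

theorem cong_ss {s : G} (hs : s ∈ P.S) : Cong P (s * s) 1 := by
  simpa [Cong] using inv_mem (P.sq_mem s hs)

theorem cong_ssn {s n : G} (hs : s ∈ P.S) (hn : n ∈ P.N) : Cong P (s * (s * n)) n := by
  have := cong_right P (sq_mem' P hs) (one_mem _) hn (cong_ss P hs)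
  simpa [mul_assoc] using this

theorem cong_nss {s n : G} (hs : s ∈ P.S) : Cong P (n * (s * s)) n := by
  have := cong_left P n (cong_ss P hs)
  simpa using this

theorem s_not_mem {s : G} (hs : s ∈ P.S) : s ∉ P.B := by
  intro h
  apply P.conj_ne s hs
  ext x
  constructor
  · rintro ⟨b, hb, rfl⟩
    exact mul_mem (mul_mem h hb) h
  · intro hx
    exact ⟨s⁻¹ * x * s⁻¹, mul_mem (mul_mem (inv_mem h) hx) (inv_mem h), by group⟩

theorem mem_union {s n b : G} (hs : s ∈ P.S) (hn : n ∈ P.N) (hb : b ∈ P.B) :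
    s * b * n ∈ dc P (s * n) ∨ s * b * n ∈ dc P n :=
  P.mul_mem_union s hs n hn b hb

theorem mem_union_inv {s n b : G} (hs : s ∈ P.S) (hn : n ∈ P.N) (hb : b ∈ P.B) :
    s⁻¹ * b * n ∈ dc P (s * n) ∨ s⁻¹ * b * n ∈ dc P n := by
  have e : s⁻¹ * b * n = s * ((s * s)⁻¹ * b) * n := by group
  rw [e]
  exact mem_union P hs hn (mul_mem (inv_mem (P.sq_mem s hs)) hb)

theorem mem_union_right {s n b : G} (hs : s ∈ P.S) (hn : n ∈ P.N) (hb : b ∈ P.B) :
    n * b * s⁻¹ ∈ dc P (n * s) ∨ n * b * s⁻¹ ∈ dc P n := by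
  have e : n * b * s⁻¹ = (s * b⁻¹ * n⁻¹)⁻¹ := by group
  rw [e]
  rcases mem_union P hs (inv_mem hn) (inv_mem hb) with h | h
  · left
    have h' := dc_inv P h
    have h2 : dc P (n * s⁻¹) = dc P (n * s) := dc_eq_of_cong P (cong_left P n (cong_inv_s P hs))
    rw [← h2]
    simpa using h'
  · right
    simpa using dc_inv P h

theorem mem_union_right' {s n b : G} (hs : s ∈ P.S) (hn : n ∈ P.N) (hb : b ∈ P.B) :
    n * b * s ∈ dc P (n * s) ∨ n * b * s ∈ dc P n := by
  have e : n * b * s = n * (b * (s * s)) * s⁻¹ := by group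
  rw [e]
  exact mem_union_right P hs hn (mul_mem hb (P.sq_mem s hs))

/-- Words in the distinguished representatives. -/
def IsWord (J : Set G) (w : List G) : Prop := ∀ x ∈ w, x ∈ J

theorem word_mem {w : List G} (hw : IsWord P.S w) : w.prod ∈ P.N := by
  induction w with
  | nil => simp
  | cons a w ih =>
    rw [List.prod_cons]
    exact mul_mem (s_mem P (hw a (by simp))) (ih (fun x hx => hw x (by simp [hx])))

theorem exists_word_of_mem_closure {J : Set G} (hJ : J ⊆ P.S) {n : G}
    (hn : n ∈ Subgroup.closure J) : n ∈ P.N ∧ ∃ w, IsWord J w ∧ Cong P w.prod n := by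
  induction hn using Subgroup.closure_induction_left with
  | one => exact ⟨one_mem _, [], by simp [IsWord], cong_refl P _⟩
  | mul_left x hx y hy ih =>
    obtain ⟨hN, w, hw, hc⟩ := ih
    refine ⟨mul_mem (s_mem P (hJ hx)) hN, x :: w, ?_, by simpa using cong_left P x hc⟩
    intro z hz
    rcases List.mem_cons.1 hz with rfl | hz
    · exact hx
    · exact hw z hz
  | inv_mul_cancel x hx y hy ih =>
    obtain ⟨hN, w, hw, hc⟩ := ih
    have hxN := s_mem P (hJ hx)
    refine ⟨mul_mem (inv_mem hxN) hN, x :: w, ?_, ?_⟩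
    · intro z hz
      rcases List.mem_cons.1 hz with rfl | hz
      · exact hx
      · exact hw z hz
    · have h1 : Cong P (x * y) (x⁻¹ * y) :=
        cong_right P hxN (inv_mem hxN) hN (cong_symm P (cong_inv_s P (hJ hx)))
      simpa using cong_trans P (cong_left P x hc) h1

theorem exists_word {n : G} (hn : n ∈ P.N) : ∃ w, IsWord P.S w ∧ Cong P w.prod n := by
  have h : n ∈ Subgroup.closure (P.S ∪ ((P.B ⊓ P.N : Subgroup G) : Set G)) := by
    rw [Subgroup.closure_union, Subgroup.closure_eq, P.closure_sup]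
    exact hn
  clear hn
  suffices n ∈ P.N ∧ ∃ w, IsWord P.S w ∧ Cong P w.prod n from this.2
  have key : ∀ (y : G), y ∈ P.N → ∀ x ∈ P.B, x ∈ P.N → Cong P y (x * y) := by
    intro y hy x hx hx'
    simpa [Cong, mul_assoc] using t_conj' P hy hx hx'
  induction h using Subgroup.closure_induction_left with
  | one => exact ⟨one_mem _, [], by simp [IsWord], cong_refl P _⟩
  | mul_left x hx y hy ih =>
    obtain ⟨hN, w, hw, hc⟩ := ih
    rcases hx with hx | hx
    · refine ⟨mul_mem (s_mem P hx) hN, x :: w, ?_, by simpa using cong_left P x hc⟩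
      intro z hz
      rcases List.mem_cons.1 hz with rfl | hz
      · exact hx
      · exact hw z hz
    · exact ⟨mul_mem hx.2 hN, w, hw, cong_trans P hc (key y hN x hx.1 hx.2)⟩
  | inv_mul_cancel x hx y hy ih =>
    obtain ⟨hN, w, hw, hc⟩ := ih
    rcases hx with hx | hx
    · refine ⟨mul_mem (inv_mem (s_mem P hx)) hN, x :: w, ?_, ?_⟩
      · intro z hz
        rcases List.mem_cons.1 hz with rfl | hz
        · exact hx
        · exact hw z hz
      · have h1 : Cong P (x * y) (x⁻¹ * y) :=
          cong_right P (s_mem P hx) (inv_mem (s_mem P hx)) hN (cong_symm P (cong_inv_s P hx))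
        simpa using cong_trans P (cong_left P x hc) h1
    · exact ⟨mul_mem (inv_mem hx.2) hN, w, hw,
        cong_trans P hc (key y hN _ (inv_mem hx.1) (inv_mem hx.2))⟩

/-- Length of an element of `N` modulo `B ⊓ N`. -/
noncomputable def len (n : G) : ℕ :=
  sInf {k | ∃ w, IsWord P.S w ∧ w.length = k ∧ Cong P w.prod n}

theorem exists_reduced {n : G} (hn : n ∈ P.N) :
    ∃ w, IsWord P.S w ∧ w.length = len P n ∧ Cong P w.prod n :=
  Nat.sInf_mem (s := {k | ∃ w, IsWord P.S w ∧ w.length = k ∧ Cong P w.prod n})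
    (let ⟨w, hw, hc⟩ := exists_word P hn; ⟨w.length, w, hw, rfl, hc⟩)

theorem len_le {n : G} {w : List G} (hw : IsWord P.S w) (hc : Cong P w.prod n) :
    len P n ≤ w.length :=
  Nat.sInf_le ⟨w, hw, rfl, hc⟩

theorem len_congr {n n' : G} (h : Cong P n n') : len P n = len P n' := by
  unfold len
  congr 1
  ext k
  constructor
  · rintro ⟨w, hw, hk, hc⟩
    exact ⟨w, hw, hk, cong_trans P hc h⟩
  · rintro ⟨w, hw, hk, hc⟩
    exact ⟨w, hw, hk, cong_trans P hc (cong_symm P h)⟩

theorem mem_B_of_len_eq_zero {n : G} (hn : n ∈ P.N) (h : len P n = 0) : n ∈ P.B := by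
  obtain ⟨w, hw, hl, hc⟩ := exists_reduced P hn
  rw [h, List.length_eq_zero_iff] at hl
  subst hl
  simpa [Cong] using hc

theorem len_eq_zero_of_mem_B {n : G} (h : n ∈ P.B) : len P n = 0 := by
  have := len_le P (w := []) (n := n) (by simp [IsWord]) (by simpa [Cong] using h)
  simpa using this

theorem len_s {s : G} (hs : s ∈ P.S) : len P s = 1 := by
  have h1 : len P s ≤ 1 :=
    len_le P (w := [s]) (fun x hx => by simp at hx; exact hx ▸ hs) (by simp [Cong])
  have h2 : len P s ≠ 0 := fun h => s_not_mem P hs (mem_B_of_len_eq_zero P (s_mem P hs) h)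
  omega

theorem len_s_mul_le {s n : G} (hs : s ∈ P.S) (hn : n ∈ P.N) : len P (s * n) ≤ len P n + 1 := by
  obtain ⟨w, hw, hl, hc⟩ := exists_reduced P hn
  refine le_of_le_of_eq (len_le P (w := s :: w) ?_ (by simpa using cong_left P s hc)) (by simp [hl])
  intro z hz
  rcases List.mem_cons.1 hz with rfl | hz
  · exact hs
  · exact hw z hz

theorem len_mul_s_le {s n : G} (hs : s ∈ P.S) (hn : n ∈ P.N) : len P (n * s) ≤ len P n + 1 := by
  obtain ⟨w, hw, hl, hc⟩ := exists_reduced P hn
  refine le_of_le_of_eq (len_le P (w := w ++ [s]) ?_ ?_) (by simp [hl])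
  · intro z hz
    rcases List.mem_append.1 hz with hz | hz
    · exact hw z hz
    · simp at hz; exact hz ▸ hs
  · simpa using cong_right P (word_mem P hw) hn (s_mem P hs) hc

theorem len_s_mul_ge {s n : G} (hs : s ∈ P.S) (hn : n ∈ P.N) : len P n ≤ len P (s * n) + 1 := by
  have := len_s_mul_le P hs (mul_mem (s_mem P hs) hn)
  rwa [len_congr P (cong_ssn P hs hn)] at this

theorem exists_left {n : G} (hn : n ∈ P.N) (h : 0 < len P n) :
    ∃ s ∈ P.S, ∃ m ∈ P.N, len P m + 1 = len P n ∧ Cong P (s * m) n := by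
  obtain ⟨w, hw, hl, hc⟩ := exists_reduced P hn
  cases w with
  | nil => simp at hl; omega
  | cons s w =>
    have hs : s ∈ P.S := hw s (by simp)
    have hw' : IsWord P.S w := fun x hx => hw x (by simp [hx])
    have hm := word_mem P hw'
    refine ⟨s, hs, w.prod, hm, ?_, by simpa using hc⟩
    have h1 : len P w.prod ≤ w.length := len_le P hw' (cong_refl P _)
    have h2 : len P n ≤ len P w.prod + 1 := by
      rw [List.prod_cons] at hc
      rw [← len_congr P hc]
      exact len_s_mul_le P hs hm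
    simp at hl
    omega

theorem exists_right {n : G} (hn : n ∈ P.N) (h : 0 < len P n) :
    ∃ s ∈ P.S, ∃ m ∈ P.N, len P m + 1 = len P n ∧ Cong P (m * s) n := by
  obtain ⟨w, hw, hl, hc⟩ := exists_reduced P hn
  rcases List.eq_nil_or_concat' w with rfl | ⟨w', s, rfl⟩
  · simp at hl; omega
  · have hs : s ∈ P.S := hw s (by simp)
    have hw' : IsWord P.S w' := fun x hx => hw x (by simp [hx])
    have hm := word_mem P hw'
    refine ⟨s, hs, w'.prod, hm, ?_, by simpa using hc⟩
    have h1 : len P w'.prod ≤ w'.length := len_le P hw' (cong_refl P _)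
    have h2 : len P n ≤ len P w'.prod + 1 := by
      rw [List.prod_append, List.prod_singleton] at hc
      rw [← len_congr P hc]
      exact len_mul_s_le P hs hm
    simp at hl
    omega

theorem cong_of_dc_eq_aux : ∀ (k : ℕ) {n n' : G}, n ∈ P.N → n' ∈ P.N → len P n = k →
    len P n ≤ len P n' → dc P n = dc P n' → Cong P n n' := by
  intro k
  induction k with
  | zero =>
    intro n n' hn hn' hk _ he
    have hnB := mem_B_of_len_eq_zero P hn hk
    have h : n' ∈ dc P n := by rw [he]; exact mem_dc_self P n'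
    obtain ⟨a, ha, b, hb, rfl⟩ := (mem_dc P).1 h
    exact mul_mem (inv_mem hnB) (mul_mem (mul_mem ha hnB) hb)
  | succ k ih =>
    intro n n' hn hn' hk hle he
    obtain ⟨s, hs, m, hm, hlm, hc⟩ := exists_left P hn (by omega)
    have hsn' : s * n' ∈ P.N := mul_mem (s_mem P hs) hn'
    have hmem : s * m ∈ dc P n' := by
      rw [← he, ← dc_eq_of_cong P hc]
      exact mem_dc_self P _
    obtain ⟨a, ha, b, hb, hab⟩ := (mem_dc P).1 hmem
    have hm' : m = s⁻¹ * a * n' * b := by
      rw [eq_comm, ← inv_mul_eq_iff_eq_mul.2 hab.symm] <;> group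
    rcases mem_union_inv P hs hn' ha with h | h
    · have h' := dc_mul_right P hb h
      rw [← hm'] at h'
      have hcm : Cong P m (s * n') :=
        ih hm hsn' (by omega) (by have := len_s_mul_ge P hs hn'; omega) (dc_eq_of_mem P h')
      exact cong_trans P (cong_symm P hc) (cong_trans P (cong_left P s hcm) (cong_ssn P hs hn'))
    · have h' := dc_mul_right P hb h
      rw [← hm'] at h'
      have hcm : Cong P m n' := ih hm hn' (by omega) (by omega) (dc_eq_of_mem P h')
      have := len_congr P hcm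
      omega

/-- Uniqueness part of the Bruhat decomposition. -/
theorem cong_of_dc_eq {n n' : G} (hn : n ∈ P.N) (hn' : n' ∈ P.N) (h : dc P n = dc P n') :
    Cong P n n' := by
  rcases Nat.le_total (len P n) (len P n') with hle | hle
  · exact cong_of_dc_eq_aux P _ hn hn' rfl hle h
  · exact cong_symm P (cong_of_dc_eq_aux P _ hn' hn rfl hle h.symm)

theorem cong_of_mem_dc {x n n' : G} (hn : n ∈ P.N) (hn' : n' ∈ P.N) (h : x ∈ dc P n)
    (h' : x ∈ dc P n') : Cong P n n' :=
  cong_of_dc_eq P hn hn' ((dc_eq_of_mem P h).symm.trans (dc_eq_of_mem P h'))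

theorem mem_dc_s_mul_aux : ∀ (k : ℕ) {s n b : G}, s ∈ P.S → n ∈ P.N → b ∈ P.B → len P n = k →
    len P n ≤ len P (s * n) → s * b * n ∈ dc P (s * n) := by
  intro k
  induction k with
  | zero =>
    intro s n b hs hn hb hk _
    have hnB := mem_B_of_len_eq_zero P hn hk
    refine (mem_dc P).2 ⟨1, one_mem _, n⁻¹ * b * n,
      mul_mem (mul_mem (inv_mem hnB) hb) hnB, by group⟩
  | succ k ih =>
    intro s n b hs hn hb hk hle
    rcases mem_union P hs hn hb with h | h
    · exact h
    exfalso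
    obtain ⟨u, hu, m, hm, hlm, hc⟩ := exists_right P hn (by omega)
    have hsm : s * m ∈ P.N := mul_mem (s_mem P hs) hm
    have hmu : m * u ∈ P.N := mul_mem hm (s_mem P hu)
    have hsm_len : len P m ≤ len P (s * m) := by
      by_contra hlt
      have h1 := len_mul_s_le P hu hsm
      rw [mul_assoc, len_congr P (cong_left P s hc)] at h1
      omega
    have h1 : s * b * m ∈ dc P (s * m) := ih hs hm hb (by omega) hsm_len
    have h2 : s * b * (m * u) ∈ dc P (m * u) := by
      rw [dc_eq_of_cong P hc]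
      have := dc_mul_right P (show n⁻¹ * (m * u) ∈ P.B from cong_symm P hc) h
      have e : s * b * n * (n⁻¹ * (m * u)) = s * b * (m * u) := by group
      rwa [e] at this
    obtain ⟨a, ha, c, hc', hac⟩ := (mem_dc P).1 h2
    have e : s * b * m = a * (m * u * c * u⁻¹) := by
      calc s * b * m = (s * b * (m * u)) * u⁻¹ := by group
        _ = a * (m * u * c * u⁻¹) := by rw [hac]; group
    have h3 : s * b * m ∈ dc P m ∨ s * b * m ∈ dc P (m * u) := by
      rw [e]
      rcases mem_union_right P hu hmu hc' with h' | h'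
      · left
        refine dc_mul_left P ha ?_
        have hmm : Cong P (m * u * u) m := by rw [mul_assoc]; exact cong_nss P hu
        rw [← dc_eq_of_cong P hmm]
        exact h'
      · exact Or.inr (dc_mul_left P ha h')
    rcases h3 with h3 | h3
    · have hcc := cong_of_mem_dc P hsm hm h1 h3
      have : Cong P s 1 := by
        have := cong_right P hsm hm (inv_mem hm) hcc
        simpa using this
      exact s_not_mem P hs (by simpa [Cong] using inv_mem this)
    · have hcc := cong_of_mem_dc P hsm hmu h1 h3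
      have h4 : Cong P (s * n) m :=
        cong_trans P (cong_left P s (cong_symm P hc))
          (cong_trans P (cong_left P s (cong_symm P hcc)) (cong_ssn P hs hm))
      rw [len_congr P h4] at hle
      omega

theorem mem_dc_s_mul {s n b : G} (hs : s ∈ P.S) (hn : n ∈ P.N) (hb : b ∈ P.B)
    (h : len P n ≤ len P (s * n)) : s * b * n ∈ dc P (s * n) :=
  mem_dc_s_mul_aux P _ hs hn hb rfl h

theorem exists_not_fix {s : G} (hs : s ∈ P.S) : ∃ b ∈ P.B, s * b * s ∈ dc P s := by
  have key : ∀ b ∈ P.B, s * b * s ∉ P.B → s * b * s ∈ dc P s := by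
    intro b hb hnb
    rcases mem_union P hs (s_mem P hs) hb with h | h
    · have h2 : dc P (s * s) = dc P 1 := dc_eq_of_cong P (cong_ss P hs)
      rw [h2, dc_one] at h
      exact absurd h hnb
    · exact h
  by_contra hcon
  push_neg at hcon
  have hall : ∀ b ∈ P.B, s * b * s ∈ P.B := fun b hb => by
    by_contra hnb
    exact hcon b hb (key b hb hnb)
  apply P.conj_ne s hs
  ext x
  constructor
  · rintro ⟨b, hb, rfl⟩
    exact hall b hb
  · intro hx
    have hs2 := inv_mem (P.sq_mem s hs)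
    refine ⟨s⁻¹ * x * s⁻¹, ?_, by group⟩
    have h1 := hall ((s * s)⁻¹ * x * (s * s)⁻¹) (mul_mem (mul_mem hs2 hx) hs2)
    have e : s * ((s * s)⁻¹ * x * (s * s)⁻¹) * s = s⁻¹ * x * s⁻¹ := by group
    rwa [e] at h1

theorem exists_mem_dc_of_len_le {s n : G} (hs : s ∈ P.S) (hn : n ∈ P.N)
    (h : len P (s * n) ≤ len P n) : ∃ b ∈ P.B, s * b * n ∈ dc P n := by
  obtain ⟨b₀, hb₀, h0⟩ := exists_not_fix P hs
  obtain ⟨b₁, hb₁, b₂, hb₂, he⟩ := (mem_dc P).1 h0
  refine ⟨b₀ * (s * s), mul_mem hb₀ (P.sq_mem s hs), ?_⟩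
  have hsn : s * n ∈ P.N := mul_mem (s_mem P hs) hn
  have h1 : s * b₂ * (s * n) ∈ dc P (s * (s * n)) :=
    mem_dc_s_mul P hs hsn hb₂ (by rw [len_congr P (cong_ssn P hs hn)]; exact h)
  rw [dc_eq_of_cong P (cong_ssn P hs hn)] at h1
  have e : s * (b₀ * (s * s)) * n = b₁ * (s * b₂ * (s * n)) := by
    calc s * (b₀ * (s * s)) * n = (s * b₀ * s) * (s * n) := by group
      _ = b₁ * (s * b₂ * (s * n)) := by rw [he]; group
  rw [e]
  exact dc_mul_left P hb₁ h1

theorem len_s_mul_ne {s n : G} (hs : s ∈ P.S) (hn : n ∈ P.N) : len P (s * n) ≠ len P n := by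
  intro h
  obtain ⟨b, hb, hb'⟩ := exists_mem_dc_of_len_le P hs hn h.le
  have h1 := mem_dc_s_mul P hs hn hb h.ge
  have hcc := cong_of_mem_dc P (mul_mem (s_mem P hs) hn) hn h1 hb'
  have := cong_right P (mul_mem (s_mem P hs) hn) hn (inv_mem hn) hcc
  simp only [mul_inv_cancel_right, mul_inv_cancel] at this
  exact s_not_mem P hs (by simpa [Cong] using inv_mem this)

/-- The exchange condition. -/
theorem exchange : ∀ (w : List G), IsWord P.S w → len P w.prod = w.length → ∀ {s : G}, s ∈ P.S →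
    len P (s * w.prod) < w.length → ∃ i < w.length, Cong P (s * w.prod) (w.eraseIdx i).prod := by
  intro w
  induction w using List.reverseRecOn with
  | nil => intro _ _ s _ h; simp at h
  | append_singleton w u ih =>
    intro hw hl s hs hlt
    have hu : u ∈ P.S := hw u (by simp)
    have hw' : IsWord P.S w := fun x hx => hw x (by simp [hx])
    have hm := word_mem P hw'
    simp only [List.prod_append, List.prod_singleton, List.length_append,
      List.length_singleton] at hl hlt ⊢
    have hlm : len P w.prod = w.length := by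
      have h1 := len_le P hw' (cong_refl P _)
      have h2 := len_mul_s_le P hu hm
      omega
    by_cases hcase : len P (s * w.prod) < w.length
    · obtain ⟨i, hi, hc⟩ := ih hw' hlm hs hcase
      refine ⟨i, by omega, ?_⟩
      rw [List.eraseIdx_append_of_lt_length hi, List.prod_append, List.prod_singleton, ← mul_assoc]
      exact cong_right P (mul_mem (s_mem P hs) hm)
        (word_mem P (fun x hx => hw' x ((List.eraseIdx_sublist _ _).mem hx))) (s_mem P hu) hc
    · refine ⟨w.length, by omega, ?_⟩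
      rw [List.eraseIdx_append_of_length_le le_rfl]
      simp only [Nat.sub_self, List.eraseIdx_zero, List.tail_cons, List.append_nil]
      have hsm : s * w.prod ∈ P.N := mul_mem (s_mem P hs) hm
      have hmu : w.prod * u ∈ P.N := mul_mem hm (s_mem P hu)
      obtain ⟨b, hb, hb'⟩ := exists_mem_dc_of_len_le P hs hmu (by omega)
      have h1 := mem_dc_s_mul P hs hm hb (by omega)
      obtain ⟨a, ha, c, hc', hac⟩ := (mem_dc P).1 hb'
      have e : s * b * w.prod = a * (w.prod * u * c * u⁻¹) := by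
        calc s * b * w.prod = (s * b * (w.prod * u)) * u⁻¹ := by group
          _ = a * (w.prod * u * c * u⁻¹) := by rw [hac]; group
      rcases mem_union_right P hu hmu hc' with h' | h'
      · have h3 := dc_mul_left P ha h'
        rw [← e, dc_eq_of_cong P (by rw [mul_assoc]; exact cong_nss P hu :
          Cong P (w.prod * u * u) w.prod)] at h3
        have hcc := cong_of_mem_dc P hsm hm h1 h3
        have := cong_right P hsm hm (inv_mem hm) hcc
        simp only [mul_inv_cancel_right, mul_inv_cancel] at this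
        exact absurd (by simpa [Cong] using inv_mem this) (s_not_mem P hs)
      · have h3 := dc_mul_left P ha h'
        rw [← e] at h3
        have hcc := cong_of_mem_dc P hsm hmu h1 h3
        exact cong_trans P (cong_left P s (cong_symm P hcc)) (cong_ssn P hs hm)

/-- Every word contains a reduced subword with the same product modulo `B`. -/
theorem exists_reduced_sublist : ∀ {w : List G}, IsWord P.S w →
    ∃ v : List G, v.Sublist w ∧ len P w.prod = v.length ∧ Cong P v.prod w.prod := by
  intro w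
  induction w with
  | nil =>
    intro _
    refine ⟨[], List.Sublist.refl _, ?_, cong_refl P _⟩
    simpa using len_eq_zero_of_mem_B P (one_mem P.B)
  | cons s w ih =>
    intro hw
    have hs : s ∈ P.S := hw s (by simp)
    obtain ⟨v, hsub, hl, hc⟩ := ih (fun x hx => hw x (by simp [hx]))
    have hv : IsWord P.S v := fun x hx => hw x (by simp [hsub.mem hx])
    have hvN := word_mem P hv
    have hc' : Cong P (s * v.prod) (s * w.prod) := cong_left P s hc
    have hlv : len P v.prod = v.length := by rw [len_congr P hc, hl]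
    simp only [List.prod_cons]
    by_cases hlt : len P (s * v.prod) < v.length
    · obtain ⟨i, hi, hci⟩ := exchange P v hv hlv hs hlt
      refine ⟨v.eraseIdx i, (List.eraseIdx_sublist _ _).trans (hsub.trans (List.sublist_cons_self _ _)),
        ?_, cong_trans P (cong_symm P hci) hc'⟩
      rw [← len_congr P hc', List.length_eraseIdx_of_lt hi]
      have := len_s_mul_ge P hs hvN
      omega
    · refine ⟨s :: v, hsub.cons_cons s, ?_, by simpa using hc'⟩
      rw [← len_congr P hc']
      have := len_s_mul_le P hs hvN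
      have := len_s_mul_ne P hs hvN
      simp
      omega

/-! ### Parabolic subgroups -/

theorem B_le_parabolic (J : Set G) : P.B ≤ P.parabolic J := le_sup_left

theorem subset_parabolic (J : Set G) : J ⊆ P.parabolic J :=
  fun _ hx => Subgroup.mem_sup_right (Subgroup.subset_closure hx)

theorem exists_mem_dc_of_mem_parabolic {J : Set G} (hJ : J ⊆ P.S) {g : G}
    (hg : g ∈ P.parabolic J) : ∃ n ∈ Subgroup.closure J, g ∈ dc P n := by
  have hJN : Subgroup.closure J ≤ P.N :=
    (Subgroup.closure_le _).2 (hJ.trans P.subset)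
  have e : P.parabolic J = Subgroup.closure ((P.B : Set G) ∪ J) := by
    rw [Subgroup.closure_union, Subgroup.closure_eq]; rfl
  rw [e] at hg
  induction hg using Subgroup.closure_induction_left with
  | one => exact ⟨1, one_mem _, mem_dc_self P 1⟩
  | mul_left x hx y hy ih =>
    obtain ⟨n, hn, hy'⟩ := ih
    rcases hx with hx | hx
    · exact ⟨n, hn, dc_mul_left P hx hy'⟩
    · obtain ⟨a, ha, c, hc, rfl⟩ := (mem_dc P).1 hy'
      have hxa : x * (a * n * c) = x * a * n * c := by group
      rw [hxa]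
      rcases mem_union P (hJ hx) (hJN hn) ha with h | h
      · exact ⟨x * n, mul_mem (Subgroup.subset_closure hx) hn, dc_mul_right P hc h⟩
      · exact ⟨n, hn, dc_mul_right P hc h⟩
  | inv_mul_cancel x hx y hy ih =>
    obtain ⟨n, hn, hy'⟩ := ih
    rcases hx with hx | hx
    · exact ⟨n, hn, dc_mul_left P (inv_mem hx) hy'⟩
    · obtain ⟨a, ha, c, hc, rfl⟩ := (mem_dc P).1 hy'
      have hxa : x⁻¹ * (a * n * c) = x⁻¹ * a * n * c := by group
      rw [hxa]
      rcases mem_union_inv P (hJ hx) (hJN hn) ha with h | h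
      · exact ⟨x * n, mul_mem (Subgroup.subset_closure hx) hn, dc_mul_right P hc h⟩
      · exact ⟨n, hn, dc_mul_right P hc h⟩

theorem mem_parabolic_iff {J : Set G} (hJ : J ⊆ P.S) (g : G) :
    g ∈ P.parabolic J ↔ ∃ n ∈ Subgroup.closure J, g ∈ dc P n := by
  refine ⟨exists_mem_dc_of_mem_parabolic P hJ, ?_⟩
  rintro ⟨n, hn, hg⟩
  obtain ⟨a, ha, c, hc, rfl⟩ := (mem_dc P).1 hg
  exact mul_mem (mul_mem (B_le_parabolic P J ha) (Subgroup.mem_sup_right hn)) (B_le_parabolic P J hc)

theorem parabolic_S : P.parabolic P.S = ⊤ := by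
  rw [eq_top_iff, ← P.sup_eq_top]
  refine sup_le le_sup_left ?_
  have h := P.closure_sup
  refine le_of_eq_of_le h.symm (sup_le le_sup_right (inf_le_left.trans le_sup_left))

theorem bruhat (g : G) : ∃ n ∈ P.N, g ∈ dc P n := by
  obtain ⟨n, hn, h⟩ :=
    exists_mem_dc_of_mem_parabolic P (subset_refl _) (g := g) (by rw [parabolic_S]; trivial)
  exact ⟨n, (Subgroup.closure_le _).2 P.subset hn, h⟩

/-- A distinguished representative lies in a parabolic subgroup only if it is one of its generators. -/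
theorem mem_of_mem_parabolic {J : Set G} (hJ : J ⊆ P.S) {s : G} (hs : s ∈ P.S)
    (h : s ∈ P.parabolic J) : s ∈ J := by
  obtain ⟨n, hn, hsn⟩ := exists_mem_dc_of_mem_parabolic P hJ h
  obtain ⟨hnN, w, hw, hc⟩ := exists_word_of_mem_closure P hJ hn
  have hwS : IsWord P.S w := fun x hx => hJ (hw x hx)
  have hsn' : Cong P s n := cong_of_dc_eq P (s_mem P hs) hnN (dc_eq_of_mem P hsn)
  obtain ⟨v, hsub, hl, hcv⟩ := exists_reduced_sublist P hwS
  rw [len_congr P (cong_trans P hc (cong_symm P hsn')), len_s P hs] at hl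
  obtain ⟨j, rfl⟩ := List.length_eq_one_iff.1 hl.symm
  have hj : j ∈ J := hw j (hsub.mem (by simp))
  have : Cong P j s :=
    cong_trans P (by simpa using hcv) (cong_trans P hc (cong_symm P hsn'))
  have heq := P.inj j (hJ hj) s hs this
  exact heq ▸ hj

theorem s_mem_of_descent {M : Subgroup G} (hM : P.B ≤ M) {s n : G} (hs : s ∈ P.S) (hn : n ∈ P.N)
    (hle : len P (s * n) ≤ len P n) (hnM : n ∈ M) : s ∈ M := by
  obtain ⟨b, hb, h⟩ := exists_mem_dc_of_len_le P hs hn hle
  obtain ⟨a, ha, c, hc, he⟩ := (mem_dc P).1 h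
  have : s * b * n ∈ M := he ▸ mul_mem (mul_mem (hM ha) hnM) (hM hc)
  rwa [Subgroup.mul_mem_cancel_right _ hnM, Subgroup.mul_mem_cancel_right _ (hM hb)] at this

theorem mem_parabolic_of_mem {M : Subgroup G} (hM : P.B ≤ M) :
    ∀ (k : ℕ) {n : G}, n ∈ P.N → len P n = k → n ∈ M → n ∈ P.parabolic {s ∈ P.S | s ∈ M} := by
  intro k
  induction k with
  | zero =>
    intro n hn hk _
    exact B_le_parabolic P _ (mem_B_of_len_eq_zero P hn hk)
  | succ k ih =>
    intro n hn hk hnM
    obtain ⟨s, hs, m, hm, hlm, hc⟩ := exists_left P hn (by omega)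
    have hlen : len P (s * n) = len P m :=
      len_congr P (cong_trans P (cong_left P s (cong_symm P hc)) (cong_ssn P hs hm))
    have hsM : s ∈ M := s_mem_of_descent P hM hs hn (by omega) hnM
    have hsmM : s * m ∈ M := by
      have h2 := mul_mem hnM (hM (cong_symm P hc))
      simpa using h2
    have hmM : m ∈ M := (Subgroup.mul_mem_cancel_left _ hsM).1 hsmM
    have h1 := mul_mem (subset_parabolic P _ (show s ∈ {x ∈ P.S | x ∈ M} from ⟨hs, hsM⟩))
      (ih hm (by omega) hmM)
    have h2 := mul_mem h1 (B_le_parabolic P {x ∈ P.S | x ∈ M} hc)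
    have e : s * m * ((s * m)⁻¹ * n) = n := by group
    rwa [e] at h2

theorem eq_parabolic {M : Subgroup G} (hM : P.B ≤ M) : M = P.parabolic {s ∈ P.S | s ∈ M} := by
  apply le_antisymm
  · intro g hg
    obtain ⟨n, hn, h⟩ := bruhat P g
    obtain ⟨a, ha, c, hc, rfl⟩ := (mem_dc P).1 h
    have hnM : n ∈ M := by
      rwa [Subgroup.mul_mem_cancel_right _ (hM hc), Subgroup.mul_mem_cancel_left _ (hM ha)] at hg
    exact mul_mem (mul_mem (B_le_parabolic P _ ha) (mem_parabolic_of_mem P hM _ hn rfl hnM))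
      (B_le_parabolic P _ hc)
  · exact sup_le hM ((Subgroup.closure_le _).2 fun x hx => hx.2)

theorem mem_of_conj_le_aux {M : Subgroup G} (hM : P.B ≤ M) :
    ∀ (k : ℕ) {n : G}, n ∈ P.N → len P n = k → (∀ b ∈ P.B, n * b * n⁻¹ ∈ M) → n ∈ M := by
  intro k
  induction k with
  | zero =>
    intro n hn hk _
    exact hM (mem_B_of_len_eq_zero P hn hk)
  | succ k ih =>
    intro n hn hk hconj
    obtain ⟨s, hs, m, hm, hlm, hc⟩ := exists_left P hn (by omega)
    have hlen : len P (s * n) = len P m :=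
      len_congr P (cong_trans P (cong_left P s (cong_symm P hc)) (cong_ssn P hs hm))
    have hsM : s ∈ M := by
      obtain ⟨b, hb, h⟩ := exists_mem_dc_of_len_le P hs hn (by omega)
      obtain ⟨a, ha, c, hc', he⟩ := (mem_dc P).1 h
      have hsb : s * b = a * (n * c * n⁻¹) := by
        calc s * b = (s * b * n) * n⁻¹ := by group
          _ = a * (n * c * n⁻¹) := by rw [he]; group
      have : s * b ∈ M := hsb ▸ mul_mem (hM ha) (hconj c hc')
      rwa [Subgroup.mul_mem_cancel_right _ (hM hb)] at this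
    obtain ⟨t, ht, rfl⟩ : ∃ t ∈ P.B, s * m * t = n := ⟨_, hc, by group⟩
    have hmM : m ∈ M := by
      refine ih hm (by omega) fun b hb => ?_
      have h1 := hconj (t⁻¹ * b * t) (mul_mem (mul_mem (inv_mem ht) hb) ht)
      have e : s * m * t * (t⁻¹ * b * t) * (s * m * t)⁻¹ = s * (m * b * m⁻¹) * s⁻¹ := by group
      rw [e, Subgroup.mul_mem_cancel_right _ (inv_mem hsM),
        Subgroup.mul_mem_cancel_left _ hsM] at h1
      exact h1
    exact mul_mem (mul_mem hsM hmM) (hM ht)

theorem mem_of_conj_le {M : Subgroup G} (hM : P.B ≤ M) {g : G}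
    (h : ∀ b ∈ P.B, g * b * g⁻¹ ∈ M) : g ∈ M := by
  obtain ⟨n, hn, hg⟩ := bruhat P g
  obtain ⟨a, ha, c, hc, rfl⟩ := (mem_dc P).1 hg
  refine mul_mem (mul_mem (hM ha) (mem_of_conj_le_aux P hM _ hn rfl fun b hb => ?_)) (hM hc)
  have h1 := h (c⁻¹ * b * c) (mul_mem (mul_mem (inv_mem hc) hb) hc)
  have e : a * n * c * (c⁻¹ * b * c) * (a * n * c)⁻¹ = a * (n * b * n⁻¹) * a⁻¹ := by group
  rw [e, Subgroup.mul_mem_cancel_right _ (inv_mem (hM ha)),
    Subgroup.mul_mem_cancel_left _ (hM ha)] at h1
  exact h1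

end Cfsg.Agent.Lib.BNPair
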