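import Mathlib

/-!
A group generated by involutions with the exchange condition is a Coxeter group.
-/

set_option autoImplicit false

namespace Cfsg.Agent.Lib.BNPair

variable {W : Type*} [Group W] {B : Type*}

/-- Generators of order two satisfying the exchange condition. -/
structure ExchangeData (W : Type*) [Group W] (B : Type*) where
  gen : B → W
  len : W → ℕ
  sq : ∀ i, gen i * gen i = 1
  ne_one : ∀ i, gen i ≠ 1
  gen_inj : Function.Injective gen
  len_one : len 1 = 0
  exists_word : ∀ w, ∃ ω : List B, ω.length = len w ∧ (ω.map gen).prod = w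
  len_le : ∀ ω : List B, len (ω.map gen).prod ≤ ω.length
  len_mul_ne : ∀ i w, len (gen i * w) ≠ len w
  exch : ∀ (ω : List B) (i : B), len (ω.map gen).prod = ω.length →
    len (gen i * (ω.map gen).prod) < ω.length →
    ∃ j < ω.length, gen i * (ω.map gen).prod = ((ω.eraseIdx j).map gen).prod

namespace ExchangeData

variable (E : ExchangeData W B)

/-- Product of a word. -/
def pw (ω : List B) : W := (ω.map E.gen).prod

/-- Reduced word. -/
def Red (ω : List B) : Prop := E.len (E.pw ω) = ω.length

theorem pw_cons (i : B) (ω : List B) : E.pw (i :: ω) = E.gen i * E.pw ω := by simp [pw]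

theorem pw_append (ω ω' : List B) : E.pw (ω ++ ω') = E.pw ω * E.pw ω' := by simp [pw]

theorem len_gen_mul_le (i : B) (w : W) : E.len (E.gen i * w) ≤ E.len w + 1 := by
  obtain ⟨ω, hl, rfl⟩ := E.exists_word w
  have := E.len_le (i :: ω)
  simpa [hl] using this

theorem len_le_gen_mul (i : B) (w : W) : E.len w ≤ E.len (E.gen i * w) + 1 := by
  have := E.len_gen_mul_le i (E.gen i * w)
  rwa [← mul_assoc, E.sq, one_mul] at this

theorem len_gen_mul_or (i : B) (w : W) :
    E.len (E.gen i * w) = E.len w + 1 ∨ E.len (E.gen i * w) + 1 = E.len w := by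
  have := E.len_gen_mul_le i w
  have := E.len_le_gen_mul i w
  have := E.len_mul_ne i w
  omega

theorem red_tail {i : B} {ω : List B} (h : E.Red (i :: ω)) : E.Red ω := by
  have h1 := E.len_le ω
  have h2 := E.len_gen_mul_le i (E.pw ω)
  unfold Red at *
  rw [E.pw_cons, List.length_cons] at h
  simp only [pw] at *
  omega

theorem red_of_append_left {α γ : List B} (h : E.Red (α ++ γ)) : E.Red α := by
  have h1 := E.len_le α
  obtain ⟨v, hv, hv'⟩ := E.exists_word (E.pw α)
  have h2 := E.len_le (v ++ γ)
  unfold Red at *
  rw [List.map_append, List.prod_append, hv', List.length_append] at h2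
  rw [E.pw_append, List.length_append] at h
  simp only [pw] at *
  omega

theorem not_red_double (i : B) (ω : List B) : ¬ E.Red (i :: i :: ω) := by
  intro h
  unfold Red at h
  rw [E.pw_cons, E.pw_cons, ← mul_assoc, E.sq, one_mul] at h
  have := E.len_le ω
  simp only [pw, List.length_cons] at h this
  omega

/-- The alternating word `a b a b …` of length `n`. -/
def alt (a b : B) : ℕ → List B
  | 0 => []
  | n + 1 => a :: alt b a n

omit [Group W] in
theorem length_alt (a b : B) (n : ℕ) : (alt a b n).length = n := by
  induction n generalizing a b with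
  | zero => rfl
  | succ n ih => simp [alt, ih]

omit [Group W] in
theorem mem_alt {a b x : B} {n : ℕ} (h : x ∈ alt a b n) : x = a ∨ x = b := by
  induction n generalizing a b with
  | zero => simp [alt] at h
  | succ n ih =>
    rcases List.mem_cons.1 h with h | h
    · exact Or.inl h
    · exact (ih h).symm

theorem red_eq_alt : ∀ (ω : List B) {a b : B}, E.Red ω → (∀ x ∈ ω, x = a ∨ x = b) →
    (ω.head? = some a ∨ ω = []) → ω = alt a b ω.length := by
  intro ω
  induction ω with
  | nil => intros; rfl
  | cons x ω ih =>
    intro a b hred hmem hhead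
    obtain rfl : x = a := by simpa using hhead
    simp only [List.length_cons, alt, List.cons.injEq, true_and]
    refine ih (E.red_tail hred) (fun y hy => (hmem y (by simp [hy])).symm) ?_
    cases ω with
    | nil => exact Or.inr rfl
    | cons y ω =>
      left
      rcases hmem y (by simp) with rfl | rfl
      · exact absurd hred (E.not_red_double _ _)
      · rfl

theorem alt_prod_eq_iff {H : Type*} [Group H] (f : B → H) (hsq : ∀ i, f i * f i = 1)
    (a b : B) (n : ℕ) :
    ((alt a b n).map f).prod = ((alt b a n).map f).prod ↔ (f a * f b) ^ n = 1 := by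
  have key : ∀ (n : ℕ) (a b : B), (((alt a b n).map f).prod)⁻¹ * ((alt b a n).map f).prod =
      if n % 2 = 0 then (f b * f a) ^ n else (f a * f b) ^ n := by
    intro n
    induction n with
    | zero => intro a b; simp [alt]
    | succ n ih =>
      intro a b
      simp only [alt, List.map_cons, List.prod_cons, mul_inv_rev]
      have e1 : (f a)⁻¹ = f a := inv_eq_of_mul_eq_one_right (hsq a)
      rw [e1]
      have e2 : (((alt b a n).map f).prod)⁻¹ * f a * (f b * ((alt a b n).map f).prod) =
          (((alt b a n).map f).prod)⁻¹ * (f a * f b) * ((alt a b n).map f).prod := by group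
      rw [e2]
      -- commute the middle factor through
      have key2 : ∀ (n : ℕ) (a b : B), (((alt b a n).map f).prod)⁻¹ * (f a * f b) *
          ((alt b a n).map f).prod = if n % 2 = 0 then f a * f b else f b * f a := by
        intro n
        induction n with
        | zero => intro a b; simp [alt]
        | succ n ih2 =>
          intro a b
          simp only [alt, List.map_cons, List.prod_cons, mul_inv_rev]
          have e3 : (((alt a b n).map f).prod)⁻¹ * (f b)⁻¹ * (f a * f b) *
              (f b * ((alt a b n).map f).prod) = (((alt a b n).map f).prod)⁻¹ * (f b * f a) *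
              ((alt a b n).map f).prod := by
            rw [inv_eq_of_mul_eq_one_right (hsq b)]
            calc _ = (((alt a b n).map f).prod)⁻¹ * (f b * f a * (f b * f b)) *
                ((alt a b n).map f).prod := by simp only [mul_assoc]
              _ = _ := by rw [hsq, mul_one]
          rw [e3, ih2 b a]
          rcases Nat.mod_two_eq_zero_or_one n with h | h <;> simp [h, Nat.add_mod]
      have e4 : (((alt b a n).map f).prod)⁻¹ * (f a * f b) * ((alt a b n).map f).prod =
          ((((alt b a n).map f).prod)⁻¹ * (f a * f b) * ((alt b a n).map f).prod) *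
            ((((alt b a n).map f).prod)⁻¹ * ((alt a b n).map f).prod) := by group
      rw [e4, key2, ih b a]
      rcases Nat.mod_two_eq_zero_or_one n with h | h <;> simp [h, Nat.add_mod, ← pow_succ']
  rw [← inv_mul_eq_one, key]
  split
  · rw [show f b * f a = (f a * f b)⁻¹ by
      rw [mul_inv_rev, inv_eq_of_mul_eq_one_right (hsq a), inv_eq_of_mul_eq_one_right (hsq b)],
      inv_pow, inv_eq_one]
  · rfl

theorem pw_alt_eq_iff (a b : B) (n : ℕ) :
    E.pw (alt a b n) = E.pw (alt b a n) ↔ (E.gen a * E.gen b) ^ n = 1 :=
  alt_prod_eq_iff E.gen E.sq a b n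

variable {H : Type*} [Group H]

/-- Product of the images of a word. -/
def fw (f : B → H) (ω : List B) : H := (ω.map f).prod

theorem fw_cons (f : B → H) (i : B) (ω : List B) : fw f (i :: ω) = f i * fw f ω := by simp [fw]

theorem fw_append (f : B → H) (ω ω' : List B) : fw f (ω ++ ω') = fw f ω * fw f ω' := by simp [fw]

/-- Reduced words with the same product have the same image. -/
theorem fw_eq (f : B → H)
    (hf : ∀ i i', fw f (alt i i' (orderOf (E.gen i * E.gen i'))) =
      fw f (alt i' i (orderOf (E.gen i * E.gen i')))) :
    ∀ (k : ℕ) (x y : List B), E.Red x → E.Red y → x.length = k → E.pw x = E.pw y →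
      fw f x = fw f y := by
  intro k
  induction k using Nat.strong_induction_on with
  | _ k ihs =>
  match k, ihs with
  | 0, _ =>
    intro x y hx hy hk he
    have : y.length = 0 := by rw [← hy, ← he, hx, hk]
    rw [List.length_eq_zero_iff.1 hk, List.length_eq_zero_iff.1 this]
  | k + 1, ihs =>
    intro x y hx hy hk he
    have ih := ihs k (Nat.lt_succ_self k)
    have hky : y.length = k + 1 := by rw [← hy, ← he, hx, hk]
    have same : ∀ (c : B) (u v : List B), E.Red (c :: u) → E.Red (c :: v) →
        u.length = k → E.pw (c :: u) = E.pw (c :: v) → fw f (c :: u) = fw f (c :: v) := by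
      intro c u v hu hv hlu hp
      rw [fw_cons, fw_cons, ih u v (E.red_tail hu) (E.red_tail hv) hlu]
      rwa [E.pw_cons, E.pw_cons, mul_right_inj] at hp
    match x, y, hk, hky with
    | a :: x, b :: y, hk, hky =>
    simp only [List.length_cons, add_left_inj] at hk hky
    by_cases hab : a = b
    · subst hab; exact same a x y hx hy hk he
    set M := orderOf (E.gen a * E.gen b) with hM
    have main : ∀ n, n ≤ k + 1 → (M = 0 ∨ n ≤ M) → fw f (a :: x) = fw f (b :: y) ∨
        ∃ γ δ, E.Red (alt a b n ++ γ) ∧ E.Red (alt b a n ++ δ) ∧
          (alt a b n ++ γ).length = k + 1 ∧ (alt b a n ++ δ).length = k + 1 ∧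
          E.pw (alt a b n ++ γ) = E.pw (a :: x) ∧ E.pw (alt b a n ++ δ) = E.pw (a :: x) ∧
          fw f (alt a b n ++ γ) = fw f (a :: x) ∧ fw f (alt b a n ++ δ) = fw f (b :: y) := by
      intro n
      induction n with
      | zero =>
        intro _ _
        exact Or.inr ⟨a :: x, b :: y, hx, hy, by simp [alt, hk], by simp [alt, hky],
          rfl, by simp [alt, he], rfl, rfl⟩
      | succ n ihn =>
        intro hn hnM
        by_cases hn0 : n = 0
        · subst hn0
          exact Or.inr ⟨x, y, hx, hy, by simp [alt, hk], by simp [alt, hky],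
            rfl, he.symm, rfl, rfl⟩
        rcases ihn (by omega) (by omega) with h | ⟨γ, δ, hg, hd, hlg, hld, hpg, hpd, hfg, hfd⟩
        · exact Or.inl h
        -- extend each side using a descent from the other
        have step : ∀ (p q : B) (γ δ : List B) (z : List B), p ≠ q →
            orderOf (E.gen p * E.gen q) = M →
            E.Red (alt p q n ++ γ) → E.Red (alt q p n ++ δ) →
            (alt p q n ++ γ).length = k + 1 → (alt q p n ++ δ).length = k + 1 →
            E.pw (alt p q n ++ γ) = E.pw z → E.pw (alt q p n ++ δ) = E.pw z →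
            ∃ γ', E.Red (alt p q (n + 1) ++ γ') ∧ (alt p q (n + 1) ++ γ').length = k + 1 ∧
              E.pw (alt p q (n + 1) ++ γ') = E.pw z ∧
              fw f (alt p q (n + 1) ++ γ') = fw f (alt p q n ++ γ) := by
          intro p q γ δ z hpq hord hg hd hlg hld hpg hpd
          have hnM' : M = 0 ∨ n < M := hnM.imp id (fun h => Nat.lt_of_succ_le h)
          obtain ⟨n', rfl⟩ : ∃ n', n = n' + 1 := Nat.exists_eq_succ_of_ne_zero hn0
          have hlt : E.len (E.gen p * E.pw (alt q p (n' + 1) ++ δ)) < (alt q p (n' + 1) ++ δ).length := by
            rw [hld, hpd, ← hpg]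
            have e : alt p q (n' + 1) ++ γ = p :: (alt q p n' ++ γ) := rfl
            rw [e, E.pw_cons, ← mul_assoc, E.sq, one_mul]
            have := E.len_le (alt q p n' ++ γ)
            rw [e, List.length_cons] at hlg
            simp only [pw]
            omega
          obtain ⟨j, hj, hje⟩ := E.exch (alt q p (n' + 1) ++ δ) p hd hlt
          change E.gen p * E.pw (alt q p (n' + 1) ++ δ) = E.pw _ at hje
          have hje' : E.pw (p :: (alt q p (n' + 1) ++ δ).eraseIdx j) = E.pw z := by
            rw [E.pw_cons, ← hje, ← mul_assoc, E.sq, one_mul, hpd]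
          have hlen' : (p :: (alt q p (n' + 1) ++ δ).eraseIdx j).length = k + 1 := by
            rw [List.length_cons, List.length_eraseIdx_of_lt hj, hld]
            omega
          have hred' : E.Red (p :: (alt q p (n' + 1) ++ δ).eraseIdx j) := by
            show E.len _ = _
            rw [hje', ← hpg, hlen', ← hlg]
            exact hg
          by_cases hjn : j < n' + 1
          · exfalso
            have hjl : j < (alt q p (n' + 1)).length := by rw [length_alt]; exact hjn
            rw [List.eraseIdx_append_of_lt_length hjl] at hje' hlen' hred'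
            set u := p :: (alt q p (n' + 1)).eraseIdx j with hu
            have hred_u : E.Red u := E.red_of_append_left (γ := δ) (by rw [hu, List.cons_append]; exact hred')
            have hlu : u.length = n' + 1 := by
              rw [hu, List.length_cons, List.length_eraseIdx_of_lt hjl, length_alt]
              omega
            have hu_alt : u = alt p q u.length := by
              refine E.red_eq_alt u hred_u ?_ (Or.inl rfl)
              intro x hx
              rcases List.mem_cons.1 hx with h | h
              · exact Or.inl h
              · exact (mem_alt ((List.eraseIdx_sublist _ _).mem h)).symm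
            rw [hlu] at hu_alt
            have hp : E.pw (alt p q (n' + 1)) = E.pw (alt q p (n' + 1)) := by
              have h1 : E.pw (u ++ δ) = E.pw (alt q p (n' + 1) ++ δ) := by
                rw [hpd, ← hje', hu]; rfl
              rw [hu_alt, E.pw_append, E.pw_append, mul_left_inj] at h1
              exact h1
            rw [E.pw_alt_eq_iff, ← orderOf_dvd_iff_pow_eq_one, hord] at hp
            rcases hnM' with h | h
            · rw [h] at hp; simp at hp
            · have := Nat.le_of_dvd (by omega) hp
              omega
          · rw [List.eraseIdx_append_of_length_le (by rw [length_alt]; omega), length_alt] at hje' hlen' hred'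
            refine ⟨δ.eraseIdx (j - (n' + 1)), hred', hlen', hje', ?_⟩
            have e1 : alt p q (n' + 1 + 1) ++ δ.eraseIdx (j - (n' + 1)) =
                p :: (alt q p (n' + 1) ++ δ.eraseIdx (j - (n' + 1))) := rfl
            have e2 : alt p q (n' + 1) ++ γ = p :: (alt q p n' ++ γ) := rfl
            rw [e1, e2]
            refine same p _ _ hred' (e2 ▸ hg) (by simpa using hlen') ?_
            rw [hje', ← hpg]
            rfl
        have hordba : orderOf (E.gen b * E.gen a) = M := by
          rw [hM, ← orderOf_inv, mul_inv_rev, inv_eq_of_mul_eq_one_right (E.sq b),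
            inv_eq_of_mul_eq_one_right (E.sq a)]
        obtain ⟨γ', h1, h2, h3, h4⟩ :=
          step a b γ δ (a :: x) hab hM.symm hg hd hlg hld hpg hpd
        obtain ⟨δ', h1', h2', h3', h4'⟩ :=
          step b a δ γ (a :: x) (Ne.symm hab) hordba hd hg hld hlg hpd hpg
        exact Or.inr ⟨γ', δ', h1, h1', h2, h2', h3, h3', h4.trans hfg, h4'.trans hfd⟩
    by_cases hMk : M ≠ 0 ∧ M ≤ k + 1
    · rcases main M hMk.2 (Or.inr le_rfl) with h | ⟨γ, δ, hg, hd, hlg, hld, hpg, hpd, hfg, hfd⟩
      · exact h
      rw [← hfg, ← hfd, fw_append, fw_append]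
      have hb := hf a b
      rw [← hM] at hb
      rw [hb]
      congr 1
      have hpb : E.pw (alt a b M) = E.pw (alt b a M) :=
        (E.pw_alt_eq_iff a b M).2 (hM ▸ pow_orderOf_eq_one _)
      rw [E.pw_append] at hpg hpd
      rw [hpb] at hpg
      have hgd : E.pw γ = E.pw δ := mul_left_cancel (hpg.trans hpd.symm)
      have hsuf : ∀ (α γ : List B), E.Red (α ++ γ) → E.Red γ := by
        intro α γ
        induction α with
        | nil => exact id
        | cons c α ihα => exact fun h => ihα (E.red_tail h)
      have hlg' : γ.length ≤ k := by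
        rw [List.length_append, length_alt] at hlg
        omega
      exact ihs γ.length (by omega) γ δ (hsuf _ _ hg) (hsuf _ _ hd) rfl hgd
    · have hM' : M = 0 ∨ k + 1 < M := by omega
      rcases main (k + 1) le_rfl (hM'.imp id le_of_lt) with h | ⟨γ, δ, hg, hd, hlg, hld, hpg, hpd, -, -⟩
      · exact h
      · exfalso
        have hγ : γ = [] := List.length_eq_zero_iff.1 (by
            rw [List.length_append, length_alt] at hlg; omega)
        have hδ : δ = [] := List.length_eq_zero_iff.1 (by
          rw [List.length_append, length_alt] at hld; omega)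
        subst hγ hδ
        rw [List.append_nil] at hpg hpd
        have hp := hpg.trans hpd.symm
        rw [E.pw_alt_eq_iff, ← orderOf_dvd_iff_pow_eq_one, ← hM] at hp
        rcases hM' with h | h
        · rw [h] at hp; simp at hp
        · have := Nat.le_of_dvd (by omega) hp
          omega

/-- The Coxeter matrix of orders of products. -/
noncomputable def cmatrix : CoxeterMatrix B where
  M := Matrix.of fun i i' => orderOf (E.gen i * E.gen i')
  isSymm := by
    ext i i'
    simp only [Matrix.transpose_apply, Matrix.of_apply]
    rw [← orderOf_inv, mul_inv_rev, inv_eq_of_mul_eq_one_right (E.sq i'),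
      inv_eq_of_mul_eq_one_right (E.sq i)]
  diagonal i := by rw [Matrix.of_apply, E.sq, orderOf_one]
  off_diagonal i i' h := by
    rw [Matrix.of_apply, Ne, orderOf_eq_one_iff]
    intro he
    apply h
    apply E.gen_inj
    calc E.gen i = E.gen i * (E.gen i' * E.gen i') := by rw [E.sq, mul_one]
      _ = (E.gen i * E.gen i') * E.gen i' := by group
      _ = E.gen i' := by rw [he, one_mul]

theorem cmatrix_apply (i i' : B) : E.cmatrix i i' = orderOf (E.gen i * E.gen i') := rfl

theorem liftable : E.cmatrix.IsLiftable E.gen := fun i i' => by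
  rw [cmatrix_apply]; exact pow_orderOf_eq_one _

/-- The canonical map from the Coxeter group. -/
noncomputable def toW : E.cmatrix.Group →* W :=
  E.cmatrix.toCoxeterSystem.lift ⟨E.gen, E.liftable⟩

theorem toW_simple (i : B) : E.toW (E.cmatrix.simple i) = E.gen i :=
  E.cmatrix.toCoxeterSystem.lift_apply_simple E.liftable i

/-- The inverse map, through reduced words. -/
noncomputable def fromW (w : W) : E.cmatrix.Group :=
  fw E.cmatrix.simple (E.exists_word w).choose

theorem fromW_eq {w : W} {ω : List B} (h : E.Red ω) (he : E.pw ω = w) :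
    E.fromW w = fw E.cmatrix.simple ω := by
  have hs := (E.exists_word w).choose_spec
  have hsq : ∀ i, E.cmatrix.simple i * E.cmatrix.simple i = 1 :=
    E.cmatrix.toCoxeterSystem.simple_mul_simple_self
  refine E.fw_eq E.cmatrix.simple (fun i i' => ?_) _ _ ω ?_ h rfl ?_
  · refine (alt_prod_eq_iff _ hsq i i' _).2 ?_
    rw [← cmatrix_apply]
    exact E.cmatrix.toCoxeterSystem.simple_mul_simple_pow i i'
  · show E.len _ = _
    exact (congrArg E.len hs.2).trans hs.1.symm
  · exact hs.2.trans he.symm

theorem fromW_gen_mul (i : B) (w : W) : E.fromW (E.gen i * w) = E.cmatrix.simple i * E.fromW w := by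
  have hsq : ∀ i, E.cmatrix.simple i * E.cmatrix.simple i = 1 :=
    E.cmatrix.toCoxeterSystem.simple_mul_simple_self
  rcases E.len_gen_mul_or i w with hl | hl
  · obtain ⟨ω, hω, hp⟩ := E.exists_word w
    have hp' : E.pw (i :: ω) = E.gen i * w := by
      rw [E.pw_cons]; exact congrArg _ hp
    rw [E.fromW_eq (show E.Red ω from (congrArg E.len hp).trans hω.symm) hp,
      E.fromW_eq (ω := i :: ω) ?_ hp', fw_cons]
    show E.len _ = _
    rw [hp', hl, List.length_cons, hω]
  · obtain ⟨ω, hω, hp⟩ := E.exists_word (E.gen i * w)
    have hp' : E.pw (i :: ω) = w := by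
      rw [E.pw_cons]
      show E.gen i * (ω.map E.gen).prod = w
      rw [hp, ← mul_assoc, E.sq, one_mul]
    rw [E.fromW_eq (show E.Red ω from (congrArg E.len hp).trans hω.symm) hp,
      E.fromW_eq (ω := i :: ω) ?_ hp', fw_cons, ← mul_assoc, hsq, one_mul]
    show E.len _ = _
    rw [hp', List.length_cons, hω, hl]

theorem toW_bijective : Function.Bijective E.toW := by
  constructor
  · have key : ∀ x, E.fromW (E.toW x) = x := by
      intro x
      induction x using E.cmatrix.toCoxeterSystem.simple_induction_left with
      | one =>
        rw [map_one, E.fromW_eq (w := (1 : W)) (ω := []) ?_ rfl]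
        · rfl
        · show E.len (E.pw []) = 0
          exact E.len_one
      | mul_simple_left x i ih =>
        rw [map_mul, CoxeterMatrix.toCoxeterSystem_simple, toW_simple, E.fromW_gen_mul, ih]
    exact Function.LeftInverse.injective key
  · intro w
    obtain ⟨ω, -, hp⟩ := E.exists_word w
    refine ⟨(ω.map E.cmatrix.simple).prod, ?_⟩
    rw [map_list_prod, List.map_map, ← hp]
    congr 2
    funext i
    exact E.toW_simple i

/-- The Coxeter system. -/
noncomputable def system : CoxeterSystem E.cmatrix W :=
  ⟨(MulEquiv.ofBijective E.toW E.toW_bijective).symm⟩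

theorem system_simple (i : B) : E.system.simple i = E.gen i := by
  rw [CoxeterSystem.simple]
  exact E.toW_simple i

end ExchangeData

end Cfsg.Agent.Lib.BNPair
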