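import Mathlib
import Cfsg.Agent.Lib.BNPair.Coxeter

/-!
Minimal coset representatives and the longest element, from the exchange condition.
-/

set_option autoImplicit false

namespace Cfsg.Agent.Lib.BNPair

namespace ExchangeData

variable {W : Type*} [Group W] {I : Type*} (E : ExchangeData W I)

theorem gen_inv (i : I) : (E.gen i)⁻¹ = E.gen i := inv_eq_of_mul_eq_one_right (E.sq i)

theorem pw_reverse (ω : List I) : E.pw ω.reverse = (E.pw ω)⁻¹ := by
  induction ω with
  | nil => simp [pw]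
  | cons i ω ih =>
    rw [List.reverse_cons, E.pw_append, E.pw_cons i ω, mul_inv_rev, ih, E.gen_inv]
    simp [pw]

theorem len_inv_le (w : W) : E.len w⁻¹ ≤ E.len w := by
  obtain ⟨ω, hl, he⟩ := E.exists_word w
  have h := E.len_le ω.reverse
  rw [List.length_reverse, hl] at h
  change E.len (E.pw ω.reverse) ≤ _ at h
  rw [E.pw_reverse] at h
  change E.pw ω = w at he
  rwa [he] at h

theorem len_inv (w : W) : E.len w⁻¹ = E.len w :=
  le_antisymm (E.len_inv_le w) (by simpa using E.len_inv_le w⁻¹)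

theorem len_mul_le (u v : W) : E.len (u * v) ≤ E.len u + E.len v := by
  obtain ⟨α, hα, he⟩ := E.exists_word u
  obtain ⟨β, hβ, he'⟩ := E.exists_word v
  have h := E.len_le (α ++ β)
  rwa [List.map_append, List.prod_append, he, he', List.length_append, hα, hβ] at h

theorem eq_one_of_len_eq_zero {w : W} (h : E.len w = 0) : w = 1 := by
  obtain ⟨ω, hl, he⟩ := E.exists_word w
  rw [h, List.length_eq_zero_iff] at hl
  rw [← he, hl]; rfl

theorem len_pw_le (ω : List I) : E.len (E.pw ω) ≤ ω.length := E.len_le ω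

theorem exists_word' (w : W) : ∃ ω : List I, ω.length = E.len w ∧ E.pw ω = w := E.exists_word w

/-- Deletion. -/
theorem exists_red_sublist : ∀ ω : List I, ∃ v : List I, v.Sublist ω ∧ E.Red v ∧ E.pw v = E.pw ω := by
  intro ω
  induction ω with
  | nil => exact ⟨[], List.Sublist.refl _, E.len_one, rfl⟩
  | cons i ω ih =>
    obtain ⟨v, hsub, hred, he⟩ := ih
    have he' : E.pw (i :: ω) = E.gen i * E.pw v := by rw [E.pw_cons, he]
    rcases E.len_gen_mul_or i (E.pw v) with h | h
    · refine ⟨i :: v, hsub.cons_cons i, ?_, by rw [E.pw_cons, he']⟩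
      show E.len _ = _
      rw [E.pw_cons, h, List.length_cons]
      rw [show E.len (E.pw v) = v.length from hred]
    · have hl : E.len (E.pw v) = v.length := hred
      obtain ⟨j, hj, hje⟩ := E.exch v i hl (by show E.len (E.gen i * E.pw v) < _; omega)
      change E.gen i * E.pw v = E.pw _ at hje
      refine ⟨v.eraseIdx j, ((List.eraseIdx_sublist _ _).trans hsub).trans
        (List.sublist_cons_self _ _), ?_, by rw [he', hje]⟩
      show E.len _ = _
      rw [← hje, List.length_eraseIdx_of_lt hj]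
      omega

/-- The subgroup generated by some of the generators. -/
def wsub (J : Set I) : Subgroup W := Subgroup.closure (E.gen '' J)

theorem gen_mem_wsub {J : Set I} {i : I} (hi : i ∈ J) : E.gen i ∈ E.wsub J :=
  Subgroup.subset_closure ⟨i, hi, rfl⟩

theorem pw_mem_wsub {J : Set I} {ω : List I} (h : ∀ i ∈ ω, i ∈ J) : E.pw ω ∈ E.wsub J := by
  induction ω with
  | nil => exact one_mem _
  | cons i ω ih =>
    rw [E.pw_cons]
    exact mul_mem (E.gen_mem_wsub (h i (by simp))) (ih fun x hx => h x (by simp [hx]))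

theorem exists_red_of_mem_wsub {J : Set I} {v : W} (hv : v ∈ E.wsub J) :
    ∃ ω : List I, E.Red ω ∧ E.pw ω = v ∧ ∀ i ∈ ω, i ∈ J := by
  suffices ∃ ω : List I, E.pw ω = v ∧ ∀ i ∈ ω, i ∈ J by
    obtain ⟨ω, he, hmem⟩ := this
    obtain ⟨ν, hsub, hred, he'⟩ := E.exists_red_sublist ω
    exact ⟨ν, hred, he'.trans he, fun i hi => hmem i (hsub.mem hi)⟩
  induction hv using Subgroup.closure_induction_left with
  | one => exact ⟨[], rfl, by simp⟩
  | mul_left x hx y hy ih =>
    obtain ⟨i, hi, rfl⟩ := hx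
    obtain ⟨ω, he, hmem⟩ := ih
    exact ⟨i :: ω, by rw [E.pw_cons, he], by simpa [hi] using hmem⟩
  | inv_mul_cancel x hx y hy ih =>
    obtain ⟨i, hi, rfl⟩ := hx
    obtain ⟨ω, he, hmem⟩ := ih
    exact ⟨i :: ω, by rw [E.pw_cons, he, E.gen_inv], by simpa [hi] using hmem⟩

/-- No right descent in `J`. -/
def RMin (J : Set I) (w : W) : Prop := ∀ i ∈ J, E.len w < E.len (w * E.gen i)

/-- No left descent in `J`. -/
def LMin (J : Set I) (w : W) : Prop := ∀ i ∈ J, E.len w < E.len (E.gen i * w)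

theorem lmin_iff {J : Set I} {w : W} : E.LMin J w ↔ E.RMin J w⁻¹ := by
  have key : ∀ i, E.len (w⁻¹ * E.gen i) = E.len (E.gen i * w) := fun i => by
    conv_rhs => rw [← E.len_inv, mul_inv_rev, E.gen_inv]
  simp only [LMin, RMin, E.len_inv, key]

theorem len_add_of_min_coset {J : Set I} {x : W}
    (hx : ∀ v ∈ E.wsub J, E.len x ≤ E.len (x * v)) {v : W} (hv : v ∈ E.wsub J) :
    E.len (x * v) = E.len x + E.len v := by
  obtain ⟨ω, hω, hxe⟩ := E.exists_word' x
  obtain ⟨ν, hν, hve, hmem⟩ := E.exists_red_of_mem_wsub hv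
  have hνl : E.len v = ν.length := hve ▸ hν
  obtain ⟨δ, hsub, hred, he⟩ := E.exists_red_sublist (ω ++ ν)
  obtain ⟨α, β, rfl, hα, hβ⟩ := List.sublist_append_iff.1 hsub
  rw [E.pw_append, E.pw_append, hxe, hve] at he
  have hβJ : E.pw β ∈ E.wsub J := E.pw_mem_wsub fun i hi => hmem i (hβ.mem hi)
  have e : E.pw α = x * (v * (E.pw β)⁻¹) := by rw [← mul_assoc, ← he]; group
  have h1 := hx _ (mul_mem hv (inv_mem hβJ))
  rw [← e] at h1
  have h2 := E.len_pw_le α
  have hαω : α = ω := hα.eq_of_length_le (by omega)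
  rw [hαω, hxe, mul_right_inj] at he
  have h3 := E.len_pw_le β
  rw [he] at h3
  have hβν : β = ν := hβ.eq_of_length_le (by omega)
  have hl : E.len (E.pw (α ++ β)) = (α ++ β).length := hred
  rw [E.pw_append, hαω, hβν, hxe, hve, List.length_append] at hl
  omega

/-- Lengths add for the product of a minimal coset representative and an element of `W_J`. -/
theorem rmin_len_add {J : Set I} {w : W} (h : E.RMin J w) {v : W} (hv : v ∈ E.wsub J) :
    E.len (w * v) = E.len w + E.len v := by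
  classical
  have hne : ∃ k, ∃ v ∈ E.wsub J, E.len (w * v) = k := ⟨_, 1, one_mem _, rfl⟩
  obtain ⟨u, hu, hlen⟩ := Nat.find_spec hne
  have hx : ∀ v ∈ E.wsub J, E.len (w * u) ≤ E.len (w * u * v) := fun v hv => by
    rw [hlen]; exact Nat.find_min' hne ⟨u * v, mul_mem hu hv, by rw [mul_assoc]⟩
  suffices u = 1 by
    subst this
    rw [mul_one] at hx
    exact E.len_add_of_min_coset hx hv
  by_contra hne'
  obtain ⟨ν, hν, hue, hmem⟩ := E.exists_red_of_mem_wsub (inv_mem hu)
  rcases List.eq_nil_or_concat' ν with rfl | ⟨ν', i, rfl⟩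
  · exact hne' (inv_eq_one.1 hue.symm)
  have hi : i ∈ J := hmem i (by simp)
  have h1 := h i hi
  have hν' : E.pw ν' = u⁻¹ * E.gen i := by
    rw [← hue, E.pw_append]
    simp [pw, mul_assoc, E.sq]
  have e1 := E.len_add_of_min_coset hx (inv_mem hu)
  have e2 := E.len_add_of_min_coset hx (mul_mem (inv_mem hu) (E.gen_mem_wsub hi))
  rw [mul_inv_cancel_right] at e1
  rw [← mul_assoc, mul_inv_cancel_right] at e2
  have h2 := E.len_pw_le ν'
  rw [hν'] at h2
  have h3 : E.len u⁻¹ = ν'.length + 1 := by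
    rw [← hue]; rw [show E.len (E.pw (ν' ++ [i])) = _ from hν]; simp
  omega

theorem rmin_unique {J : Set I} {w w' : W} (h : E.RMin J w) (h' : E.RMin J w')
    (hv : w⁻¹ * w' ∈ E.wsub J) : w = w' := by
  have h1 := E.rmin_len_add h hv
  have h2 := E.rmin_len_add h' (inv_mem hv)
  rw [mul_inv_cancel_left] at h1
  rw [mul_inv_rev, inv_inv, mul_inv_cancel_left] at h2
  exact inv_mul_eq_one.1 (E.eq_one_of_len_eq_zero (by omega : E.len (w⁻¹ * w') = 0))

theorem exists_rmin (J : Set I) (w : W) : ∃ v ∈ E.wsub J, E.RMin J (w * v) := by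
  classical
  have hne : ∃ k, ∃ v ∈ E.wsub J, E.len (w * v) = k := ⟨_, 1, one_mem _, rfl⟩
  obtain ⟨u, hu, hlen⟩ := Nat.find_spec hne
  refine ⟨u, hu, fun i hi => ?_⟩
  have h1 : E.len (w * u) ≤ E.len (w * u * E.gen i) := by
    rw [hlen]
    exact Nat.find_min' hne ⟨u * E.gen i, mul_mem hu (E.gen_mem_wsub hi), by rw [mul_assoc]⟩
  have h2 : E.len (w * u * E.gen i) ≠ E.len (w * u) := by
    rw [← E.len_inv, mul_inv_rev, E.gen_inv, ← E.len_inv (w * u)]
    exact E.len_mul_ne _ _
  omega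

/-- Every double coset of two parabolic subgroups of `W` has a unique element without descents. -/
theorem exists_double_min (K J : Set I) (w : W) :
    ∃ x : W, E.LMin K x ∧ E.RMin J x ∧ (∃ u ∈ E.wsub K, ∃ v ∈ E.wsub J, w = u * x * v) ∧
      ∀ y : W, E.LMin K y → E.RMin J y → (∃ u ∈ E.wsub K, ∃ v ∈ E.wsub J, w = u * y * v) → y = x := by
  classical
  have hne : ∃ k, ∃ x, (∃ u ∈ E.wsub K, ∃ v ∈ E.wsub J, w = u * x * v) ∧ E.len x = k :=
    ⟨_, w, ⟨1, one_mem _, 1, one_mem _, by group⟩, rfl⟩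
  obtain ⟨x, ⟨u, hu, v, hv, hw⟩, hlen⟩ := Nat.find_spec hne
  have hmin : ∀ a ∈ E.wsub K, ∀ b ∈ E.wsub J, E.len x ≤ E.len (a * x * b) := fun a ha b hb => by
    rw [hlen]
    exact Nat.find_min' hne ⟨a * x * b, ⟨u * a⁻¹, mul_mem hu (inv_mem ha), b⁻¹ * v,
      mul_mem (inv_mem hb) hv, by rw [hw]; group⟩, rfl⟩
  refine ⟨x, fun i hi => ?_, fun i hi => ?_, ⟨u, hu, v, hv, hw⟩, ?_⟩
  · have h1 := hmin _ (E.gen_mem_wsub hi) 1 (one_mem _)
    rw [mul_one] at h1
    have := E.len_mul_ne i x
    omega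
  · have h1 := hmin 1 (one_mem _) _ (E.gen_mem_wsub hi)
    rw [one_mul] at h1
    have h2 : E.len (x * E.gen i) ≠ E.len x := by
      rw [← E.len_inv, mul_inv_rev, E.gen_inv, ← E.len_inv x]
      exact E.len_mul_ne _ _
    omega
  rintro y hyK hyJ ⟨u', hu', v', hv', hw'⟩
  obtain ⟨κ, -, hκe, hκ⟩ := E.exists_red_of_mem_wsub (mul_mem (inv_mem hu') hu)
  obtain ⟨ν, -, hνe, hν⟩ := E.exists_red_of_mem_wsub (mul_mem hv (inv_mem hv'))
  obtain ⟨ω, hω, hxe⟩ := E.exists_word' x
  have hy : E.pw (κ ++ ω ++ ν) = y := by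
    rw [E.pw_append, E.pw_append, hκe, hxe, hνe]
    calc _ = u'⁻¹ * (u * x * v) * v'⁻¹ := by group
      _ = y := by rw [← hw, hw']; group
  obtain ⟨δ, hsub, hred, he⟩ := E.exists_red_sublist (κ ++ ω ++ ν)
  obtain ⟨δ', γ, rfl, hδ', hγ⟩ := List.sublist_append_iff.1 hsub
  obtain ⟨α, β, rfl, hα, hβ⟩ := List.sublist_append_iff.1 hδ'
  rw [hy] at he
  have hαK : E.pw α ∈ E.wsub K := E.pw_mem_wsub fun i hi => hκ i (hα.mem hi)
  have hγJ : E.pw γ ∈ E.wsub J := E.pw_mem_wsub fun i hi => hν i (hγ.mem hi)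
  have hβe : E.pw β = ((E.pw α)⁻¹ * (u'⁻¹ * u)) * x * ((v * v'⁻¹) * (E.pw γ)⁻¹) := by
    have e1 : E.pw α * E.pw β * E.pw γ = (u'⁻¹ * u) * x * (v * v'⁻¹) := by
      rw [← E.pw_append, ← E.pw_append, he, ← hy, E.pw_append, E.pw_append, hκe, hxe, hνe]
    calc E.pw β = (E.pw α)⁻¹ * (E.pw α * E.pw β * E.pw γ) * (E.pw γ)⁻¹ := by group
      _ = _ := by rw [e1]; group
  have h1 := hmin _ (mul_mem (inv_mem hαK) (mul_mem (inv_mem hu') hu)) _
    (mul_mem (mul_mem hv (inv_mem hv')) (inv_mem hγJ))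
  rw [← hβe] at h1
  have h2 := E.len_pw_le β
  obtain rfl : β = ω := hβ.eq_of_length_le (by omega)
  have hl : E.len (E.pw (α ++ β ++ γ)) = (α ++ β ++ γ).length := hred
  rw [he, List.length_append, List.length_append] at hl
  obtain rfl : α = [] := by
    cases α with
    | nil => rfl
    | cons i α =>
      exfalso
      have h3 := hyK i (hκ i (hα.mem (by simp)))
      rw [← he, List.cons_append, List.cons_append, E.pw_cons, ← mul_assoc, E.sq, one_mul] at h3
      have h4 := E.len_pw_le (α ++ β ++ γ)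
      rw [show E.gen i * E.pw (α ++ β ++ γ) = y by
        rw [← E.pw_cons, ← List.cons_append, ← List.cons_append, he]] at h3
      simp only [List.length_append, List.length_cons] at h4 hl
      omega
  obtain rfl : γ = [] := by
    rcases List.eq_nil_or_concat' γ with rfl | ⟨γ', i, rfl⟩
    · rfl
    · exfalso
      have h3 := hyJ i (hν i (hγ.mem (by simp)))
      have e : y * E.gen i = E.pw ([] ++ β ++ γ') := by
        rw [← he, ← List.append_assoc, E.pw_append, mul_assoc]
        simp [pw, E.sq]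
      rw [e] at h3
      have h4 := E.len_pw_le ([] ++ β ++ γ')
      simp only [List.length_append, List.length_nil, List.length_singleton] at h4 hl
      omega
  rw [← he]
  simpa using hxe

/-- All generators are left descents: every reduced word begins a reduced word of `w`. -/
theorem exists_red_prefix {w : W} (h : ∀ i, E.len (E.gen i * w) < E.len w) :
    ∀ ν : List I, E.Red ν → ∃ β, E.Red (ν ++ β) ∧ E.pw (ν ++ β) = w := by
  intro ν
  induction ν with
  | nil =>
    intro _
    obtain ⟨ω, hω, he⟩ := E.exists_word' w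
    exact ⟨ω, by show E.len _ = _; simp [he, hω], by simpa using he⟩
  | cons i ν ih =>
    intro hred
    obtain ⟨β, hβ, he⟩ := ih (E.red_tail hred)
    have hl : E.len w = (ν ++ β).length := he ▸ hβ
    obtain ⟨j, hj, hje⟩ := E.exch (ν ++ β) i hβ (by
      show E.len (E.gen i * E.pw (ν ++ β)) < _
      rw [he, ← hl]; exact h i)
    change E.gen i * E.pw (ν ++ β) = E.pw _ at hje
    by_cases hjν : j < ν.length
    · exfalso
      rw [List.eraseIdx_append_of_lt_length hjν, E.pw_append, E.pw_append, ← mul_assoc,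
        mul_left_inj, ← E.pw_cons] at hje
      have h1 : E.len (E.pw (i :: ν)) = ν.length + 1 := hred
      have h2 := E.len_pw_le (ν.eraseIdx j)
      rw [← hje, List.length_eraseIdx_of_lt hjν] at h2
      omega
    · rw [List.eraseIdx_append_of_length_le (by omega), he] at hje
      refine ⟨β.eraseIdx (j - ν.length), ?_, ?_⟩
      swap
      · rw [List.cons_append, E.pw_cons, ← hje, ← mul_assoc, E.sq, one_mul]
      show E.len _ = _
      rw [List.cons_append, E.pw_cons, ← hje, ← mul_assoc, E.sq, one_mul, hl]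
      rw [List.length_append] at hj
      simp only [List.length_append, List.length_cons]
      rw [List.length_eraseIdx_of_lt (by omega)]
      omega

/-- All generators are right descents. -/
def IsTop (w : W) : Prop := ∀ i, E.len (w * E.gen i) < E.len w

theorem len_top_mul {w : W} (h : E.IsTop w) (u : W) :
    E.len (w * u) + E.len u = E.len w := by
  have h' : ∀ i, E.len (E.gen i * w⁻¹) < E.len w⁻¹ := fun i => by
    rw [← E.len_inv (E.gen i * w⁻¹), mul_inv_rev, inv_inv, E.gen_inv, E.len_inv]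
    exact h i
  obtain ⟨ν, hν, hue⟩ := E.exists_word' u
  obtain ⟨β, hβ, he⟩ := E.exists_red_prefix h' ν (by show E.len _ = _; rw [hue, hν])
  have hl : E.len w = ν.length + β.length := by
    rw [← E.len_inv, ← he, show E.len (E.pw (ν ++ β)) = _ from hβ, List.length_append]
  have e : E.pw β = (w * u)⁻¹ := by
    rw [E.pw_append, hue] at he
    rw [mul_inv_rev, ← he, inv_mul_cancel_left]
  have h1 := E.len_pw_le β
  rw [e, E.len_inv] at h1
  have h2 := E.len_mul_le (w * u) u⁻¹
  rw [mul_inv_cancel_right, E.len_inv] at h2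
  omega

theorem top_unique {w w' : W} (h : E.IsTop w) (h' : E.IsTop w') : w = w' := by
  have h1 := E.len_top_mul h (w⁻¹ * w')
  have h2 := E.len_top_mul h' (w'⁻¹ * w)
  rw [mul_inv_cancel_left] at h1 h2
  have h3 : E.len (w'⁻¹ * w) = E.len (w⁻¹ * w') := by
    rw [← E.len_inv, mul_inv_rev, inv_inv]
  exact inv_mul_eq_one.1 (E.eq_one_of_len_eq_zero (by omega : E.len (w⁻¹ * w') = 0))

theorem exists_top [Finite W] : ∃ w : W, E.IsTop w := by
  obtain ⟨w, hw⟩ := Finite.exists_max E.len
  refine ⟨w, fun i => lt_of_le_of_ne (hw _) ?_⟩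
  rw [← E.len_inv, mul_inv_rev, E.gen_inv, ← E.len_inv w]
  exact E.len_mul_ne _ _

theorem top_rmin {w : W} (h : E.IsTop w) {J : Set I} (hJ : E.RMin J w) : J = ∅ := by
  refine Set.eq_empty_iff_forall_notMem.2 fun i hi => ?_
  have := h i
  have := hJ i hi
  omega

theorem top_lmin {w : W} (h : E.IsTop w) {J : Set I} (hJ : E.LMin J w) : J = ∅ := by
  refine Set.eq_empty_iff_forall_notMem.2 fun i hi => ?_
  have h1 := E.len_top_mul h (w⁻¹ * E.gen i * w)
  have e : w * (w⁻¹ * E.gen i * w) = E.gen i * w := by group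
  rw [e] at h1
  have := hJ i hi
  omega

end ExchangeData

end Cfsg.Agent.Lib.BNPair
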