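import Mathlib
import Cfsg.Agent.Lib.BNPair.Basic
import Cfsg.Agent.Lib.BNPair.Coxeter

/-!
The Weyl group of a (B,N)-pair as a group with the exchange condition.
-/

set_option autoImplicit false

namespace Cfsg.Agent.Lib.BNPair

variable {G : Type*} [Group G] (P : Cfsg.BNPair G)

/-- The quotient `N / (B ⊓ N)`. -/
abbrev Weyl : Type _ := P.N ⧸ (P.B ⊓ P.N).subgroupOf P.N

theorem weyl_normal : ((P.B ⊓ P.N).subgroupOf P.N).Normal :=
  ⟨fun t ht n => ⟨P.conj_mem n n.2 t ht, P.N.mul_mem (P.N.mul_mem n.2 t.2) (P.N.inv_mem n.2)⟩⟩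

variable [hN : ((P.B ⊓ P.N).subgroupOf P.N).Normal]

theorem weyl_mk_eq {n n' : P.N} :
    (QuotientGroup.mk n : Weyl P) = QuotientGroup.mk n' ↔ Cong P (n : G) n' := by
  rw [QuotientGroup.eq, Subgroup.mem_subgroupOf]
  constructor
  · intro h; exact h.1
  · intro h; exact ⟨h, P.N.mul_mem (P.N.inv_mem n.2) n'.2⟩

/-- The image of a distinguished representative. -/
def wgen (s : P.S) : Weyl P := QuotientGroup.mk (⟨(s : G), P.subset s.2⟩ : P.N)

theorem wgen_prod (ω : List P.S) :
    ∃ h : (ω.map Subtype.val).prod ∈ P.N,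
      (ω.map (wgen P)).prod = QuotientGroup.mk (⟨(ω.map Subtype.val).prod, h⟩ : P.N) := by
  induction ω with
  | nil => exact ⟨one_mem _, rfl⟩
  | cons s ω ih =>
    obtain ⟨h, he⟩ := ih
    refine ⟨by rw [List.map_cons, List.prod_cons]; exact mul_mem (P.subset s.2) h, ?_⟩
    simp only [List.map_cons, List.prod_cons, he]
    rfl

/-- Length on the Weyl group. -/
noncomputable def wlen (w : Weyl P) : ℕ := len P ((w.out : P.N) : G)

theorem wlen_mk (n : P.N) : wlen P (QuotientGroup.mk n) = len P (n : G) :=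
  len_congr P ((weyl_mk_eq P).1 (Quotient.out_eq _))

theorem isWord_map (ω : List P.S) : IsWord P.S (ω.map Subtype.val) := by
  intro x hx
  obtain ⟨s, -, rfl⟩ := List.mem_map.1 hx
  exact s.2

theorem exists_lift_word : ∀ (w : List G), IsWord P.S w → ∃ ω : List P.S, ω.map Subtype.val = w := by
  intro w
  induction w with
  | nil => intro _; exact ⟨[], rfl⟩
  | cons a w ih =>
    intro hw
    obtain ⟨ω, hω⟩ := ih (fun x hx => hw x (List.mem_cons_of_mem _ hx))
    exact ⟨⟨a, hw a List.mem_cons_self⟩ :: ω, by rw [List.map_cons, hω]⟩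

/-- The exchange data of the Weyl group. -/
noncomputable def exchangeData : ExchangeData (Weyl P) P.S where
  gen := wgen P
  len := wlen P
  sq s := by
    rw [wgen, ← QuotientGroup.mk_mul]
    exact (weyl_mk_eq P).2 (cong_ss P s.2)
  ne_one s h := s_not_mem P s.2 (by
    have h' := (weyl_mk_eq P).1 (h : (QuotientGroup.mk (⟨(s : G), P.subset s.2⟩ : P.N) : Weyl P)
      = QuotientGroup.mk (1 : P.N))
    simpa [Cong] using inv_mem h')
  gen_inj s s' h := Subtype.ext (P.inj _ s.2 _ s'.2 ((weyl_mk_eq P).1 h))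
  len_one := (wlen_mk P 1).trans (len_eq_zero_of_mem_B P (one_mem P.B))
  exists_word w := by
    induction w using QuotientGroup.induction_on with
    | _ n =>
    obtain ⟨v, hv, hl, hc⟩ := exists_reduced P n.2
    obtain ⟨ω, rfl⟩ := exists_lift_word P v hv
    refine ⟨ω, by rw [wlen_mk]; simpa using hl, ?_⟩
    obtain ⟨h, he⟩ := wgen_prod P ω
    rw [he]
    exact (weyl_mk_eq P).2 hc
  len_le ω := by
    obtain ⟨h, he⟩ := wgen_prod P ω
    rw [he, wlen_mk]
    simpa using len_le P (isWord_map P ω) (cong_refl P _)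
  len_mul_ne s w := by
    induction w using QuotientGroup.induction_on with
    | _ n =>
    rw [wgen, ← QuotientGroup.mk_mul, wlen_mk, wlen_mk]
    exact len_s_mul_ne P s.2 n.2
  exch ω s hl hlt := by
    obtain ⟨h, he⟩ := wgen_prod P ω
    rw [he] at hl hlt ⊢
    rw [wgen, ← QuotientGroup.mk_mul, wlen_mk] at hlt
    rw [wlen_mk] at hl
    obtain ⟨j, hj, hc⟩ :=
      exchange P (ω.map Subtype.val) (isWord_map P ω) (by simpa using hl) s.2 (by simpa using hlt)
    refine ⟨j, by simpa using hj, ?_⟩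
    obtain ⟨h', he'⟩ := wgen_prod P (ω.eraseIdx j)
    rw [he', wgen, ← QuotientGroup.mk_mul]
    refine (weyl_mk_eq P).2 ?_
    show Cong P _ ((ω.eraseIdx j).map Subtype.val).prod
    rw [← List.eraseIdx_map]
    exact hc

theorem exists_coxeterSystem :
    ∃ (M : CoxeterMatrix P.S) (cs : CoxeterSystem M (Weyl P)), ∀ s : P.S, cs.simple s = wgen P s :=
  ⟨_, (exchangeData P).system, (exchangeData P).system_simple⟩

end Cfsg.Agent.Lib.BNPair
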