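import Mathlib
import Cfsg.Agent.Lib.BNPair.Weyl
import Cfsg.Agent.Lib.BNPair.Longest

/-!
Bruhat cells of a (B,N)-pair indexed by its Weyl group.
-/

set_option autoImplicit false

namespace Cfsg.Agent.Lib.BNPair

variable {G : Type*} [Group G] (P : Cfsg.BNPair G)
variable [hN : ((P.B ⊓ P.N).subgroupOf P.N).Normal]

/-- A representative in `N`. -/
noncomputable def wrep (w : Weyl P) : G := ((Quotient.out w : P.N) : G)

theorem wrep_mem (w : Weyl P) : wrep P w ∈ P.N := (Quotient.out w : P.N).2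

theorem mk_wrep (w : Weyl P) : (QuotientGroup.mk (⟨wrep P w, wrep_mem P w⟩ : P.N) : Weyl P) = w :=
  Quotient.out_eq w

/-- The Bruhat cell of an element of the Weyl group. -/
def cell (w : Weyl P) : Set G := dc P (wrep P w)

theorem cell_mk (n : P.N) : cell P (QuotientGroup.mk n) = dc P (n : G) :=
  dc_eq_of_cong P ((weyl_mk_eq P).1 (mk_wrep P _))

theorem mem_cell_mk (n : P.N) : (n : G) ∈ cell P (QuotientGroup.mk n) := by
  rw [cell_mk]; exact mem_dc_self P _

theorem wrep_mem_cell (w : Weyl P) : wrep P w ∈ cell P w := mem_dc_self P _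

theorem cell_one {g : G} : g ∈ cell P (1 : Weyl P) ↔ g ∈ P.B := by
  rw [show (1 : Weyl P) = QuotientGroup.mk (1 : P.N) from rfl, cell_mk]
  exact dc_one P

theorem cell_mul_left {w : Weyl P} {g b : G} (hb : b ∈ P.B) (h : g ∈ cell P w) :
    b * g ∈ cell P w := dc_mul_left P hb h

theorem cell_mul_right {w : Weyl P} {g b : G} (hb : b ∈ P.B) (h : g ∈ cell P w) :
    g * b ∈ cell P w := dc_mul_right P hb h

theorem exists_cell (g : G) : ∃ w : Weyl P, g ∈ cell P w := by
  obtain ⟨n, hn, h⟩ := bruhat P g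
  exact ⟨QuotientGroup.mk (⟨n, hn⟩ : P.N), by rw [cell_mk]; exact h⟩

theorem cell_inj {w w' : Weyl P} {g : G} (h : g ∈ cell P w) (h' : g ∈ cell P w') : w = w' := by
  have := cong_of_mem_dc P (wrep_mem P w) (wrep_mem P w') h h'
  rw [← mk_wrep P w, ← mk_wrep P w']
  exact (weyl_mk_eq P).2 this

theorem exists_mk (w : Weyl P) : ∃ n : P.N, QuotientGroup.mk n = w := ⟨_, mk_wrep P w⟩

theorem cell_inv {w : Weyl P} {g : G} (h : g ∈ cell P w) : g⁻¹ ∈ cell P w⁻¹ := by
  obtain ⟨n, rfl⟩ := exists_mk P w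
  rw [cell_mk] at h
  rw [← QuotientGroup.mk_inv, cell_mk]
  exact dc_inv P h

theorem len_mul_wgen_ne (s : P.S) (w : Weyl P) :
    (exchangeData P).len (w * wgen P s) ≠ (exchangeData P).len w := by
  rw [← (exchangeData P).len_inv (w * wgen P s), ← (exchangeData P).len_inv w, mul_inv_rev,
    show (wgen P s)⁻¹ = wgen P s from (exchangeData P).gen_inv s]
  exact (exchangeData P).len_mul_ne s _

theorem cell_gen_mul {s : P.S} {v : Weyl P}
    (h : (exchangeData P).len v ≤ (exchangeData P).len (wgen P s * v)) {b g : G} (hb : b ∈ P.B)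
    (hg : g ∈ cell P v) : (s : G) * b * g ∈ cell P (wgen P s * v) := by
  obtain ⟨n, rfl⟩ := exists_mk P v
  rw [cell_mk] at hg
  obtain ⟨a, ha, c, hc, rfl⟩ := (mem_dc P).1 hg
  change wlen P _ ≤ wlen P _ at h
  rw [wgen, ← QuotientGroup.mk_mul, wlen_mk, wlen_mk] at h
  have e : (s : G) * b * (a * n * c) = (s : G) * (b * a) * n * c := by group
  rw [e, wgen, ← QuotientGroup.mk_mul, cell_mk]
  exact dc_mul_right P hc (mem_dc_s_mul P s.2 n.2 (mul_mem hb ha) h)

/-- `BwB·BvB = BwvB` when the lengths add. -/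
theorem cell_mul_add : ∀ (k : ℕ) (w v : Weyl P), (exchangeData P).len w = k →
    (exchangeData P).len (w * v) = (exchangeData P).len w + (exchangeData P).len v →
    ∀ {g h : G}, g ∈ cell P w → h ∈ cell P v → g * h ∈ cell P (w * v) := by
  intro k
  induction k with
  | zero =>
    intro w v hk _ g h hg hh
    obtain rfl := (exchangeData P).eq_one_of_len_eq_zero hk
    rw [one_mul]
    exact cell_mul_left P ((cell_one P).1 hg) hh
  | succ k ih =>
    intro w v hk hadd g h hg hh
    set E := exchangeData P with hE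
    obtain ⟨ω, hω, he⟩ := E.exists_word' w
    cases ω with
    | nil => simp at hω; omega
    | cons s ω =>
      rw [E.pw_cons] at he
      set w' := E.pw ω with hw'
      subst he
      have h1 := E.len_pw_le ω
      have h2 := E.len_gen_mul_le s w'
      rw [List.length_cons] at hω
      rw [← hw'] at h1
      have h3 := E.len_gen_mul_le s (w' * v)
      have h4 := E.len_mul_le w' v
      rw [← mul_assoc] at h3
      have hlw' : E.len w' = k := by omega
      have hadd' : E.len (w' * v) = E.len w' + E.len v := by omega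
      obtain ⟨n, hn⟩ := exists_mk P w'
      have hsw : g ∈ cell P (wgen P s * w') := hg
      rw [← hn, wgen, ← QuotientGroup.mk_mul, cell_mk] at hsw
      obtain ⟨a, ha, c, hc, rfl⟩ := (mem_dc P).1 hsw
      have hmem : (n : G) * (c * h) ∈ cell P (w' * v) :=
        ih w' v hlw' hadd' (by rw [← hn]; exact mem_cell_mk P n) (cell_mul_left P hc hh)
      have := cell_gen_mul P (s := s) (v := w' * v) (b := 1)
        (by show E.len (w' * v) ≤ E.len (E.gen s * (w' * v)); rw [← mul_assoc]; omega)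
        (one_mem _) hmem
      rw [mul_one] at this
      have e : a * ((s : G) * n) * c * h = a * ((s : G) * ((n : G) * (c * h))) := by group
      rw [← mul_assoc] at this
      show a * ((⟨(s : G), P.subset s.2⟩ : P.N) * n : P.N) * c * h ∈ _
      rw [Subgroup.coe_mul, e]
      exact cell_mul_left P ha this

theorem cell_mul {w v : Weyl P} {g h : G}
    (hadd : (exchangeData P).len (w * v) = (exchangeData P).len w + (exchangeData P).len v)
    (hg : g ∈ cell P w) (hh : h ∈ cell P v) : g * h ∈ cell P (w * v) :=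
  cell_mul_add P _ w v rfl hadd hg hh

/-- The parabolic subgroup of a set of generators. -/
def par (J : Set P.S) : Subgroup G := P.parabolic (Subtype.val '' J)

theorem B_le_par (J : Set P.S) : P.B ≤ par P J := le_sup_left

theorem cell_mul_par_step {J : Set P.S} {s : P.S} (hs : s ∈ J) {w : Weyl P} {g : G}
    (hg : g ∈ cell P w) :
    (∃ v ∈ (exchangeData P).wsub J, g * (s : G) ∈ cell P (w * v)) ∧
      (∃ v ∈ (exchangeData P).wsub J, g * (s : G)⁻¹ ∈ cell P (w * v)) := by
  obtain ⟨n, rfl⟩ := exists_mk P w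
  rw [cell_mk] at hg
  obtain ⟨a, ha, c, hc, rfl⟩ := (mem_dc P).1 hg
  have hsJ : wgen P s ∈ (exchangeData P).wsub J := (exchangeData P).gen_mem_wsub hs
  have h1 : ∀ x, x ∈ dc P ((n : G) * s) → ∃ v ∈ (exchangeData P).wsub J,
      a * x ∈ cell P (QuotientGroup.mk n * v) := fun x hx =>
    ⟨_, hsJ, by rw [wgen, ← QuotientGroup.mk_mul, cell_mk]; exact dc_mul_left P ha hx⟩
  have h0 : ∀ x, x ∈ dc P (n : G) → ∃ v ∈ (exchangeData P).wsub J,
      a * x ∈ cell P (QuotientGroup.mk n * v) := fun x hx =>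
    ⟨1, one_mem _, by rw [mul_one, cell_mk]; exact dc_mul_left P ha hx⟩
  constructor
  · have e : a * (n : G) * c * s = a * ((n : G) * c * s) := by group
    rw [e]
    rcases mem_union_right' P s.2 n.2 hc with h | h
    · exact h1 _ h
    · exact h0 _ h
  · have e : a * (n : G) * c * (s : G)⁻¹ = a * ((n : G) * c * (s : G)⁻¹) := by group
    rw [e]
    rcases mem_union_right P s.2 n.2 hc with h | h
    · exact h1 _ h
    · exact h0 _ h

theorem cell_mul_par {J : Set P.S} {p : G} (hp : p ∈ par P J) :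
    ∀ {w : Weyl P} {g : G}, g ∈ cell P w →
      ∃ v ∈ (exchangeData P).wsub J, g * p ∈ cell P (w * v) := by
  have e : par P J = Subgroup.closure ((P.B : Set G) ∪ Subtype.val '' J) := by
    rw [Subgroup.closure_union, Subgroup.closure_eq]; rfl
  rw [e] at hp
  induction hp using Subgroup.closure_induction_left with
  | one => intro w g hg; exact ⟨1, one_mem _, by simpa using hg⟩
  | mul_left x hx y hy ih =>
    intro w g hg
    rcases hx with hx | ⟨s, hs, rfl⟩
    · simpa [mul_assoc] using ih (cell_mul_right P hx hg)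
    · obtain ⟨v, hv, h⟩ := (cell_mul_par_step P hs hg).1
      obtain ⟨v', hv', h'⟩ := ih h
      exact ⟨v * v', mul_mem hv hv', by rw [← mul_assoc, ← mul_assoc]; exact h'⟩
  | inv_mul_cancel x hx y hy ih =>
    intro w g hg
    rcases hx with hx | ⟨s, hs, rfl⟩
    · simpa [mul_assoc] using ih (cell_mul_right P (inv_mem hx) hg)
    · obtain ⟨v, hv, h⟩ := (cell_mul_par_step P hs hg).2
      obtain ⟨v', hv', h'⟩ := ih h
      exact ⟨v * v', mul_mem hv hv', by rw [← mul_assoc, ← mul_assoc]; exact h'⟩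

theorem par_mul_cell {J : Set P.S} {p : G} (hp : p ∈ par P J) {w : Weyl P} {g : G}
    (hg : g ∈ cell P w) : ∃ u ∈ (exchangeData P).wsub J, p * g ∈ cell P (u * w) := by
  obtain ⟨v, hv, h⟩ := cell_mul_par P (inv_mem hp) (cell_inv P hg)
  exact ⟨v⁻¹, inv_mem hv, by simpa using cell_inv P h⟩

theorem mem_par_of_cell {J : Set P.S} {v : Weyl P} (hv : v ∈ (exchangeData P).wsub J) {g : G}
    (hg : g ∈ cell P v) : g ∈ par P J := by
  have hle : (exchangeData P).wsub J ≤
      ((par P J).subgroupOf P.N).map (QuotientGroup.mk' _) :=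
    (Subgroup.closure_le _).2 fun x hx => by
      obtain ⟨s, hs, rfl⟩ := hx
      exact ⟨⟨(s : G), P.subset s.2⟩, Subgroup.mem_sup_right (Subgroup.subset_closure ⟨s, hs, rfl⟩),
        rfl⟩
  obtain ⟨m, hm, rfl⟩ := hle hv
  rw [QuotientGroup.mk'_apply, cell_mk] at hg
  obtain ⟨a, ha, c, hc, rfl⟩ := (mem_dc P).1 hg
  exact mul_mem (mul_mem (B_le_par P J ha) hm) (B_le_par P J hc)

/-- Every coset of a parabolic subgroup meets a cell without descents, in one `B`-coset. -/
theorem exists_rmin_rep (J : Set P.S) (g : G) :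
    ∃ w : Weyl P, (exchangeData P).RMin J w ∧ ∃ p ∈ par P J, g * p ∈ cell P w := by
  obtain ⟨w, hw⟩ := exists_cell P g
  obtain ⟨v, hv, hmin⟩ := (exchangeData P).exists_rmin J w
  obtain ⟨n, rfl⟩ := exists_mk P w
  obtain ⟨m, rfl⟩ := exists_mk P v
  refine ⟨_, hmin, ?_⟩
  rw [cell_mk] at hw
  obtain ⟨a, ha, c, hc, rfl⟩ := (mem_dc P).1 hw
  refine ⟨c⁻¹ * m, mul_mem (B_le_par P J (inv_mem hc))
    (mem_par_of_cell P hv (mem_cell_mk P m)), ?_⟩
  rw [← QuotientGroup.mk_mul, cell_mk, Subgroup.coe_mul]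
  exact (mem_dc P).2 ⟨a, ha, 1, one_mem _, by group⟩

theorem mem_B_of_rmin {J : Set P.S} {w w' : Weyl P} (hw : (exchangeData P).RMin J w)
    (hw' : (exchangeData P).RMin J w') {g g' : G} (hg : g ∈ cell P w) (hg' : g' ∈ cell P w')
    (h : g⁻¹ * g' ∈ par P J) : w = w' ∧ g⁻¹ * g' ∈ P.B := by
  obtain ⟨v, hv, h1⟩ := cell_mul_par P h hg
  rw [mul_inv_cancel_left] at h1
  have e := cell_inj P hg' h1
  have hww : w = w' := (exchangeData P).rmin_unique hw hw' (by rw [e, inv_mul_cancel_left]; exact hv)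
  refine ⟨hww, ?_⟩
  subst hww
  obtain ⟨u, hu⟩ := exists_cell P (g⁻¹ * g')
  have huJ : u ∈ (exchangeData P).wsub J := by
    obtain ⟨u', hu', h2⟩ := cell_mul_par P h ((cell_one P).2 (one_mem P.B))
    rw [one_mul, one_mul] at h2
    rwa [cell_inj P hu h2]
  have h3 := cell_mul P ((exchangeData P).rmin_len_add hw huJ) hg hu
  rw [mul_inv_cancel_left] at h3
  have h4 := cell_inj P hg' h3
  rw [eq_comm, mul_eq_left] at h4
  rw [h4, cell_one] at hu
  exact hu

/-- A criterion for a right descent. -/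
theorem descent_of {n : P.N} {s : P.S} {x : G} (hx : x ∈ cell P (wgen P s))
    (hn : (n : G) * x * (n : G)⁻¹ ∈ P.B) :
    (exchangeData P).len (QuotientGroup.mk n * wgen P s) <
      (exchangeData P).len (QuotientGroup.mk n) := by
  set E := exchangeData P with hE
  have hle : E.len (QuotientGroup.mk n * wgen P s) ≤ E.len (QuotientGroup.mk n) + 1 := by
    refine le_trans (E.len_mul_le _ _) (Nat.add_le_add_left ?_ _)
    exact (by simpa using E.len_le [s] : E.len (E.gen s) ≤ 1)
  rcases Nat.lt_or_ge (E.len (QuotientGroup.mk n * wgen P s)) (E.len (QuotientGroup.mk n))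
    with h | h
  · exact h
  exfalso
  have hne : E.len (QuotientGroup.mk n * wgen P s) ≠ E.len (QuotientGroup.mk n) :=
    len_mul_wgen_ne P s _
  have hls : E.len (wgen P s) ≤ 1 :=
    (by simpa using E.len_le [s] : E.len (E.gen s) ≤ 1)
  have hls' : E.len (wgen P s) ≠ 0 := fun h0 => E.ne_one s (E.eq_one_of_len_eq_zero h0)
  have h1 := cell_mul P (w := QuotientGroup.mk n) (v := wgen P s)
    (by show E.len _ = E.len _ + E.len _; omega) (mem_cell_mk P n) hx
  have h2 : (n : G) * x ∈ cell P (QuotientGroup.mk n) := by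
    have := cell_mul_left P hn (mem_cell_mk P n)
    simpa using this
  have := cell_inj P h2 h1
  rw [eq_comm, mul_eq_left] at this
  exact E.ne_one s this

end Cfsg.Agent.Lib.BNPair
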