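import Cfsg.Agent.Lib.BNPair.LieType

/-!
A module of defect zero of a split (B,N)-pair in characteristic `p`: its `U`-fixed vectors form a line.
-/

set_option autoImplicit false
set_option linter.unusedSectionVars false

namespace Cfsg.Agent.Lib.BNPair.DefectZero

open scoped Classical

variable {G : Type*} [Group G] [Fintype G] {k : Type*} [Field k] {V : Type*} [AddCommGroup V]
  [Module k V] (ρ : G →* Module.End k V)

theorem rho_mul (a b : G) (x : V) : ρ (a * b) x = ρ a (ρ b x) := by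
  rw [map_mul]; rfl

theorem rho_one (x : V) : ρ 1 x = x := by
  rw [map_one]; rfl

/-- The sum of the operators of a subgroup. -/
noncomputable def sumOp (K : Subgroup G) : Module.End k V := ∑ u : K, ρ (u : G)

theorem sumOp_apply (K : Subgroup G) (x : V) : sumOp ρ K x = ∑ u : K, ρ (u : G) x :=
  LinearMap.sum_apply _ _ _

theorem fix_sumOp {K : Subgroup G} {a : G} (ha : a ∈ K) (x : V) :
    ρ a (sumOp ρ K x) = sumOp ρ K x := by
  rw [sumOp_apply, map_sum]
  exact Fintype.sum_equiv (Equiv.mulLeft (⟨a, ha⟩ : K)) _ _ fun u => (rho_mul ρ a (u : G) x).symm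

theorem sumOp_rho {K : Subgroup G} {a : G} (ha : a ∈ K) (x : V) :
    sumOp ρ K (ρ a x) = sumOp ρ K x := by
  rw [sumOp_apply, sumOp_apply]
  exact Fintype.sum_equiv (Equiv.mulRight (⟨a, ha⟩ : K)) _ _ fun u => (rho_mul ρ (u : G) a x).symm

theorem conj_sumOp {K : Subgroup G} {a : G} (ha : ∀ u ∈ K, a * u * a⁻¹ ∈ K)
    (ha' : ∀ u ∈ K, a⁻¹ * u * a ∈ K) (x : V) :
    ρ a (sumOp ρ K x) = sumOp ρ K (ρ a x) := by
  rw [sumOp_apply, sumOp_apply, map_sum]
  refine Fintype.sum_equiv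
    { toFun := fun u : K => (⟨a * u * a⁻¹, ha u u.2⟩ : K)
      invFun := fun u : K => (⟨a⁻¹ * u * a, ha' u u.2⟩ : K)
      left_inv := fun u => Subtype.ext (by show a⁻¹ * (a * (u : G) * a⁻¹) * a = u; group)
      right_inv := fun u => Subtype.ext (by show a * (a⁻¹ * (u : G) * a) * a⁻¹ = u; group) } _ _
    fun u => ?_
  show ρ a (ρ (u : G) x) = ρ (a * (u : G) * a⁻¹) (ρ a x)
  rw [← rho_mul, ← rho_mul]
  group

/-- The coset decomposition. -/
noncomputable def cosetEquiv {H : Type*} [Group H] (K : Subgroup H) : (H ⧸ K) × K ≃ H :=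
  Equiv.ofBijective (fun rz => rz.1.out * rz.2) <| by
    refine ⟨fun ⟨r, z⟩ ⟨r', z'⟩ h => ?_, fun x => ?_⟩
    · simp only at h
      have hr : r = r' := by
        have h' := congrArg (fun x : H => (x : H ⧸ K)) h
        simpa [QuotientGroup.mk_mul_of_mem] using h'
      subst hr
      exact Prod.ext rfl (Subtype.ext (mul_left_cancel h))
    · refine ⟨((x : H ⧸ K), ⟨((x : H ⧸ K).out)⁻¹ * x, QuotientGroup.eq.1 (Quotient.out_eq _)⟩), ?_⟩
      exact mul_inv_cancel_left _ _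

theorem cosetEquiv_apply {H : Type*} [Group H] (K : Subgroup H) (rz : (H ⧸ K) × K) :
    cosetEquiv K rz = rz.1.out * rz.2 := rfl

theorem sumOp_coset {K U : Subgroup G} (hKU : K ≤ U) (x : V) :
    sumOp ρ U x = ∑ r : U ⧸ K.subgroupOf U, ρ ((r.out : U) : G) (sumOp ρ K x) := by
  set e := cosetEquiv (K.subgroupOf U) with he
  rw [sumOp_apply, ← e.sum_comp, Fintype.sum_prod_type]
  refine Finset.sum_congr rfl fun q _ => ?_
  have key : ∀ z : K.subgroupOf U, ((e (q, z) : U) : G) = (q.out : U) * ((z : U) : G) :=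
    fun z => rfl
  simp only [key, rho_mul, ← map_sum]
  rw [Fintype.sum_equiv (Subgroup.subgroupOfEquivOfLe hKU).toEquiv
    (fun z : K.subgroupOf U => ρ ((z : U) : G) x) (fun u : K => ρ (u : G) x) fun z => rfl,
    ← sumOp_apply]

theorem sumOp_eq_zero_of_le {K U : Subgroup G} (hKU : K ≤ U) {x : V} (h : sumOp ρ K x = 0) :
    sumOp ρ U x = 0 := by
  rw [sumOp_coset ρ hKU, h]
  simp

theorem sumOp_fixed {K : Subgroup G} {x : V} (h : ∀ u ∈ K, ρ u x = x) :
    sumOp ρ K x = (Nat.card K : k) • x := by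
  rw [sumOp_apply, Finset.sum_congr rfl fun (u : K) _ => h u u.2, Finset.sum_const, Finset.card_univ,
    Nat.card_eq_fintype_card, Nat.cast_smul_eq_nsmul]

variable {p : ℕ} [hp : Fact p.Prime] [CharP k p]

theorem sumOp_fixed_zero {K : Subgroup G} (hK : IsPGroup p K) (hK1 : K ≠ ⊥) {x : V}
    (h : ∀ u ∈ K, ρ u x = x) : sumOp ρ K x = 0 := by
  rw [sumOp_fixed ρ h]
  haveI := (Subgroup.nontrivial_iff_ne_bot K).2 hK1
  obtain ⟨a, ha⟩ := IsPGroup.iff_card.1 hK
  have : p ∣ Nat.card K := by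
    rw [ha]
    refine dvd_pow_self p fun h0 => ?_
    rw [h0, pow_zero] at ha
    have := Finite.one_lt_card (α := K)
    omega
  rw [(CharP.cast_eq_zero_iff k p _).2 this, zero_smul]

theorem exists_fixed {U : Subgroup G} (hU : IsPGroup p U) [Nontrivial V] :
    ∃ v : V, v ≠ 0 ∧ ∀ u ∈ U, ρ u v = v := by
  obtain ⟨x, hx⟩ := exists_ne (0 : V)
  haveI : NeZero p := ⟨hp.out.ne_zero⟩
  let Φ : (U → ZMod p) →+ V :=
    { toFun := fun a => ∑ u : U, (ZMod.castHom (dvd_refl p) k (a u)) • ρ (u : G) x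
      map_zero' := by simp
      map_add' := fun a b => by
        simp [add_smul, Finset.sum_add_distrib] }
  have hmove : ∀ (w : U) (a : U → ZMod p),
      ρ (w : G) (Φ a) = Φ fun u => a (w⁻¹ * u) := by
    intro w a
    show ρ (w : G) (∑ u : U, _) = ∑ u : U, _
    rw [map_sum]
    refine Fintype.sum_equiv (Equiv.mulLeft w) _ _ fun u => ?_
    simp only [map_smul, ← rho_mul, Equiv.coe_mulLeft, inv_mul_cancel_left, Subgroup.coe_mul]
  letI : MulAction U Φ.range :=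
    { smul := fun w y => ⟨ρ (w : G) (y : V), by
        obtain ⟨a, ha⟩ := y.2
        exact ⟨_, (hmove w a).symm.trans (by rw [ha])⟩⟩
      one_smul := fun y => Subtype.ext (rho_one ρ (y : V))
      mul_smul := fun w w' y => Subtype.ext (rho_mul ρ (w : G) (w' : G) (y : V)) }
  haveI : Finite Φ.range := Finite.of_surjective Φ.rangeRestrict Φ.rangeRestrict_surjective
  have hxR : x ∈ Φ.range := ⟨Pi.single 1 1, by
    show ∑ u : U, _ = x
    rw [Finset.sum_eq_single (1 : U)]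
    · simp [rho_one]
    · intro u _ hu; simp [hu]
    · simp⟩
  haveI : Nontrivial Φ.range := ⟨⟨⟨x, hxR⟩, 0, fun h => hx (congrArg Subtype.val h)⟩⟩
  have hdvd : p ∣ Nat.card Φ.range := by
    have h1 : Nat.card Φ.range ∣ p ^ Nat.card U := by
      have h := AddSubgroup.card_dvd_of_surjective Φ.rangeRestrict Φ.rangeRestrict_surjective
      rwa [Nat.card_fun, Nat.card_zmod] at h
    obtain ⟨i, -, hi⟩ := (Nat.dvd_prime_pow hp.out).1 h1
    rw [hi]
    refine dvd_pow_self p fun h0 => ?_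
    rw [h0, pow_zero] at hi
    have := Finite.one_lt_card (α := Φ.range)
    omega
  have h0 : (0 : Φ.range) ∈ MulAction.fixedPoints U Φ.range :=
    fun w => Subtype.ext (map_zero (ρ (w : G)))
  obtain ⟨y, hy, hne⟩ := hU.exists_fixed_point_of_prime_dvd_card_of_fixed_point Φ.range hdvd h0
  exact ⟨y, fun h => hne (Subtype.ext h.symm), fun u hu => congrArg Subtype.val (hy ⟨u, hu⟩)⟩

/-- The `U`-fixed vectors. -/
def fixedSub (U : Subgroup G) : Submodule k V where
  carrier := {x | ∀ u ∈ U, ρ u x = x}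
  zero_mem' := fun u _ => map_zero _
  add_mem' := fun ha hb u hu => by rw [map_add, ha u hu, hb u hu]
  smul_mem' := fun c x hx u hu => by rw [map_smul, hx u hu]

theorem mem_fixedSub {U : Subgroup G} {x : V} : x ∈ fixedSub ρ U ↔ ∀ u ∈ U, ρ u x = x := Iff.rfl

variable {P : Cfsg.BNPair G} [hN : ((P.B ⊓ P.N).subgroupOf P.N).Normal] {q : ℕ} {U : Subgroup G}
  (L : LieData P p q U)
include L

theorem mem_U_of_pElem {x : G} {j : ℕ} (hx : x ∈ P.B) (h : x ^ p ^ j = 1) : x ∈ U := by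
  obtain ⟨u, hu, t, ht, rfl⟩ := L.borel x hx
  have hnorm : ∀ m : ℕ, ∃ u' ∈ U, (u * t) ^ m = u' * t ^ m := by
    intro m
    induction m with
    | zero => exact ⟨1, one_mem _, by simp⟩
    | succ m ih =>
      obtain ⟨u', hu', e⟩ := ih
      refine ⟨u' * (t ^ m * u * (t ^ m)⁻¹),
        mul_mem hu' (L.U_normal _ (pow_mem ht.1 m) _ hu), ?_⟩
      rw [pow_succ, e, pow_succ]; group
  obtain ⟨u', hu', e⟩ := hnorm (p ^ j)
  rw [h] at e
  have h1 : t ^ p ^ j ∈ U ⊓ (P.B ⊓ P.N) :=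
    Subgroup.mem_inf.2 ⟨by rw [← inv_eq_of_mul_eq_one_right e.symm]; exact inv_mem hu', pow_mem ht _⟩
  rw [L.U_inf_torus, Subgroup.mem_bot] at h1
  have h2 : orderOf t = 1 := by
    have hd := orderOf_dvd_of_pow_eq_one h1
    have hc : orderOf t ∣ Nat.card ↥(P.B ⊓ P.N) :=
      Subgroup.orderOf_mk t ht ▸ orderOf_dvd_natCard (⟨t, ht⟩ : ↥(P.B ⊓ P.N))
    refine Nat.eq_one_of_dvd_coprimes ?_ hd hc
    exact Nat.Coprime.pow_left j ((Nat.Prime.coprime_iff_not_dvd L.hp).2 L.torus)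
  rw [orderOf_eq_one_iff.1 h2, mul_one]
  exact hu

theorem sumU_wrep_zero (hq : 1 < q) {w : Weyl P} (hw : ¬ (exchangeData P).IsTop w) {x : V}
    (hx : x ∈ fixedSub ρ U) : sumOp ρ U (ρ (wrep P w) x) = 0 := by
  set K := U ⊓ stabB P w with hK
  refine sumOp_eq_zero_of_le ρ (inf_le_left : K ≤ U) (sumOp_fixed_zero ρ
    (L.isPGroup_U.to_le inf_le_left) ?_ fun u hu => ?_)
  · intro hbot
    have h2 : Nat.card (stabB P w) = Nat.card K * Nat.card ↥(P.B ⊓ P.N) := by
      refine L.card_split inf_le_left inf_le_right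
        (fun t ht => (mem_stabB P).2 ⟨ht.1, (conj_mem_BN P (wrep_mem P w) ht).1⟩) fun x hx => ?_
      obtain ⟨hxB, hx'⟩ := (mem_stabB P).1 hx
      obtain ⟨u, hu, t, ht, rfl⟩ := L.borel x hxB
      refine ⟨u, Subgroup.mem_inf.2 ⟨hu, (mem_stabB P).2 ⟨L.U_le hu, ?_⟩⟩, t, ht, rfl⟩
      have e : (wrep P w)⁻¹ * u * wrep P w =
          ((wrep P w)⁻¹ * (u * t) * wrep P w) * ((wrep P w)⁻¹ * t * wrep P w)⁻¹ := by group
      rw [e]
      exact mul_mem hx' (inv_mem (conj_mem_BN P (wrep_mem P w) ht).1)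
    have h1 := L.card_stabB w
    rw [h2, show K = ⊥ from hbot, Subgroup.card_bot, one_mul, L.card_B, L.card_U] at h1
    have h3 := Nat.pow_right_injective hq (Nat.eq_of_mul_eq_mul_right Nat.card_pos h1)
    obtain ⟨w₀, h₀, -⟩ := L.top
    have h4 := L.topLen_eq h₀
    have h5 := (exchangeData P).len_top_mul h₀ (w₀⁻¹ * w)
    rw [mul_inv_cancel_left] at h5
    have h6 : (exchangeData P).len (w₀⁻¹ * w) = 0 := by omega
    exact hw (inv_mul_eq_one.1 ((exchangeData P).eq_one_of_len_eq_zero h6) ▸ h₀)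
  · obtain ⟨huU, huB⟩ := hu
    obtain ⟨-, hconj⟩ := (mem_stabB P).1 huB
    obtain ⟨j, hj⟩ := L.isPGroup_U ⟨u, huU⟩
    have hj' : ((wrep P w)⁻¹ * u * wrep P w) ^ p ^ j = 1 := by
      have hu1 : u ^ p ^ j = 1 := congrArg Subtype.val hj
      have := conj_pow (i := p ^ j) (a := (wrep P w)⁻¹) (b := u)
      rw [inv_inv] at this
      rw [this, hu1]; group
    have h := hx _ (mem_U_of_pElem L hconj hj')
    calc ρ u (ρ (wrep P w) x) = ρ (wrep P w * ((wrep P w)⁻¹ * u * wrep P w)) x := by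
          rw [← rho_mul]; group
      _ = ρ (wrep P w) x := by rw [rho_mul, h]

theorem rho_B_mem_fixed {b : G} (hb : b ∈ P.B) {x : V} (hx : x ∈ fixedSub ρ U) :
    ρ b x ∈ fixedSub ρ U := fun u hu => by
  have h := hx _ (L.U_normal _ (inv_mem hb) u hu)
  rw [inv_inv] at h
  calc ρ u (ρ b x) = ρ (b * (b⁻¹ * u * b)) x := by rw [← rho_mul]; group
    _ = ρ b x := by rw [rho_mul, h]

theorem conj_sumU {b : G} (hb : b ∈ P.B) (x : V) :
    ρ b (sumOp ρ U x) = sumOp ρ U (ρ b x) :=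
  conj_sumOp ρ (fun u hu => L.U_normal b hb u hu)
    (fun u hu => by simpa using L.U_normal _ (inv_mem hb) u hu) x

variable [FiniteDimensional k V]

/-- In a module with the Schur relations the `U`-fixed vectors form a line. -/
theorem rankOne [Nontrivial V] (hq : 1 < q)
    (hab : ∀ a ∈ P.B ⊓ P.N, ∀ b ∈ P.B ⊓ P.N, a * b = b * a) {c : k} (hc : c ≠ 0)
    (hschur : ∀ (f : Module.Dual k V) (x v : V),
      ∑ g, f (ρ g⁻¹ x) • ρ g v = (c * f v) • x)
    (n : P.N) (hn : (exchangeData P).IsTop (QuotientGroup.mk n : Weyl P)) :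
    ∃ v : V, v ≠ 0 ∧ v ∈ fixedSub ρ U ∧ (∀ x ∈ fixedSub ρ U, ∃ a : k, x = a • v) ∧
      sumOp ρ U (ρ (n : G) v) ≠ 0 := by
  set W := fixedSub ρ U with hW
  set T : Module.End k V := sumOp ρ U ∘ₗ ρ (n : G) with hT
  set S : Submodule k (Module.End k V) :=
    Submodule.span k (Set.range fun h : ↥(P.B ⊓ P.N) => ρ (h : G)) with hS
  have hSW : ∀ A ∈ S, ∀ x ∈ W, A x ∈ W := by
    intro A hA
    induction hA using Submodule.span_induction with
    | mem A hA =>
      obtain ⟨h, rfl⟩ := hA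
      exact fun x hx => rho_B_mem_fixed ρ L h.2.1 hx
    | zero => exact fun x _ => zero_mem W
    | add A B _ _ hA hB => exact fun x hx => add_mem (hA x hx) (hB x hx)
    | smul a A _ hA => exact fun x hx => W.smul_mem a (hA x hx)
  have hcomm : ∀ A ∈ S, ∀ B ∈ S, A * B = B * A := by
    intro A hA B hB
    have h1 : ∀ h : ↥(P.B ⊓ P.N), Commute (ρ (h : G)) B := by
      intro h
      induction hB using Submodule.span_induction with
      | mem B hB =>
        obtain ⟨h', rfl⟩ := hB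
        show ρ _ * ρ _ = ρ _ * ρ _
        rw [← map_mul, ← map_mul, hab _ h.2 _ h'.2]
      | zero => exact Commute.zero_right _
      | add A B _ _ hA hB => exact hA.add_right hB
      | smul a A _ hA => exact hA.smul_right a
    suffices h : Commute A B from h
    induction hA using Submodule.span_induction with
    | mem A hA => obtain ⟨h, rfl⟩ := hA; exact h1 h
    | zero => exact Commute.zero_left _
    | add A B _ _ hA hB => exact hA.add_left hB
    | smul a A _ hA => exact hA.smul_left a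
  have hop : ∀ g : G, ∃ A ∈ S, ∀ x ∈ W, sumOp ρ U (ρ g x) = T (A x) := by
    intro g
    obtain ⟨m, hm, hg⟩ := bruhat P g
    obtain ⟨a, ha, b, hb, rfl⟩ := (mem_dc P).1 hg
    by_cases htop : (exchangeData P).IsTop (QuotientGroup.mk (⟨m, hm⟩ : P.N) : Weyl P)
    · have he : (QuotientGroup.mk (⟨m, hm⟩ : P.N) : Weyl P) = QuotientGroup.mk n :=
        (exchangeData P).top_unique htop hn
      have hcong : (n : G)⁻¹ * m ∈ P.B ⊓ P.N :=
        Subgroup.mem_inf.2 ⟨(weyl_mk_eq P).1 he.symm, mul_mem (inv_mem n.2) hm⟩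
      obtain ⟨u₁, hu₁, h₁, hh₁, rfl⟩ := L.borel a ha
      obtain ⟨u₂, hu₂, h₂, hh₂, hb'⟩ := L.borel _ (mul_mem hcong.1 hb)
      refine ⟨ρ ((n : G)⁻¹ * h₁ * n * h₂), Submodule.subset_span
        ⟨⟨_, mul_mem (conj_mem_BN P n.2 hh₁) hh₂⟩, rfl⟩, fun x hx => ?_⟩
      show sumOp ρ U (ρ (u₁ * h₁ * m * b) x) =
        sumOp ρ U (ρ (n : G) (ρ ((n : G)⁻¹ * h₁ * n * h₂) x))
      have e1 : u₁ * h₁ * m * b = u₁ * (h₁ * ((n : G) * ((n : G)⁻¹ * m * b))) := by group
      rw [e1, hb', rho_mul, sumOp_rho ρ hu₁, ← rho_mul ρ (n : G)]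
      have e2 : (n : G) * ((n : G)⁻¹ * h₁ * n * h₂) = h₁ * ((n : G) * h₂) := by group
      rw [e2]
      rw [rho_mul ρ h₁, rho_mul ρ h₁, ← conj_sumU ρ L hh₁.1, ← conj_sumU ρ L hh₁.1, rho_mul,
        rho_mul ρ (n : G) h₂, rho_mul ρ u₂, rho_B_mem_fixed ρ L hh₂.1 hx u₂ hu₂]
    · refine ⟨0, zero_mem S, fun x hx => ?_⟩
      rw [LinearMap.zero_apply, map_zero]
      set w : Weyl P := QuotientGroup.mk (⟨m, hm⟩ : P.N) with hwdef
      have hcong : Cong P (wrep P w) m := (weyl_mk_eq P).1 (mk_wrep P w)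
      have e : a * m * b = a * (wrep P w * ((wrep P w)⁻¹ * m * b)) := by group
      rw [e, rho_mul, ← conj_sumU ρ L ha, rho_mul,
        sumU_wrep_zero ρ L hq htop (rho_B_mem_fixed ρ L (mul_mem hcong hb) hx), map_zero]
  have hrank : ∀ (f : Module.Dual k V), ∀ y ∈ W, ∃ A ∈ S, ∀ x ∈ W, T (A x) = f x • y := by
    intro f y hy
    obtain ⟨y', hy'⟩ : ∃ y', sumOp ρ U y' = y := by
      by_cases hy0 : y = 0
      · exact ⟨0, by rw [map_zero, hy0]⟩
      obtain ⟨f', hf'⟩ : ∃ f' : Module.Dual k V, f' y ≠ 0 := by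
        by_contra hcon
        push Not at hcon
        exact hy0 ((Module.forall_dual_apply_eq_zero_iff k y).1 hcon)
      have h := hschur f' y y
      set e := cosetEquiv U with he
      refine ⟨(c * f' y)⁻¹ • ∑ r : G ⧸ U, f' (ρ r.out y) • ρ r.out⁻¹ y, ?_⟩
      rw [map_smul, inv_smul_eq_iff₀ (mul_ne_zero hc hf'), ← h, map_sum,
        ← Equiv.sum_comp (Equiv.inv G) (fun g => f' (ρ g⁻¹ y) • ρ g y), ← e.sum_comp,
        Fintype.sum_prod_type]
      refine Finset.sum_congr rfl fun r _ => ?_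
      rw [map_smul, sumOp_apply, Finset.smul_sum]
      refine Fintype.sum_equiv (Equiv.inv U) _ _ fun u => ?_
      have key : e (r, u⁻¹) = r.out * (u : G)⁻¹ := rfl
      simp only [Equiv.inv_apply, key, _root_.mul_inv_rev, inv_inv]
      rw [rho_mul ρ r.out, hy _ (inv_mem u.2), rho_mul ρ (u : G)]
    choose A hAS hA using hop
    refine ⟨c⁻¹ • ∑ g, f (ρ g⁻¹ y') • A g,
      S.smul_mem _ (Submodule.sum_mem _ fun g _ => S.smul_mem _ (hAS g)), fun x hx => ?_⟩
    have h1 : ∑ g, f (ρ g⁻¹ y') • T (A g x) = (c * f x) • y := by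
      rw [← hy', ← map_smul (sumOp ρ U), ← hschur f y' x, map_sum]
      exact Finset.sum_congr rfl fun g _ => by rw [map_smul, hA g x hx]
    simp only [LinearMap.smul_apply, LinearMap.sum_apply, map_smul, map_sum]
    rw [h1, smul_smul, ← mul_assoc, inv_mul_cancel₀ hc, one_mul]
  have hTW : ∀ x ∈ W, T x ∈ W := fun x _ u hu => fix_sumOp ρ hu _
  obtain ⟨v, hv0, hvW⟩ := exists_fixed ρ L.isPGroup_U (p := p)
  obtain ⟨f₀, hf₀⟩ : ∃ f₀ : Module.Dual k V, f₀ v ≠ 0 := by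
    by_contra hcon
    push Not at hcon
    exact hv0 ((Module.forall_dual_apply_eq_zero_iff k v).1 hcon)
  have hinj : ∀ x ∈ W, T x = 0 → x = 0 := by
    have hsurj : Function.Surjective (T.restrict hTW) := by
      rintro ⟨y, hy⟩
      obtain ⟨A, hA, hAy⟩ := hrank f₀ y hy
      refine ⟨(f₀ v)⁻¹ • ⟨A v, hSW A hA v hvW⟩, Subtype.ext ?_⟩
      show T ((f₀ v)⁻¹ • A v) = y
      rw [map_smul, hAy v hvW, smul_smul, inv_mul_cancel₀ hf₀, one_smul]
    intro x hx hTx
    exact congrArg Subtype.val (LinearMap.injective_iff_surjective.2 hsurj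
      (a₁ := ⟨x, hx⟩) (a₂ := 0) (Subtype.ext (by simpa using hTx)))
  have hone : ∀ (f : Module.Dual k V), ∀ y ∈ W, ∃ A ∈ S, ∀ x ∈ W, A x = f x • y := by
    intro f y hy
    obtain ⟨A, hA, hAy⟩ := hrank f (T y) (hTW y hy)
    refine ⟨A, hA, fun x hx => sub_eq_zero.1 (hinj _ (sub_mem (hSW A hA x hx) (W.smul_mem _ hy)) ?_)⟩
    rw [map_sub, map_smul, hAy x hx, sub_self]
  refine ⟨v, hv0, hvW, fun x hx => ?_, fun h => hv0 (hinj v hvW h)⟩
  by_contra hcon
  push Not at hcon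
  have hx' : x ∉ Submodule.span k {v} := fun h => by
    obtain ⟨a, ha⟩ := Submodule.mem_span_singleton.1 h
    exact hcon a ha.symm
  obtain ⟨f, hfx, hfv⟩ := Submodule.exists_dual_map_eq_bot_of_notMem hx' inferInstance
  have hfv' : f v = 0 := by
    have : f v ∈ (Submodule.span k {v}).map f := ⟨v, Submodule.mem_span_singleton_self v, rfl⟩
    rwa [hfv, Submodule.mem_bot] at this
  obtain ⟨A, hA, hAv⟩ := hone ((f x)⁻¹ • f) v hvW
  obtain ⟨B, hB, hBx⟩ := hone ((f x)⁻¹ • f) x hx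
  have h1 : A (B x) = B (A x) := LinearMap.congr_fun (hcomm A hA B hB) x
  rw [hBx x hx, hAv x hx, LinearMap.smul_apply, smul_eq_mul, inv_mul_cancel₀ hfx, one_smul,
    one_smul, hAv x hx, hBx v hvW] at h1
  simp [hfx, hfv'] at h1
  exact hv0 h1

end Cfsg.Agent.Lib.BNPair.DefectZero
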