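import Cfsg.Agent.Lib.Blocks.LocalModel
import Cfsg.Agent.Lib.Blocks.Exists
import Cfsg.Agent.Lib.Characters.Values

/-!
A character of defect zero: the Schur relations of a reduced model.
-/

set_option autoImplicit false
set_option linter.unusedSectionVars false
set_option linter.style.haveILetI false

namespace Cfsg.Agent.Lib.BNPair.DefectZero

open Cfsg Cfsg.Agent.Lib.Characters Cfsg.Agent.Lib.Blocks Matrix

universe u

variable {G : Type u} [Group G] [Fintype G] {M : Ideal AlgInt} [hMp : M.IsPrime] {p : ℕ}

/-- The model over the local ring as a complex matrix representation. -/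
noncomputable def cplx {n : ℕ} (σ : G →* Matrix (Fin n) (Fin n) (locSubring M)) :
    Representation ℂ G (Fin n → ℂ) :=
  (Matrix.toLinAlgEquiv' (R := ℂ) (n := Fin n)).toMonoidHom.comp
    ((locSubring M).subtype.mapMatrix.toMonoidHom.comp σ)

theorem cplx_apply {n : ℕ} (σ : G →* Matrix (Fin n) (Fin n) (locSubring M)) (g : G)
    (x : Fin n → ℂ) : cplx σ g x = (σ g).map (locSubring M).subtype *ᵥ x := rfl

theorem cplx_character {n : ℕ} (σ : G →* Matrix (Fin n) (Fin n) (locSubring M)) (g : G) :
    (cplx σ).character g = ((σ g).map (locSubring M).subtype).trace :=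
  Matrix.trace_toLin'_eq _

/-- The model of a character of defect zero, with the Schur relations after reduction. -/
theorem exists_schur_model (hM : IsPModular p M) {χ : G → ℂ} (hχ : IsIrrCharacter G χ) {d : ℕ}
    (hd : χ 1 = (d : ℂ)) (hdiv : p ^ (Nat.card G).factorization p ∣ d) :
    ∃ (n : ℕ) (σ : G →* Matrix (Fin n) (Fin n) (locSubring M)),
      0 < n ∧ (∀ g, ((σ g).map (locSubring M).subtype).trace = χ g) ∧
      ∃ c : ResField M, c ≠ 0 ∧
        ∀ (f : Module.Dual (ResField M) (Fin n → ResField M)) (x v : Fin n → ResField M),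
          ∑ g, f (redModel σ g⁻¹ x) • redModel σ g v = (c * f v) • x := by
  classical
  obtain ⟨n, σ, hσ⟩ := exists_model (M := M) hM hχ
  set r := cplx σ with hr
  have hirr : r.IsIrreducible := by
    obtain ⟨m, τ, hτ, hτχ⟩ := hχ
    have : τ.character = r.character := by
      rw [hτχ]; funext g; rw [cplx_character, hσ]
    obtain ⟨φ⟩ := nonempty_equiv_of_character_eq τ r this
    exact isIrreducible_of_equiv φ
  have hn : 0 < n := by simpa using finrank_pos_of_isIrreducible r
  have hnd : n = d := by
    have h := hσ 1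
    rw [map_one, hd, Matrix.map_one _ (map_zero _) (map_one _), Matrix.trace_one,
      Fintype.card_fin] at h
    exact_mod_cast h
  set v := (Nat.card G).factorization p with hv
  obtain ⟨e, he⟩ : p ^ v ∣ n := hnd ▸ hdiv
  obtain ⟨m, hm⟩ : p ^ v ∣ Nat.card G := Nat.ordProj_dvd _ _
  have hmp : ¬ p ∣ m := by
    intro hdvd
    refine Nat.pow_succ_factorization_not_dvd (Nat.card_pos (α := G)).ne' hM.1 ?_
    conv_rhs => rw [hm]
    exact pow_succ p v ▸ Nat.mul_dvd_mul_left _ hdvd
  set R : G →* Matrix (Fin n) (Fin n) ℂ := (locSubring M).subtype.mapMatrix.toMonoidHom.comp σ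
    with hR
  have hC : ∀ a b i j, (e : ℂ) * ∑ g, R g i a * R g⁻¹ b j =
      (m : ℂ) * ((if a = b then 1 else 0) * (if i = j then 1 else 0)) := by
    intro a b i j
    set A : Matrix (Fin n) (Fin n) ℂ := ∑ g, R g * single a b 1 * R g⁻¹ with hA
    have hcomm : ∀ h, R h * A = A * R h := by
      intro h
      rw [hA, Finset.mul_sum, Finset.sum_mul]
      refine Fintype.sum_equiv (Equiv.mulLeft h) _ _ fun g => ?_
      simp only [Equiv.coe_mulLeft, _root_.mul_inv_rev, map_mul, mul_assoc]
      rw [← map_mul R h⁻¹ h, inv_mul_cancel, map_one, mul_one]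
    obtain ⟨z, hz⟩ := exists_smul_of_commute r (Matrix.toLinAlgEquiv' A) fun g => by
      show Matrix.toLinAlgEquiv' A * Matrix.toLinAlgEquiv' (R g) =
        Matrix.toLinAlgEquiv' (R g) * Matrix.toLinAlgEquiv' A
      rw [← map_mul, ← map_mul, hcomm]
    have hA1 : A = z • (1 : Matrix (Fin n) (Fin n) ℂ) := by
      apply (Matrix.toLinAlgEquiv' (R := ℂ) (n := Fin n)).injective
      rw [hz, map_smul, map_one]; rfl
    have htr : (Nat.card G : ℂ) * (if a = b then 1 else 0) = z * n := by
      have h := congrArg Matrix.trace hA1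
      rw [Matrix.trace_smul, Matrix.trace_one, Fintype.card_fin, smul_eq_mul, hA,
        Matrix.trace_sum] at h
      rw [← h, Nat.card_eq_fintype_card]
      have : ∀ g, (R g * single a b (1 : ℂ) * R g⁻¹).trace = (if a = b then 1 else 0) := fun g => by
        rw [Matrix.trace_mul_cycle, ← map_mul, inv_mul_cancel, map_one, one_mul]
        by_cases hab : a = b
        · subst hab; simp
        · simp [hab, Matrix.trace_single_eq_of_ne]
      simp only [this, Finset.sum_const, Finset.card_univ, nsmul_eq_mul]
    have hij : ∑ g, R g i a * R g⁻¹ b j = z * (if i = j then 1 else 0) := by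
      have h := congrFun (congrFun hA1 i) j
      rw [hA, Matrix.sum_apply, Matrix.smul_apply, Matrix.one_apply, smul_eq_mul] at h
      rw [← h]
      refine Finset.sum_congr rfl fun g _ => ?_
      rw [Matrix.mul_apply, Finset.sum_eq_single b (fun x _ hx => by
        simp [Matrix.mul_single_apply_of_ne, hx]) (by simp)]
      simp
    rw [hij]
    have hp0 : (p : ℂ) ^ v ≠ 0 := pow_ne_zero _ (Nat.cast_ne_zero.2 hM.1.ne_zero)
    apply mul_left_cancel₀ hp0
    have hnC : (p : ℂ) ^ v * e = n := by rw [he]; push_cast; rfl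
    have hGC : (p : ℂ) ^ v * m = Nat.card G := by rw [hm]; push_cast; rfl
    linear_combination (z * (if i = j then 1 else 0)) * hnC -
      ((if a = b then 1 else 0) * (if i = j then 1 else 0)) * hGC -
      (if i = j then 1 else 0) * htr
  have hk : ∀ a b i j, (e : ResField M) * ∑ g, red M (σ g i a) * red M (σ g⁻¹ b j) =
      (m : ResField M) * ((if a = b then 1 else 0) * (if i = j then 1 else 0)) := by
    intro a b i j
    have h : (e : locSubring M) * ∑ g, σ g i a * σ g⁻¹ b j =
        (m : locSubring M) * ((if a = b then 1 else 0) * (if i = j then 1 else 0)) := by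
      apply (Subring.subtype_injective (locSubring M))
      simp only [map_mul, map_natCast, map_sum, apply_ite (locSubring M).subtype, map_one, map_zero]
      exact hC a b i j
    have h' := congrArg (red M) h
    simpa only [map_mul, map_natCast, map_sum, apply_ite (red M), map_one, map_zero] using h'
  haveI := resField_charP hM
  have hm0 : (m : ResField M) ≠ 0 := fun h => hmp ((CharP.cast_eq_zero_iff _ p m).1 h)
  have he0 : (e : ResField M) ≠ 0 := by
    intro h
    have h1 := hk ⟨0, hn⟩ ⟨0, hn⟩ ⟨0, hn⟩ ⟨0, hn⟩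
    rw [h, zero_mul, if_pos rfl, one_mul, mul_one] at h1
    exact hm0 h1.symm
  refine ⟨n, σ, hn, hσ, (m : ResField M) / e, div_ne_zero hm0 he0, fun f x w => ?_⟩
  have hf : ∀ y : Fin n → ResField M, f y = ∑ b, f (Pi.single b 1) * y b := fun y => by
    conv_lhs => rw [pi_eq_sum_univ' y, map_sum]
    simp only [map_smul, smul_eq_mul, mul_comm]
  funext i
  apply mul_left_cancel₀ he0
  simp only [Finset.sum_apply, Pi.smul_apply, smul_eq_mul, redModel_apply]
  rw [Finset.mul_sum]
  calc ∑ g, (e : ResField M) * (f ((σ g⁻¹).map (red M) *ᵥ x) * ((σ g).map (red M) *ᵥ w) i)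
      = ∑ a, ∑ b, ∑ j, (f (Pi.single b 1) * x j * w a) *
          ((e : ResField M) * ∑ g, red M (σ g i a) * red M (σ g⁻¹ b j)) := by
        have hfg : ∀ g, f ((σ g⁻¹).map (red M) *ᵥ x) =
            ∑ b, f (Pi.single b 1) * ((σ g⁻¹).map (red M) *ᵥ x) b := fun g => hf _
        simp only [hfg, Matrix.mulVec, dotProduct, Matrix.map_apply, Finset.sum_mul,
          Finset.mul_sum]
        rw [Finset.sum_comm]
        refine Finset.sum_congr rfl fun a _ => ?_
        rw [Finset.sum_comm]
        refine Finset.sum_congr rfl fun b _ => ?_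
        rw [Finset.sum_comm]
        refine Finset.sum_congr rfl fun j _ => Finset.sum_congr rfl fun g _ => ?_
        ring
    _ = (m : ResField M) * ((∑ b, f (Pi.single b 1) * w b) * x i) := by
        simp only [hk, mul_ite, mul_one, mul_zero, ite_mul, zero_mul, Finset.sum_ite_irrel,
          Finset.sum_const_zero, Finset.sum_ite_eq, Finset.sum_ite_eq', Finset.mem_univ, if_true]
        simp only [Finset.sum_mul, Finset.mul_sum]
        exact Finset.sum_congr rfl fun b _ => by ring
    _ = (e : ResField M) * ((m : ResField M) / e * f w * x i) := by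
        rw [← hf w, ← mul_assoc (e : ResField M), ← mul_assoc (e : ResField M),
          mul_div_cancel₀ _ he0]
        ring

end Cfsg.Agent.Lib.BNPair.DefectZero
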