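import Cfsg.Agent.Lib.BNPair.Longest

/-!
Longest elements of the standard parabolic subgroups of a Coxeter group.
-/

set_option autoImplicit false

namespace Cfsg.Agent.Lib.BNPair

namespace ExchangeData

variable {W : Type*} [Group W] {I : Type*} (E : ExchangeData W I)

theorem pw_coe {J : Set I} (ω : List J) :
    ((ω.map fun j : J => (⟨E.gen j, E.gen_mem_wsub j.2⟩ : E.wsub J)).prod : E.wsub J).1 =
      E.pw (ω.map Subtype.val) := by
  induction ω with
  | nil => rfl
  | cons j ω ih =>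
    rw [List.map_cons, List.prod_cons, Subgroup.coe_mul, ih, List.map_cons, E.pw_cons]

/-- The exchange data of a standard parabolic subgroup. -/
def subData (J : Set I) : ExchangeData (E.wsub J) J where
  gen j := ⟨E.gen j, E.gen_mem_wsub j.2⟩
  len v := E.len (v : W)
  sq j := Subtype.ext (E.sq j)
  ne_one j h := E.ne_one j (congrArg Subtype.val h)
  gen_inj j j' h := Subtype.ext (E.gen_inj (congrArg Subtype.val h))
  len_one := E.len_one
  exists_word v := by
    obtain ⟨ω, hred, he, hmem⟩ := E.exists_red_of_mem_wsub v.2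
    lift ω to List J using hmem
    refine ⟨ω, ?_, Subtype.ext ?_⟩
    · rw [← List.length_map (f := Subtype.val) (as := ω), ← hred, he]
    · rw [E.pw_coe]; exact he
  len_le ω := by
    show E.len _ ≤ _
    rw [E.pw_coe]
    simpa using E.len_pw_le (ω.map Subtype.val)
  len_mul_ne j v := E.len_mul_ne j v
  exch ω j hl hlt := by
    change E.len _ = _ at hl
    change E.len (E.gen j * _) < _ at hlt
    rw [E.pw_coe] at hl hlt
    obtain ⟨k, hk, he⟩ := E.exch (ω.map Subtype.val) j
      (by simpa [pw] using hl) (by simpa [pw] using hlt)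
    refine ⟨k, by simpa using hk, Subtype.ext ?_⟩
    rw [Subgroup.coe_mul, E.pw_coe, E.pw_coe, ← List.eraseIdx_map]
    exact he

theorem mem_of_gen_mem {J : Set I} {k : I} (h : E.gen k ∈ E.wsub J) : k ∈ J := by
  obtain ⟨ω, hred, he, hmem⟩ := E.exists_red_of_mem_wsub h
  have h1 : E.len (E.gen k) = 1 := by
    have := E.len_le [k]
    simp only [List.map_cons, List.map_nil, List.prod_singleton, List.length_singleton] at this
    have h0 : E.len (E.gen k) ≠ 0 := fun h0 => E.ne_one k (E.eq_one_of_len_eq_zero h0)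
    omega
  have hl : ω.length = 1 := by rw [← hred, he, h1]
  obtain ⟨i, rfl⟩ := List.length_eq_one_iff.1 hl
  have : E.gen i = E.gen k := by simpa [pw] using he
  exact E.gen_inj this ▸ hmem i (by simp)

theorem exists_gen_of_len_eq_one {w : W} (h : E.len w = 1) : ∃ k, E.gen k = w := by
  obtain ⟨ω, hl, he⟩ := E.exists_word' w
  rw [h] at hl
  obtain ⟨i, rfl⟩ := List.length_eq_one_iff.1 hl
  exact ⟨i, by simpa [pw] using he⟩

theorem len_gen (k : I) : E.len (E.gen k) = 1 := by
  have := E.len_le [k]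
  simp only [List.map_cons, List.map_nil, List.prod_singleton, List.length_singleton] at this
  have h0 : E.len (E.gen k) ≠ 0 := fun h0 => E.ne_one k (E.eq_one_of_len_eq_zero h0)
  omega

/-- The longest element of `W_J`. -/
def RTop (J : Set I) (v : W) : Prop :=
  v ∈ E.wsub J ∧ ∀ j ∈ J, E.len (v * E.gen j) < E.len v

theorem exists_rtop [Finite W] (J : Set I) : ∃ v, E.RTop J v := by
  obtain ⟨v, hv⟩ := (E.subData J).exists_top
  exact ⟨v.1, v.2, fun j hj => hv ⟨j, hj⟩⟩

theorem rtop_len {J : Set I} {v : W} (h : E.RTop J v) {u : W} (hu : u ∈ E.wsub J) :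
    E.len (v * u) + E.len u = E.len v :=
  (E.subData J).len_top_mul (w := ⟨v, h.1⟩) (fun j => h.2 j.1 j.2) ⟨u, hu⟩

theorem rtop_unique {J : Set I} {v v' : W} (h : E.RTop J v) (h' : E.RTop J v') : v = v' :=
  congrArg Subtype.val ((E.subData J).top_unique (w := ⟨v, h.1⟩) (w' := ⟨v', h'.1⟩)
    (fun j => h.2 j.1 j.2) (fun j => h'.2 j.1 j.2))

theorem rtop_inv_eq {J : Set I} {v : W} (h : E.RTop J v) : v⁻¹ = v := by
  refine E.rtop_unique ⟨inv_mem h.1, fun j hj => ?_⟩ h
  have h1 := E.rtop_len h (mul_mem (mul_mem (inv_mem h.1) (E.gen_mem_wsub hj)) h.1)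
  have e : v * (v⁻¹ * E.gen j * v) = E.gen j * v := by group
  rw [e] at h1
  rw [← E.len_inv (v⁻¹ * E.gen j), mul_inv_rev, E.gen_inv, inv_inv, E.len_inv v]
  have h2 := E.len_mul_ne j v
  omega

theorem rtop_len_left {J : Set I} {v : W} (h : E.RTop J v) {u : W} (hu : u ∈ E.wsub J) :
    E.len (u * v) + E.len u = E.len v := by
  have := E.rtop_len h (inv_mem hu)
  rwa [E.len_inv, ← E.len_inv (v * u⁻¹), mul_inv_rev, inv_inv, E.rtop_inv_eq h] at this

theorem rtop_conj {J : Set I} {v : W} (h : E.RTop J v) {u : W} (hu : u ∈ E.wsub J) :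
    E.len (v * u * v) = E.len u := by
  have h1 := E.rtop_len h hu
  have h2 := E.rtop_len_left h (mul_mem h.1 hu)
  omega

theorem rtop_conj_gen {J : Set I} {v : W} (h : E.RTop J v) {j : I} (hj : j ∈ J) :
    ∃ k ∈ J, E.gen k = v * E.gen j * v := by
  have hu := E.gen_mem_wsub hj
  obtain ⟨k, hk⟩ := E.exists_gen_of_len_eq_one ((E.rtop_conj h hu).trans (E.len_gen j))
  exact ⟨k, E.mem_of_gen_mem (hk ▸ mul_mem (mul_mem h.1 hu) h.1), hk⟩

theorem rtop_empty : E.RTop ∅ 1 := ⟨one_mem _, fun _ hj => absurd hj (Set.notMem_empty _)⟩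

theorem top_rtop {w : W} (h : E.IsTop w) : E.RTop Set.univ w := by
  refine ⟨?_, fun j _ => h j⟩
  obtain ⟨ω, -, he⟩ := E.exists_word' w
  exact he ▸ E.pw_mem_wsub fun i _ => Set.mem_univ i

theorem mem_univ_wsub (w : W) : w ∈ E.wsub Set.univ := by
  obtain ⟨ω, -, he⟩ := E.exists_word' w
  exact he ▸ E.pw_mem_wsub fun i _ => Set.mem_univ i

theorem top_conj {w : W} (h : E.IsTop w) (u : W) : E.len (w * u * w) = E.len u :=
  E.rtop_conj (E.top_rtop h) (E.mem_univ_wsub u)

theorem top_inv_eq {w : W} (h : E.IsTop w) : w⁻¹ = w := E.rtop_inv_eq (E.top_rtop h)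

theorem top_mul_self {w : W} (h : E.IsTop w) : w * w = 1 := by
  rw [← E.top_inv_eq h]
  nth_rw 2 [E.top_inv_eq h]
  exact inv_mul_cancel w

/-- Each generator in `J` is conjugated by `x` to a generator. -/
def AllSimple (J : Set I) (x : W) : Prop := ∀ j ∈ J, ∃ k, E.gen j * x = x * E.gen k

/-- The generators into which `x` conjugates `J`. -/
def conjSet (J : Set I) (x : W) : Set I := {k | ∃ j ∈ J, E.gen j * x = x * E.gen k}

theorem simple_of_mem {J K : Set I} {x : W} (hJ : E.LMin J x) (hK : E.RMin K x) {j : I}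
    (hj : j ∈ J) (h : x⁻¹ * E.gen j * x ∈ E.wsub K) :
    ∃ k ∈ K, E.gen j * x = x * E.gen k := by
  have h1 := E.rmin_len_add hK h
  have e : x * (x⁻¹ * E.gen j * x) = E.gen j * x := by group
  rw [e] at h1
  have h2 := hJ j hj
  have h3 := E.len_gen_mul_le j x
  obtain ⟨k, hk⟩ := E.exists_gen_of_len_eq_one (w := x⁻¹ * E.gen j * x) (by omega)
  exact ⟨k, E.mem_of_gen_mem (hk ▸ h), by rw [hk]; group⟩

theorem kilmoyer {J K : Set I} {x : W} (hJ : E.LMin J x) (hK : E.RMin K x) {u v : W}
    (hu : u ∈ E.wsub J) (hv : v ∈ E.wsub K) (he : u * x = x * v) :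
    u ∈ E.wsub {j ∈ J | x⁻¹ * E.gen j * x ∈ E.wsub K} := by
  obtain ⟨ω, hred, hue, hmem⟩ := E.exists_red_of_mem_wsub hu
  subst hue
  clear hu
  induction ω generalizing v with
  | nil => exact one_mem _
  | cons j ω ih =>
    have hjJ : j ∈ J := hmem j (by simp)
    have hωJ : ∀ i ∈ ω, i ∈ J := fun i hi => hmem i (by simp [hi])
    have hlx : ∀ y : W, y ∈ E.wsub J → E.len (y * x) = E.len y + E.len x := fun y hy => by
      have hm := (E.lmin_iff (w := x)).1 hJ
      have := E.rmin_len_add hm (inv_mem hy)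
      rw [← mul_inv_rev, E.len_inv, E.len_inv, E.len_inv] at this
      omega
    obtain ⟨κ, hκ, hve, hκK⟩ := E.exists_red_of_mem_wsub hv
    obtain ⟨ξ, hξ, hxe⟩ := E.exists_word' x
    have hpw : E.pw (ξ ++ κ) = E.pw (j :: ω) * x := by rw [E.pw_append, hxe, hve, he]
    have hlv : E.len (x * v) = E.len x + E.len v := E.rmin_len_add hK hv
    have hκl : E.len v = κ.length := hve ▸ hκ
    have hredc : E.Red (ξ ++ κ) := by
      show E.len _ = _
      rw [hpw, he, hlv, List.length_append, hξ, hκl]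
    have h1 := hlx _ (E.pw_mem_wsub hmem)
    have h2 := hlx _ (E.pw_mem_wsub hωJ)
    have hl1 : E.len (E.pw (j :: ω)) = ω.length + 1 := hred
    have hl2 : E.len (E.pw ω) = ω.length := E.red_tail hred
    have hdesc : E.len (E.gen j * E.pw (ξ ++ κ)) < (ξ ++ κ).length := by
      rw [show (ξ ++ κ).length = E.len (E.pw (ξ ++ κ)) from hredc.symm, hpw, E.pw_cons,
        ← mul_assoc, ← mul_assoc, E.sq, one_mul, ← E.pw_cons]
      omega
    obtain ⟨i, hi, hie⟩ := E.exch (ξ ++ κ) j hredc hdesc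
    change E.gen j * E.pw (ξ ++ κ) = E.pw _ at hie
    by_cases hiξ : i < ξ.length
    · exfalso
      rw [List.eraseIdx_append_of_lt_length hiξ, E.pw_append, E.pw_append, ← mul_assoc,
        mul_left_inj, hxe] at hie
      have h3 := hJ j hjJ
      have h4 := E.len_pw_le (ξ.eraseIdx i)
      rw [← hie, List.length_eraseIdx_of_lt hiξ] at h4
      omega
    · rw [List.eraseIdx_append_of_length_le (by omega), hpw, E.pw_cons,
        ← mul_assoc, ← mul_assoc, E.sq, one_mul, E.pw_append, hxe] at hie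
      set v' := E.pw (κ.eraseIdx (i - ξ.length)) with hv'
      have hv'K : v' ∈ E.wsub K :=
        E.pw_mem_wsub fun a ha => hκK a ((List.eraseIdx_sublist _ _).mem ha)
      have hin := ih hv'K (E.red_tail hred) hωJ hie
      rw [E.pw_cons]
      refine mul_mem (E.gen_mem_wsub ⟨hjJ, ?_⟩) hin
      have : x⁻¹ * E.gen j * x = v * v'⁻¹ := by
        have e1 : v = x⁻¹ * E.pw (j :: ω) * x := by rw [mul_assoc, he]; group
        have e2 : v' = x⁻¹ * E.pw ω * x := by rw [mul_assoc, hie]; group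
        rw [e1, e2, E.pw_cons]; group
      rw [this]
      exact mul_mem hv (inv_mem hv'K)

theorem opp_spec {J : Set I} {v w₀ : W} (hv : E.RTop J v) (hw : E.IsTop w₀) :
    E.LMin J (v * w₀) ∧ E.AllSimple J (v * w₀) ∧
      (∀ k, E.len (v * w₀) < E.len (v * w₀ * E.gen k) → k ∈ E.conjSet J (v * w₀)) ∧
      E.len (v * w₀) + E.len v = E.len w₀ := by
  have hlen : ∀ u : W, E.len (u * w₀) + E.len u = E.len w₀ := fun u =>
    E.rtop_len_left (E.top_rtop hw) (E.mem_univ_wsub u)
  have hvv : v * v = 1 := by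
    nth_rw 1 [← E.rtop_inv_eq hv]
    exact inv_mul_cancel v
  have hww := E.top_mul_self hw
  have hsimp : ∀ j ∈ J, ∃ k, E.gen j * (v * w₀) = v * w₀ * E.gen k := by
    intro j hj
    obtain ⟨i, -, hi⟩ := E.rtop_conj_gen hv hj
    obtain ⟨k, hk⟩ := E.exists_gen_of_len_eq_one ((E.top_conj hw (E.gen i)).trans (E.len_gen i))
    refine ⟨k, ?_⟩
    rw [hk, hi]
    calc E.gen j * (v * w₀) = (v * v) * E.gen j * (v * w₀) := by rw [hvv, one_mul]
      _ = v * (w₀ * w₀) * (v * E.gen j * v) * w₀ := by rw [hww]; group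
      _ = _ := by group
  refine ⟨fun j hj => ?_, hsimp, fun k hk => ?_, hlen v⟩
  · have h1 := hlen (E.gen j * v)
    have h2 := hlen v
    rw [mul_assoc] at h1
    have h3 := E.rtop_len_left hv (E.gen_mem_wsub hj)
    rw [E.len_gen] at h3
    omega
  · obtain ⟨i, hi⟩ := E.exists_gen_of_len_eq_one ((E.top_conj hw (E.gen k)).trans (E.len_gen k))
    have h1 := hlen (v * E.gen i)
    have h2 := hlen v
    have e : v * E.gen i * w₀ = v * w₀ * E.gen k := by
      rw [hi]
      calc v * (w₀ * E.gen k * w₀) * w₀ = v * w₀ * E.gen k * (w₀ * w₀) := by group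
        _ = _ := by rw [hww, mul_one]
    rw [e] at h1
    have hiJ : i ∈ J := by
      obtain ⟨κ, hκ, hve, hκJ⟩ := E.exists_red_of_mem_wsub hv.1
      have hdesc : E.len (E.gen i * E.pw κ.reverse) < κ.reverse.length := by
        rw [E.pw_reverse, hve, ← E.len_inv, mul_inv_rev, inv_inv, E.gen_inv, List.length_reverse,
          ← hκ, hve]
        omega
      have hred' : E.Red κ.reverse := by
        show E.len _ = _
        rw [E.pw_reverse, E.len_inv, List.length_reverse]
        exact hκ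
      obtain ⟨a, ha, hae⟩ := E.exch κ.reverse i hred' hdesc
      change E.gen i * E.pw κ.reverse = E.pw _ at hae
      refine E.mem_of_gen_mem ?_
      have hm : E.pw (κ.reverse.eraseIdx a) ∈ E.wsub J := E.pw_mem_wsub fun b hb =>
        hκJ b (List.mem_reverse.1 ((List.eraseIdx_sublist _ _).mem hb))
      have hm2 : E.pw κ.reverse ∈ E.wsub J :=
        E.pw_mem_wsub fun b hb => hκJ b (List.mem_reverse.1 hb)
      rw [← hae, Subgroup.mul_mem_cancel_right _ hm2] at hm
      exact hm
    obtain ⟨j, hj, hje⟩ := E.rtop_conj_gen hv hiJ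
    refine ⟨j, hj, ?_⟩
    rw [hje, ← e]
    calc v * E.gen i * v * (v * w₀) = v * E.gen i * (v * v) * w₀ := by group
      _ = _ := by rw [hvv, mul_one]

theorem opp_unique {J : Set I} {v w₀ x : W} (hv : E.RTop J v) (hw : E.IsTop w₀)
    (hx : E.LMin J x)
    (hasc : ∀ k, E.len x < E.len (x * E.gen k) → k ∈ E.conjSet J x) : x = v * w₀ := by
  have hvv : v * v = 1 := by
    nth_rw 1 [← E.rtop_inv_eq hv]
    exact inv_mul_cancel v
  have hm := (E.lmin_iff (w := x)).1 hx
  have hlx : ∀ y : W, y ∈ E.wsub J → E.len (y * x) = E.len y + E.len x := fun y hy => by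
    have := E.rmin_len_add hm (inv_mem hy)
    rw [← mul_inv_rev, E.len_inv, E.len_inv, E.len_inv] at this
    omega
  suffices E.IsTop (v * x) by
    rw [← E.top_unique this hw, ← mul_assoc, hvv, one_mul]
  intro k
  have hne : E.len (v * x * E.gen k) ≠ E.len (v * x) := by
    rw [← E.len_inv (v * x * E.gen k), mul_inv_rev, E.gen_inv, ← E.len_inv (v * x)]
    exact E.len_mul_ne _ _
  have h1 := hlx v hv.1
  rcases Nat.lt_or_ge (E.len x) (E.len (x * E.gen k)) with h | h
  · obtain ⟨j, hj, hje⟩ := hasc k h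
    rw [mul_assoc, ← hje, ← mul_assoc]
    have h2 := hlx _ (mul_mem hv.1 (E.gen_mem_wsub hj))
    have h3 := hv.2 j hj
    omega
  · have h2 := E.len_mul_le v (x * E.gen k)
    rw [← mul_assoc] at h2
    omega

end ExchangeData

end Cfsg.Agent.Lib.BNPair
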