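import Mathlib
import Cfsg.Agent.Lib.BNPair.LongestSub

/-!
The Hecke algebra of a group with exchange data, inside the matrices over the group.
-/

set_option autoImplicit false

namespace Cfsg.Agent.Lib.BNPair

open Matrix

namespace ExchangeData

variable {W : Type*} [Group W] {I : Type*} (E : ExchangeData W I)

theorem len_mul_gen_or (w : W) (i : I) :
    E.len (w * E.gen i) = E.len w + 1 ∨ E.len (w * E.gen i) + 1 = E.len w := by
  have h := E.len_gen_mul_or i w⁻¹
  rwa [← E.len_inv (E.gen i * w⁻¹), _root_.mul_inv_rev, inv_inv, E.gen_inv, E.len_inv w] at h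

theorem gen_mul_gen_mul (i : I) (w : W) : E.gen i * (E.gen i * w) = w := by
  rw [← mul_assoc, E.sq, one_mul]

theorem mul_gen_mul_gen (w : W) (i : I) : w * E.gen i * E.gen i = w := by
  rw [mul_assoc, E.sq, mul_one]

/-- If `s` and `r` both lengthen `w` but together do not, then `s w = w r`. -/
theorem gen_mul_eq_mul_gen {s r : I} {w : W} (hs : E.len (E.gen s * w) = E.len w + 1)
    (hr : E.len (w * E.gen r) = E.len w + 1) (hsr : E.len (E.gen s * w * E.gen r) = E.len w) :
    E.gen s * w = w * E.gen r := by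
  obtain ⟨ω, hω, he⟩ := E.exists_word' w
  have hpw : E.pw (ω ++ [r]) = w * E.gen r := by rw [E.pw_append, he]; simp [pw]
  have hred : E.Red (ω ++ [r]) := by
    show E.len _ = _
    rw [hpw, hr, List.length_append, List.length_singleton, hω]
  obtain ⟨j, hj, hje⟩ := E.exch (ω ++ [r]) s hred (by
    show E.len (E.gen s * E.pw (ω ++ [r])) < _
    rw [hpw, ← mul_assoc, hsr, List.length_append, List.length_singleton, hω]
    omega)
  change E.gen s * E.pw (ω ++ [r]) = E.pw _ at hje
  rw [hpw] at hje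
  by_cases hjω : j < ω.length
  · exfalso
    rw [List.eraseIdx_append_of_lt_length hjω, E.pw_append, show E.pw [r] = E.gen r by simp [pw],
      ← mul_assoc, mul_left_inj] at hje
    have h2 := E.len_pw_le (ω.eraseIdx j)
    rw [← hje, List.length_eraseIdx_of_lt hjω] at h2
    omega
  · rw [List.length_append, List.length_singleton] at hj
    obtain rfl : j = ω.length := by omega
    rw [List.eraseIdx_append_of_length_le le_rfl] at hje
    simp only [Nat.sub_self, List.eraseIdx_zero, List.tail_cons, List.append_nil] at hje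
    rw [he] at hje
    calc E.gen s * w = E.gen s * (E.gen s * (w * E.gen r)) := by rw [hje]
      _ = w * E.gen r := E.gen_mul_gen_mul s _

variable [Fintype W] [DecidableEq W] {R : Type*} [CommRing R] (q : R)

/-- A basis vector. -/
def bv (w : W) : W → R := Pi.single w 1

/-- The action of a generator from the left on a basis vector. -/
def lcol (s : I) (w : W) : W → R :=
  if E.len w < E.len (E.gen s * w) then bv (E.gen s * w)
  else q • bv (E.gen s * w) + (q - 1) • bv w

/-- The action of a generator from the right on a basis vector. -/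
def rcol (s : I) (w : W) : W → R :=
  if E.len w < E.len (w * E.gen s) then bv (w * E.gen s)
  else q • bv (w * E.gen s) + (q - 1) • bv w

/-- The left generator. -/
def Ts (s : I) : Matrix W W R := Matrix.of fun x w => E.lcol q s w x

/-- The right generator. -/
def Rs (s : I) : Matrix W W R := Matrix.of fun x w => E.rcol q s w x

theorem mulVec_bv (M : Matrix W W R) (w : W) : M *ᵥ bv w = fun x => M x w := by
  funext x; simp [bv, Matrix.mulVec, dotProduct, Pi.single_apply]

theorem Ts_bv (s : I) (w : W) : E.Ts q s *ᵥ bv w = E.lcol q s w := by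
  rw [mulVec_bv]; rfl

theorem Rs_bv (s : I) (w : W) : E.Rs q s *ᵥ bv w = E.rcol q s w := by
  rw [mulVec_bv]; rfl

theorem ext_bv {M M' : Matrix W W R} (h : ∀ w, M *ᵥ bv w = M' *ᵥ bv w) : M = M' := by
  ext x w
  have := congrFun (h w) x
  rwa [mulVec_bv, mulVec_bv] at this

theorem Ts_Rs_comm (s r : I) : E.Ts q s * E.Rs q r = E.Rs q r * E.Ts q s := by
  refine ext_bv fun w => ?_
  rw [← Matrix.mulVec_mulVec, ← Matrix.mulVec_mulVec, E.Rs_bv, E.Ts_bv]
  have h1 := E.len_gen_mul_or s w
  have h2 := E.len_mul_gen_or w r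
  have h3 := E.len_gen_mul_or s (w * E.gen r)
  have h4 := E.len_mul_gen_or (E.gen s * w) r
  rw [mul_assoc] at h4
  simp only [rcol, lcol]
  rcases h1 with h1 | h1 <;> rcases h2 with h2 | h2
  · -- both ascents
    rw [if_pos (by omega), if_pos (by omega), E.Ts_bv, E.Rs_bv]
    simp only [rcol, lcol]
    by_cases h5 : E.len (E.gen s * (w * E.gen r)) = E.len w
    · rw [if_neg (by omega), if_neg (by rw [mul_assoc]; omega),
        E.gen_mul_eq_mul_gen h1 h2 (by rw [mul_assoc]; exact h5), ← mul_assoc,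
        E.gen_mul_eq_mul_gen h1 h2 (by rw [mul_assoc]; exact h5)]
    · rw [if_pos (by omega), if_pos (by rw [mul_assoc]; omega), mul_assoc]
  · -- left ascent, right descent
    rw [if_neg (by omega), if_pos (by omega), Matrix.mulVec_add, Matrix.mulVec_smul,
      Matrix.mulVec_smul, E.Ts_bv, E.Ts_bv, E.Rs_bv]
    simp only [rcol, lcol]
    rw [if_pos (by omega), if_pos (by omega), if_neg (by rw [mul_assoc]; omega), mul_assoc]
  · rw [if_pos (by omega), if_neg (by omega), Matrix.mulVec_add, Matrix.mulVec_smul,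
      Matrix.mulVec_smul, E.Rs_bv, E.Rs_bv, E.Ts_bv]
    simp only [rcol, lcol]
    rw [if_neg (by omega), if_pos (by rw [mul_assoc]; omega), if_pos (by omega), mul_assoc]
  · rw [if_neg (by omega), if_neg (by omega), Matrix.mulVec_add, Matrix.mulVec_add,
      Matrix.mulVec_smul, Matrix.mulVec_smul, Matrix.mulVec_smul, Matrix.mulVec_smul,
      E.Ts_bv, E.Ts_bv, E.Rs_bv, E.Rs_bv]
    simp only [rcol, lcol]
    rw [if_neg (show ¬ E.len w < E.len (E.gen s * w) by omega),
      if_neg (show ¬ E.len w < E.len (w * E.gen r) by omega)]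
    by_cases h5 : E.len (E.gen s * (w * E.gen r)) = E.len w
    · have hsw : E.gen s * w = w * E.gen r := by
        have h6 := E.gen_mul_eq_mul_gen (s := s) (r := r) (w := E.gen s * w)
          (by rw [E.gen_mul_gen_mul]; omega) (by rw [mul_assoc]; omega)
          (by rw [E.gen_mul_gen_mul]; omega)
        rw [E.gen_mul_gen_mul] at h6
        conv_rhs => rw [h6, E.mul_gen_mul_gen]
      rw [if_pos (by omega), if_pos (by rw [mul_assoc]; omega), mul_assoc, hsw]
    · rw [if_neg (by omega), if_neg (by rw [mul_assoc]; omega), mul_assoc]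
      simp only [smul_add, smul_smul, mul_comm q (q - 1)]
      abel

/-- Commuting with all right generators. -/
def IsLeft (a : Matrix W W R) : Prop := ∀ r, a * E.Rs q r = E.Rs q r * a

theorem isLeft_one : E.IsLeft q (1 : Matrix W W R) := fun r => by rw [one_mul, mul_one]

theorem isLeft_mul {a b : Matrix W W R} (ha : E.IsLeft q a) (hb : E.IsLeft q b) :
    E.IsLeft q (a * b) := fun r => by
  rw [mul_assoc, hb r, ← mul_assoc, ha r, mul_assoc]

theorem isLeft_Ts (s : I) : E.IsLeft q (E.Ts q s) := fun r => E.Ts_Rs_comm q s r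

/-- The product of the generators along a word. -/
def Tword (ω : List I) : Matrix W W R := (ω.map (E.Ts q)).prod

theorem isLeft_Tword (ω : List I) : E.IsLeft q (E.Tword q ω) := by
  induction ω with
  | nil => exact E.isLeft_one q
  | cons s ω ih =>
    rw [Tword, List.map_cons, List.prod_cons]
    exact E.isLeft_mul q (E.isLeft_Ts q s) ih

theorem bv_eq_Rs {w : W} {r : I} (h : E.len w < E.len (w * E.gen r)) :
    E.Rs q r *ᵥ bv w = bv (w * E.gen r) := by
  rw [E.Rs_bv, rcol, if_pos h]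

theorem isLeft_ext {a b : Matrix W W R} (ha : E.IsLeft q a) (hb : E.IsLeft q b)
    (h : a *ᵥ bv 1 = b *ᵥ bv 1) : a = b := by
  refine ext_bv fun w => ?_
  obtain ⟨ω, hω, rfl⟩ := E.exists_word' w
  induction ω using List.reverseRecOn with
  | nil => exact h
  | append_singleton ω r ih =>
    have hle := E.len_pw_le ω
    rw [E.pw_append, show E.pw [r] = E.gen r by simp [pw]] at hω ⊢
    rw [List.length_append, List.length_singleton] at hω
    have h2 := E.len_mul_gen_or (E.pw ω) r
    have hl : ω.length = E.len (E.pw ω) := by omega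
    rw [← E.bv_eq_Rs q (show E.len (E.pw ω) < E.len (E.pw ω * E.gen r) by omega),
      Matrix.mulVec_mulVec, Matrix.mulVec_mulVec, ha r, hb r, ← Matrix.mulVec_mulVec,
      ← Matrix.mulVec_mulVec, ih hl]

theorem Tword_bv_one : ∀ {ω : List I}, E.Red ω → E.Tword q ω *ᵥ bv 1 = bv (E.pw ω) := by
  intro ω
  induction ω with
  | nil => intro _; simp [Tword, pw]
  | cons s ω ih =>
    intro hred
    have h1 : E.len (E.pw (s :: ω)) = ω.length + 1 := hred
    have h2 : E.len (E.pw ω) = ω.length := E.red_tail hred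
    rw [Tword, List.map_cons, List.prod_cons, ← Matrix.mulVec_mulVec]
    rw [show ((ω.map (E.Ts q)).prod) *ᵥ bv 1 = bv (E.pw ω) from ih (E.red_tail hred), E.Ts_bv,
      lcol, E.pw_cons, if_pos]
    rw [← E.pw_cons]; omega

/-- The basis element of the Hecke algebra. -/
noncomputable def Tw (w : W) : Matrix W W R := E.Tword q (E.exists_word' w).choose

theorem Tw_bv_one (w : W) : E.Tw q w *ᵥ bv 1 = bv w := by
  have h := (E.exists_word' w).choose_spec
  rw [Tw, E.Tword_bv_one q (by show E.len _ = _; rw [h.2]; exact h.1.symm), h.2]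

theorem isLeft_Tw (w : W) : E.IsLeft q (E.Tw q w) := E.isLeft_Tword q _

theorem Tw_one : E.Tw q (1 : W) = 1 :=
  E.isLeft_ext q (E.isLeft_Tw q 1) (E.isLeft_one q) (by rw [E.Tw_bv_one, Matrix.one_mulVec])

theorem Tword_eq_Tw {ω : List I} (h : E.Red ω) : E.Tword q ω = E.Tw q (E.pw ω) :=
  E.isLeft_ext q (E.isLeft_Tword q ω) (E.isLeft_Tw q _)
    (by rw [E.Tword_bv_one q h, E.Tw_bv_one])

theorem isLeft_add {a b : Matrix W W R} (ha : E.IsLeft q a) (hb : E.IsLeft q b) :
    E.IsLeft q (a + b) := fun r => by rw [add_mul, mul_add, ha r, hb r]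

theorem isLeft_smul {a : Matrix W W R} (c : R) (ha : E.IsLeft q a) : E.IsLeft q (c • a) :=
  fun r => by rw [smul_mul_assoc, mul_smul_comm, ha r]

theorem isLeft_sum {ι : Type*} (t : Finset ι) {f : ι → Matrix W W R}
    (h : ∀ i ∈ t, E.IsLeft q (f i)) : E.IsLeft q (∑ i ∈ t, f i) := fun r => by
  rw [Finset.sum_mul, Finset.mul_sum]
  exact Finset.sum_congr rfl fun i hi => h i hi r

theorem Ts_mul_Tw_up {s : I} {w : W} (h : E.len w < E.len (E.gen s * w)) :
    E.Ts q s * E.Tw q w = E.Tw q (E.gen s * w) := by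
  refine E.isLeft_ext q (E.isLeft_mul q (E.isLeft_Ts q s) (E.isLeft_Tw q w)) (E.isLeft_Tw q _) ?_
  rw [← Matrix.mulVec_mulVec, E.Tw_bv_one, E.Ts_bv, lcol, if_pos h, E.Tw_bv_one]

theorem Ts_mul_Tw_down {s : I} {w : W} (h : ¬ E.len w < E.len (E.gen s * w)) :
    E.Ts q s * E.Tw q w = q • E.Tw q (E.gen s * w) + (q - 1) • E.Tw q w := by
  refine E.isLeft_ext q (E.isLeft_mul q (E.isLeft_Ts q s) (E.isLeft_Tw q w))
    (E.isLeft_add q (E.isLeft_smul q _ (E.isLeft_Tw q _)) (E.isLeft_smul q _ (E.isLeft_Tw q _))) ?_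
  rw [← Matrix.mulVec_mulVec, E.Tw_bv_one, E.Ts_bv, lcol, if_neg h, Matrix.add_mulVec,
    Matrix.smul_mulVec, Matrix.smul_mulVec, E.Tw_bv_one, E.Tw_bv_one]

theorem Tw_gen (s : I) : E.Tw q (E.gen s) = E.Ts q s := by
  have h := E.Ts_mul_Tw_up q (s := s) (w := 1) (by rw [mul_one, E.len_one, E.len_gen]; exact one_pos)
  rw [mul_one, E.Tw_one, mul_one] at h
  exact h.symm

theorem Tw_mul_Ts_up {s : I} {w : W} (h : E.len w < E.len (w * E.gen s)) :
    E.Tw q w * E.Ts q s = E.Tw q (w * E.gen s) := by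
  refine E.isLeft_ext q (E.isLeft_mul q (E.isLeft_Tw q w) (E.isLeft_Ts q s)) (E.isLeft_Tw q _) ?_
  rw [← Matrix.mulVec_mulVec, ← E.Tw_gen q s, E.Tw_bv_one]
  have e : bv (E.gen s) = (E.Rs q s *ᵥ bv 1 : W → R) := by
    rw [E.bv_eq_Rs q (show E.len 1 < E.len (1 * E.gen s) by
      rw [one_mul, E.len_one, E.len_gen]; exact one_pos), one_mul]
  rw [e, Matrix.mulVec_mulVec, E.isLeft_Tw q w s, ← Matrix.mulVec_mulVec, E.Tw_bv_one, E.Rs_bv,
    rcol, if_pos h, E.Tw_bv_one]

theorem Tw_mul_Ts_down {s : I} {w : W} (h : ¬ E.len w < E.len (w * E.gen s)) :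
    E.Tw q w * E.Ts q s = q • E.Tw q (w * E.gen s) + (q - 1) • E.Tw q w := by
  refine E.isLeft_ext q (E.isLeft_mul q (E.isLeft_Tw q w) (E.isLeft_Ts q s))
    (E.isLeft_add q (E.isLeft_smul q _ (E.isLeft_Tw q _)) (E.isLeft_smul q _ (E.isLeft_Tw q _))) ?_
  rw [← Matrix.mulVec_mulVec, ← E.Tw_gen q s, E.Tw_bv_one]
  have e : bv (E.gen s) = (E.Rs q s *ᵥ bv 1 : W → R) := by
    rw [E.bv_eq_Rs q (show E.len 1 < E.len (1 * E.gen s) by
      rw [one_mul, E.len_one, E.len_gen]; exact one_pos), one_mul]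
  rw [e, Matrix.mulVec_mulVec, E.isLeft_Tw q w s, ← Matrix.mulVec_mulVec, E.Tw_bv_one, E.Rs_bv,
    rcol, if_neg h, Matrix.add_mulVec, Matrix.smul_mulVec, Matrix.smul_mulVec, E.Tw_bv_one,
    E.Tw_bv_one]

/-- The algebra element with a given first column. -/
noncomputable def TT (x : W → R) : Matrix W W R := ∑ w, x w • E.Tw q w

theorem isLeft_TT (x : W → R) : E.IsLeft q (E.TT q x) :=
  E.isLeft_sum q _ fun w _ => E.isLeft_smul q _ (E.isLeft_Tw q w)

theorem TT_bv_one (x : W → R) : E.TT q x *ᵥ bv 1 = x := by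
  rw [TT, Matrix.sum_mulVec]
  simp only [Matrix.smul_mulVec, E.Tw_bv_one]
  funext y
  simp [bv, Pi.single_apply, Finset.sum_apply]

theorem TT_eq_of_isLeft {a : Matrix W W R} (ha : E.IsLeft q a) : E.TT q (a *ᵥ bv 1) = a :=
  E.isLeft_ext q (E.isLeft_TT q _) ha (E.TT_bv_one q _)

/-- The Casimir operator, with `M` a bound for the lengths. -/
noncomputable def casimir (M : ℕ) (a : Matrix W W R) : Matrix W W R :=
  ∑ w, q ^ (M - E.len w) • (E.Tw q w * a * E.Tw q w⁻¹)

theorem isLeft_casimir (M : ℕ) {a : Matrix W W R} (ha : E.IsLeft q a) :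
    E.IsLeft q (E.casimir q M a) :=
  E.isLeft_sum q _ fun w _ =>
    E.isLeft_smul q _ (E.isLeft_mul q (E.isLeft_mul q (E.isLeft_Tw q w) ha) (E.isLeft_Tw q _))

theorem sum_pairs {M : Type*} [AddCommMonoid M] (s : I) (f : W → M) :
    ∑ w, f w = ∑ w ∈ Finset.univ.filter (fun w => E.len w < E.len (E.gen s * w)),
      (f w + f (E.gen s * w)) := by
  rw [Finset.sum_add_distrib,
    ← Finset.sum_filter_add_sum_filter_not Finset.univ (fun w => E.len w < E.len (E.gen s * w)) f]
  congr 1
  refine Finset.sum_bij' (fun w _ => E.gen s * w) (fun w _ => E.gen s * w) ?_ ?_ ?_ ?_ ?_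
  · intro w hw
    have := (Finset.mem_filter.1 hw).2
    refine Finset.mem_filter.2 ⟨Finset.mem_univ _, ?_⟩
    rw [E.gen_mul_gen_mul]
    have := E.len_mul_ne s w
    omega
  · intro w hw
    have := (Finset.mem_filter.1 hw).2
    refine Finset.mem_filter.2 ⟨Finset.mem_univ _, ?_⟩
    rw [E.gen_mul_gen_mul]
    omega
  · intro w _; exact E.gen_mul_gen_mul s w
  · intro w _; exact E.gen_mul_gen_mul s w
  · intro w _; rw [E.gen_mul_gen_mul]

theorem Ts_casimir {M : ℕ} (hM : ∀ w, E.len w ≤ M) (s : I) (a : Matrix W W R) :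
    E.Ts q s * E.casimir q M a = E.casimir q M a * E.Ts q s := by
  rw [casimir, Finset.mul_sum, Finset.sum_mul, E.sum_pairs s, E.sum_pairs s]
  refine Finset.sum_congr rfl fun w hw => ?_
  have hup := (Finset.mem_filter.1 hw).2
  have hlen : E.len (E.gen s * w) = E.len w + 1 := by
    have := E.len_gen_mul_or s w
    omega
  have hinv : (E.gen s * w)⁻¹ = w⁻¹ * E.gen s := by rw [_root_.mul_inv_rev, E.gen_inv]
  have hl' : E.len (w⁻¹ * E.gen s) = E.len w + 1 := by rw [← hinv, E.len_inv, hlen]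
  have hr1 := E.Ts_mul_Tw_up q hup
  have hr2 := E.Ts_mul_Tw_down q (s := s) (w := E.gen s * w)
    (by rw [E.gen_mul_gen_mul]; omega)
  rw [E.gen_mul_gen_mul] at hr2
  have hr3 := E.Tw_mul_Ts_up q (s := s) (w := w⁻¹) (by rw [E.len_inv, hl']; omega)
  have hr4 := E.Tw_mul_Ts_down q (s := s) (w := w⁻¹ * E.gen s)
    (by rw [E.mul_gen_mul_gen, E.len_inv]; omega)
  rw [E.mul_gen_mul_gen] at hr4
  have hpow : q ^ (M - E.len w) = q ^ (M - E.len (E.gen s * w)) * q := by
    rw [← pow_succ]
    congr 1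
    have := hM (E.gen s * w)
    omega
  simp only [mul_smul_comm, smul_mul_assoc, ← mul_assoc, hr1, hr2, hinv]
  simp only [mul_assoc, hr3, hr4]
  simp only [mul_add, add_mul, smul_add, smul_smul, mul_smul_comm, smul_mul_assoc, hpow]
  abel

theorem comm_Tword {z : Matrix W W R} (h : ∀ s, E.Ts q s * z = z * E.Ts q s) (ω : List I) :
    E.Tword q ω * z = z * E.Tword q ω := by
  induction ω with
  | nil => simp [Tword]
  | cons s ω ih =>
    rw [Tword, List.map_cons, List.prod_cons]
    show E.Ts q s * E.Tword q ω * z = z * (E.Ts q s * E.Tword q ω)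
    rw [mul_assoc, ih, ← mul_assoc, h s, mul_assoc]

theorem casimir_central {M : ℕ} {z : Matrix W W R} (h : ∀ s, E.Ts q s * z = z * E.Ts q s) :
    E.casimir q M z = z * E.casimir q M 1 := by
  rw [casimir, casimir, Finset.mul_sum]
  refine Finset.sum_congr rfl fun w _ => ?_
  rw [mul_smul_comm, mul_one, Tw, E.comm_Tword q h, mul_assoc]

/-- Base change. -/
theorem map_Ts {R' : Type*} [CommRing R'] (f : R →+* R') (s : I) :
    (E.Ts q s).map f = E.Ts (f q) s := by
  ext x w
  simp only [Matrix.map_apply, Ts, Matrix.of_apply, lcol]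
  split_ifs <;> simp [bv, Pi.single_apply, apply_ite f]

theorem map_Tw {R' : Type*} [CommRing R'] (f : R →+* R') (w : W) :
    (E.Tw q w).map f = E.Tw (f q) w := by
  show f.mapMatrix (E.Tword q _) = E.Tword (f q) _
  rw [Tword, map_list_prod, List.map_map]
  congr 1
  exact List.map_congr_left fun s _ => E.map_Ts q f s

theorem map_casimir {R' : Type*} [CommRing R'] (f : R →+* R') (M : ℕ) (a : Matrix W W R) :
    (E.casimir q M a).map f = E.casimir (f q) M (a.map f) := by
  show f.mapMatrix (E.casimir q M a) = _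
  rw [casimir, map_sum, casimir]
  refine Finset.sum_congr rfl fun w _ => ?_
  rw [RingHom.mapMatrix_apply, Matrix.map_smul' (f := f) _ _ (map_mul f), Matrix.map_mul,
    Matrix.map_mul, E.map_Tw, E.map_Tw, map_pow]

end ExchangeData

end Cfsg.Agent.Lib.BNPair
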