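import Cfsg.Agent.Lib.BNPair.Hecke

/-!
The dimension of the centre of a Hecke algebra does not depend on the parameter.
-/

set_option autoImplicit false

namespace Cfsg.Agent.Lib.BNPair

open Matrix Polynomial

/-- The rank of a matrix of polynomials can drop only at finitely many points. -/
theorem exists_rank_le {m n : Type*} [Fintype m] [Fintype n] [DecidableEq m] [DecidableEq n]
    (A : Matrix m n ℂ[X]) (t₀ : ℂ) :
    ∃ p : ℂ[X], p ≠ 0 ∧ ∀ t : ℂ, p.eval t ≠ 0 →
      (A.map (evalRingHom t₀)).rank ≤ (A.map (evalRingHom t)).rank := by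
  classical
  set A₀ := A.map (evalRingHom t₀) with hA₀
  set r := A₀.rank with hr
  let b : Module.Basis (Fin r) ℂ ↥(LinearMap.range A₀.mulVecLin) :=
    Module.finBasisOfFinrankEq ℂ _ rfl
  choose v hv using fun i => LinearMap.mem_range.1 (b i).2
  let lift : (Fin r → ℂ) →ₗ[ℂ] (n → ℂ) := Fintype.linearCombination ℂ v
  have hinj : Function.Injective (A₀.mulVecLin ∘ₗ lift) := by
    have e : A₀.mulVecLin ∘ₗ lift =
        (LinearMap.range A₀.mulVecLin).subtype ∘ₗ Fintype.linearCombination ℂ b := by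
      refine LinearMap.ext fun c => ?_
      simp only [LinearMap.comp_apply, lift, Fintype.linearCombination_apply, map_sum, map_smul,
        Submodule.coe_subtype, hv]
    rw [e]
    exact (Submodule.injective_subtype _).comp
      (linearIndependent_iff_injective_fintypeLinearCombination.1 b.linearIndependent)
  obtain ⟨h, hh⟩ := LinearMap.exists_leftInverse_of_injective _
    (LinearMap.ker_eq_bot.2 hinj)
  set Pm : Matrix (Fin r) m ℂ := LinearMap.toMatrix' h with hPm
  set Qm : Matrix n (Fin r) ℂ := LinearMap.toMatrix' lift with hQm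
  have hone : Pm * A₀ * Qm = 1 := by
    have := congrArg LinearMap.toMatrix' hh
    rw [LinearMap.toMatrix'_comp, LinearMap.toMatrix'_comp, LinearMap.toMatrix'_id,
      ← Matrix.toLin'_apply', LinearMap.toMatrix'_toLin', ← Matrix.mul_assoc] at this
    exact this
  refine ⟨((Pm.map C) * A * (Qm.map C)).det, ?_, fun t ht => ?_⟩
  · intro h0
    have h1 := congrArg (evalRingHom t₀) h0
    rw [RingHom.map_det, map_zero, RingHom.mapMatrix_apply, Matrix.map_mul, Matrix.map_mul,
      Matrix.map_map, Matrix.map_map, ← hA₀] at h1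
    have eP : Pm.map (evalRingHom t₀ ∘ C) = Pm := by ext i j; simp
    have eQ : Qm.map (evalRingHom t₀ ∘ C) = Qm := by ext i j; simp
    rw [eP, eQ, hone, Matrix.det_one] at h1
    exact one_ne_zero h1
  · have h1 : (evalRingHom t) ((Pm.map C) * A * (Qm.map C)).det =
        (Pm * A.map (evalRingHom t) * Qm).det := by
      rw [RingHom.map_det, RingHom.mapMatrix_apply, Matrix.map_mul, Matrix.map_mul,
        Matrix.map_map, Matrix.map_map]
      have eP : Pm.map (evalRingHom t ∘ C) = Pm := by ext i j; simp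
      have eQ : Qm.map (evalRingHom t ∘ C) = Qm := by ext i j; simp
      rw [eP, eQ]
    rw [coe_evalRingHom] at h1
    rw [h1] at ht
    have hu : IsUnit (Pm * A.map (evalRingHom t) * Qm) :=
      (Matrix.isUnit_iff_isUnit_det _).2 (IsUnit.mk0 _ ht)
    have h2 := Matrix.rank_of_isUnit _ hu
    rw [Fintype.card_fin] at h2
    have h3 : (Pm * A.map (evalRingHom t) * Qm).rank ≤ (A.map (evalRingHom t)).rank :=
      (Matrix.rank_mul_le_left _ _).trans (Matrix.rank_mul_le_right _ _)
    omega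

namespace ExchangeData

variable {W : Type*} [Group W] {I : Type*} (E : ExchangeData W I)
variable [Fintype W] [DecidableEq W] [Fintype I]

/-- The matrix of the Casimir operator. -/
noncomputable def MPhi {R : Type*} [CommRing R] (q : R) (M : ℕ) : Matrix W W R :=
  Matrix.of fun y u => (E.casimir q M (E.Tw q u)) y 1

/-- The matrix of the commutators with the generators. -/
noncomputable def MAd {R : Type*} [CommRing R] (q : R) : Matrix (I × W) W R :=
  Matrix.of fun sy x => (E.Ts q sy.1 * E.Tw q x - E.Tw q x * E.Ts q sy.1) sy.2 1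

theorem map_MPhi {R R' : Type*} [CommRing R] [CommRing R'] (q : R) (f : R →+* R') (M : ℕ) :
    (E.MPhi q M).map f = E.MPhi (f q) M := by
  ext y u
  simp only [Matrix.map_apply, MPhi, Matrix.of_apply]
  rw [← E.map_Tw q f u, ← E.map_casimir q f M, Matrix.map_apply]

theorem map_MAd {R R' : Type*} [CommRing R] [CommRing R'] (q : R) (f : R →+* R') :
    (E.MAd q).map f = E.MAd (f q) := by
  ext sy x
  simp only [Matrix.map_apply, MAd, Matrix.of_apply]
  rw [← E.map_Tw q f x, ← E.map_Ts q f sy.1, Matrix.sub_apply, Matrix.sub_apply, map_sub,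
    ← Matrix.map_mul, ← Matrix.map_mul, Matrix.map_apply, Matrix.map_apply]

variable {R : Type*} [CommRing R] (q : R)

theorem MPhi_mulVec (M : ℕ) (x : W → R) :
    E.MPhi q M *ᵥ x = E.casimir q M (E.TT q x) *ᵥ bv 1 := by
  rw [mulVec_bv]
  funext y
  simp only [Matrix.mulVec, dotProduct, MPhi, Matrix.of_apply, casimir, TT, Matrix.sum_apply,
    Matrix.smul_apply, Finset.mul_sum, Finset.sum_mul, Matrix.mul_smul, Matrix.smul_mul,
    smul_eq_mul]
  rw [Finset.sum_comm]
  refine Finset.sum_congr rfl fun w _ => Finset.sum_congr rfl fun u _ => ?_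
  ring

theorem MAd_mulVec (x : W → R) (s : I) (y : W) :
    (E.MAd q *ᵥ x) (s, y) =
      ((E.Ts q s * E.TT q x - E.TT q x * E.Ts q s) *ᵥ bv 1) y := by
  rw [mulVec_bv]
  simp only [Matrix.mulVec, dotProduct, MAd, Matrix.of_apply, TT, Finset.mul_sum, Finset.sum_mul,
    Matrix.mul_smul, Matrix.smul_mul, Matrix.sub_apply, Matrix.sum_apply, Matrix.smul_apply,
    smul_eq_mul, ← Finset.sum_sub_distrib]
  exact Finset.sum_congr rfl fun u _ => by ring

theorem mem_ker_MAd (x : W → R) :
    E.MAd q *ᵥ x = 0 ↔ ∀ s, E.Ts q s * E.TT q x = E.TT q x * E.Ts q s := by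
  constructor
  · intro h s
    refine E.isLeft_ext q (E.isLeft_mul q (E.isLeft_Ts q s) (E.isLeft_TT q x))
      (E.isLeft_mul q (E.isLeft_TT q x) (E.isLeft_Ts q s)) ?_
    funext y
    have h1 := congrFun h (s, y)
    rw [E.MAd_mulVec, Matrix.sub_mulVec, Pi.sub_apply, Pi.zero_apply, sub_eq_zero] at h1
    exact h1
  · intro h
    funext sy
    rw [E.MAd_mulVec, h, sub_self, Matrix.zero_mulVec]
    rfl

theorem comm_Tw {z : Matrix W W R} (h : ∀ s, E.Ts q s * z = z * E.Ts q s) (w : W) :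
    E.Tw q w * z = z * E.Tw q w := E.comm_Tword q h _

theorem rank_add_rank_le {M : ℕ} (hM : ∀ w, E.len w ≤ M) (t : ℂ) :
    (E.MPhi t M).rank + (E.MAd t).rank ≤ Fintype.card W := by
  have hle : LinearMap.range (E.MPhi t M).mulVecLin ≤ LinearMap.ker (E.MAd t).mulVecLin := by
    rintro _ ⟨x, rfl⟩
    rw [LinearMap.mem_ker, Matrix.mulVecLin_apply, Matrix.mulVecLin_apply, E.MPhi_mulVec,
      E.mem_ker_MAd, E.TT_eq_of_isLeft t (E.isLeft_casimir t M (E.isLeft_TT t x))]
    exact fun s => E.Ts_casimir t hM s _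
  have h1 := LinearMap.finrank_range_add_finrank_ker (E.MAd t).mulVecLin
  have h2 := Submodule.finrank_mono hle
  rw [Module.finrank_fintype_fun_eq_card] at h1
  simp only [Matrix.rank] at *
  omega

theorem ker_eq_range {M : ℕ} (hM : ∀ w, E.len w ≤ M) {t : ℂ}
    (hc : (E.casimir t M 1).det ≠ 0) :
    LinearMap.range (E.MPhi t M).mulVecLin = LinearMap.ker (E.MAd t).mulVecLin := by
  refine le_antisymm ?_ ?_
  · rintro _ ⟨x, rfl⟩
    rw [LinearMap.mem_ker, Matrix.mulVecLin_apply, Matrix.mulVecLin_apply, E.MPhi_mulVec,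
      E.mem_ker_MAd, E.TT_eq_of_isLeft t (E.isLeft_casimir t M (E.isLeft_TT t x))]
    exact fun s => E.Ts_casimir t hM s _
  intro x hx
  rw [LinearMap.mem_ker, Matrix.mulVecLin_apply, E.mem_ker_MAd] at hx
  set c := E.casimir t M 1 with hcdef
  have hu : IsUnit c.det := IsUnit.mk0 _ hc
  have hinv : ∀ b : Matrix W W ℂ, b * c = c * b → b * c⁻¹ = c⁻¹ * b := by
    intro b hb
    calc b * c⁻¹ = c⁻¹ * c * (b * c⁻¹) := by rw [Matrix.nonsing_inv_mul _ hu, one_mul]
      _ = c⁻¹ * (b * c) * c⁻¹ := by rw [hb]; simp only [mul_assoc]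
      _ = c⁻¹ * b := by
        rw [← mul_assoc, mul_assoc, Matrix.mul_nonsing_inv _ hu, mul_one]
  have hcL : E.IsLeft t c⁻¹ := fun r =>
    (hinv _ (E.isLeft_casimir t M (E.isLeft_one t) r).symm).symm
  have hcT : ∀ s, E.Ts t s * c⁻¹ = c⁻¹ * E.Ts t s := fun s => hinv _ (E.Ts_casimir t hM s 1)
  set z := E.TT t x with hz
  have hzc : z * c = c * z := by
    rw [hcdef, casimir, Finset.mul_sum, Finset.sum_mul]
    refine Finset.sum_congr rfl fun w _ => ?_
    rw [mul_one, mul_smul_comm, smul_mul_assoc, ← mul_assoc, ← E.comm_Tw t hx w, mul_assoc,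
      ← E.comm_Tw t hx w⁻¹, mul_assoc]
  have hwc : ∀ s, E.Ts t s * (c⁻¹ * z) = c⁻¹ * z * E.Ts t s := fun s => by
    rw [← mul_assoc, hcT s, mul_assoc, hx s, mul_assoc]
  refine ⟨(c⁻¹ * z) *ᵥ bv 1, ?_⟩
  rw [Matrix.mulVecLin_apply, E.MPhi_mulVec,
    E.TT_eq_of_isLeft t (E.isLeft_mul t hcL (E.isLeft_TT t x)), E.casimir_central t hwc,
    mul_assoc, ← hcdef, hzc, Matrix.nonsing_inv_mul_cancel_left _ _ hu, hz, E.TT_bv_one]

theorem rank_add_rank_eq {M : ℕ} (hM : ∀ w, E.len w ≤ M) {t : ℂ}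
    (hc : (E.casimir t M 1).det ≠ 0) :
    (E.MPhi t M).rank + (E.MAd t).rank = Fintype.card W := by
  have h1 := LinearMap.finrank_range_add_finrank_ker (E.MAd t).mulVecLin
  rw [Module.finrank_fintype_fun_eq_card, ← E.ker_eq_range hM hc] at h1
  simp only [Matrix.rank] at *
  omega

theorem rank_MPhi_le {M : ℕ} (hM : ∀ w, E.len w ≤ M) {t₀ t₁ : ℂ}
    (h₁ : (E.casimir t₁ M 1).det ≠ 0) :
    (E.MPhi t₀ M).rank ≤ (E.MPhi t₁ M).rank := by
  classical
  obtain ⟨p, hp, hpA⟩ := exists_rank_le (E.MPhi (X : ℂ[X]) M) t₀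
  obtain ⟨p', hp', hpB⟩ := exists_rank_le (E.MAd (X : ℂ[X])) t₁
  obtain ⟨t, ht⟩ := Infinite.exists_notMem_finset (p * p').roots.toFinset
  rw [Multiset.mem_toFinset, mem_roots (mul_ne_zero hp hp'), IsRoot, eval_mul,
    mul_eq_zero, not_or] at ht
  have hA := hpA t ht.1
  have hB := hpB t ht.2
  rw [E.map_MPhi, E.map_MPhi] at hA
  rw [E.map_MAd, E.map_MAd] at hB
  simp only [coe_evalRingHom, eval_X] at hA hB
  have := E.rank_add_rank_le hM t
  have := E.rank_add_rank_eq hM h₁
  omega

omit [Fintype I] in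
theorem lcol_one (s : I) (w : W) : E.lcol (1 : ℂ) s w = bv (E.gen s * w) := by
  rw [lcol]
  split_ifs <;> simp

omit [Fintype I] in
theorem Tword_one_bv (ω : List I) (v : W) :
    E.Tword (1 : ℂ) ω *ᵥ bv v = bv (E.pw ω * v) := by
  induction ω with
  | nil => simp [Tword, pw]
  | cons s ω ih =>
    rw [Tword, List.map_cons, List.prod_cons, ← Matrix.mulVec_mulVec]
    show E.Ts (1 : ℂ) s *ᵥ (E.Tword (1 : ℂ) ω *ᵥ bv v) = _
    rw [ih, E.Ts_bv, lcol_one, E.pw_cons, mul_assoc]

omit [Fintype I] in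
theorem Tw_one_param_bv (u v : W) : E.Tw (1 : ℂ) u *ᵥ bv v = bv (u * v) := by
  rw [Tw, E.Tword_one_bv, (E.exists_word' u).choose_spec.2]

omit [Fintype I] in
theorem TT_one_apply (x : W → ℂ) (y v : W) : E.TT (1 : ℂ) x y v = x (y * v⁻¹) := by
  have h : (E.TT (1 : ℂ) x *ᵥ bv v) y = x (y * v⁻¹) := by
    rw [TT, Matrix.sum_mulVec]
    simp only [Matrix.smul_mulVec, Finset.sum_apply, Pi.smul_apply, smul_eq_mul,
      E.Tw_one_param_bv]
    rw [Finset.sum_eq_single (y * v⁻¹)]
    · simp [bv, Pi.single_apply]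
    · intro b _ hb
      have : y ≠ b * v := fun e => hb (by rw [e, mul_inv_cancel_right])
      simp [bv, Pi.single_apply, this]
    · simp
  rwa [mulVec_bv] at h

omit [Fintype I] in
theorem casimir_one_param (M : ℕ) :
    E.casimir (1 : ℂ) M 1 = (Fintype.card W : ℂ) • (1 : Matrix W W ℂ) := by
  refine ext_bv fun v => ?_
  rw [casimir, Matrix.sum_mulVec]
  simp only [one_pow, one_smul, mul_one, ← Matrix.mulVec_mulVec, E.Tw_one_param_bv,
    mul_inv_cancel_left]
  rw [Finset.sum_const, Finset.card_univ, Matrix.smul_mulVec, Matrix.one_mulVec,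
    Nat.cast_smul_eq_nsmul]

theorem finrank_center_one :
    Module.finrank ℂ (LinearMap.ker (E.MAd (1 : ℂ)).mulVecLin) = Nat.card (ConjClasses W) := by
  classical
  have hiff : ∀ x : W → ℂ, E.MAd (1 : ℂ) *ᵥ x = 0 ↔ ∀ a b : W, x (a * b) = x (b * a) := by
    intro x
    rw [E.mem_ker_MAd]
    constructor
    · intro h
      have hg : ∀ s y, x (E.gen s * y) = x (y * E.gen s) := by
        intro s y
        have h1 := congrFun (congrArg (fun M : Matrix W W ℂ => M *ᵥ bv 1) (h s)) y
        have hs : E.Ts (1 : ℂ) s *ᵥ bv 1 = bv (E.gen s) := by rw [E.Ts_bv, lcol_one, mul_one]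
        simp only [← Matrix.mulVec_mulVec, hs, E.TT_bv_one] at h1
        rw [mulVec_bv] at h1
        simp only [E.TT_one_apply, E.gen_inv] at h1
        rw [← h1]
        simp only [Matrix.mulVec, dotProduct, Ts, Matrix.of_apply, lcol_one, bv, Pi.single_apply]
        rw [Finset.sum_eq_single (E.gen s * y)]
        · rw [if_pos (E.gen_mul_gen_mul s y).symm, one_mul]
        · intro b _ hb
          rw [if_neg (fun e => hb (by rw [e, E.gen_mul_gen_mul])), zero_mul]
        · simp
      intro a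
      obtain ⟨ω, -, rfl⟩ := E.exists_word' a
      induction ω with
      | nil => intro b; simp [pw]
      | cons s ω ih =>
        intro b
        rw [E.pw_cons, mul_assoc, hg, mul_assoc, ih, mul_assoc]
    · intro h s
      refine ext_bv fun v => ?_
      funext y
      rw [mulVec_bv, mulVec_bv]
      simp only [Matrix.mul_apply, E.TT_one_apply, Ts, Matrix.of_apply, lcol_one, bv,
        Pi.single_apply]
      rw [Finset.sum_eq_single (E.gen s * y), Finset.sum_eq_single (E.gen s * v)]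
      · rw [if_pos (E.gen_mul_gen_mul s y).symm, if_pos rfl, one_mul, mul_one, mul_assoc, h,
          mul_assoc, _root_.mul_inv_rev, E.gen_inv]
      · intro b _ hb; rw [if_neg hb, mul_zero]
      · simp
      · intro b _ hb
        rw [if_neg (fun e => hb (by rw [e, E.gen_mul_gen_mul])), zero_mul]
      · simp
  haveI : Fintype (ConjClasses W) := Fintype.ofFinite _
  let φ : (ConjClasses W → ℂ) →ₗ[ℂ] LinearMap.ker (E.MAd (1 : ℂ)).mulVecLin :=
    { toFun := fun f => ⟨fun w => f (ConjClasses.mk w), by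
        rw [LinearMap.mem_ker, Matrix.mulVecLin_apply, hiff]
        intro a b
        exact congrArg f (ConjClasses.mk_eq_mk_iff_isConj.2
          (isConj_iff.2 ⟨a⁻¹, by group⟩))⟩
      map_add' := fun f g => rfl
      map_smul' := fun c f => rfl }
  have hinj : Function.Injective φ := fun f g h => funext fun C => by
    obtain ⟨w, rfl⟩ := ConjClasses.mk_surjective C
    exact congrFun (congrArg Subtype.val h) w
  have hsurj : Function.Surjective φ := fun x => by
    have h2 := x.2
    rw [LinearMap.mem_ker, Matrix.mulVecLin_apply] at h2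
    have hx := (hiff x.1).1 h2
    refine ⟨Quotient.lift x.1 (fun a b hab => ?_), Subtype.ext rfl⟩
    obtain ⟨c, rfl⟩ := isConj_iff.1 hab
    rw [mul_assoc, hx, mul_assoc, inv_mul_cancel, mul_one]
  let e := LinearEquiv.ofBijective φ ⟨hinj, hsurj⟩
  rw [← e.finrank_eq, Module.finrank_fintype_fun_eq_card, Nat.card_eq_fintype_card]

omit [Fintype I] in
theorem Ts_symm (q : ℝ) (s : I) :
    (E.Ts q s)ᵀ * Matrix.diagonal (fun w => q ^ E.len w) =
      Matrix.diagonal (fun w => q ^ E.len w) * E.Ts q s := by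
  ext a b
  rw [Matrix.mul_diagonal, Matrix.diagonal_mul, Matrix.transpose_apply]
  simp only [Ts, Matrix.of_apply, lcol]
  have h1 := E.len_gen_mul_or s a
  have h2 := E.len_gen_mul_or s b
  by_cases hab : b = E.gen s * a
  · subst hab
    have hne : E.gen s * a ≠ a := fun e => E.ne_one s (mul_eq_right.1 e)
    rw [E.gen_mul_gen_mul] at h2 ⊢
    rcases h1 with h1 | h1
    · rw [if_pos (by omega), if_neg (by omega)]
      simp [bv, Pi.single_apply, hne, hne.symm, h1, pow_succ]
    · rw [if_neg (by omega), if_pos (by omega)]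
      simp [bv, Pi.single_apply, hne, hne.symm, ← h1, pow_succ]
      ring
  · have hab' : a ≠ E.gen s * b := fun e => hab (by rw [e, E.gen_mul_gen_mul])
    by_cases he : a = b
    · subst he
      split_ifs <;> simp [bv, Pi.single_apply, hab] <;> ring
    · split_ifs <;> simp [bv, Pi.single_apply, hab, hab', he, Ne.symm he]

omit [Fintype I] in
theorem Tw_symm (q : ℝ) (w : W) :
    (E.Tw q w)ᵀ * Matrix.diagonal (fun w => q ^ E.len w) =
      Matrix.diagonal (fun w => q ^ E.len w) * E.Tw q w⁻¹ := by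
  have key : ∀ ω : List I, (E.Tword q ω)ᵀ * Matrix.diagonal (fun w => q ^ E.len w) =
      Matrix.diagonal (fun w => q ^ E.len w) * E.Tword q ω.reverse := by
    intro ω
    induction ω with
    | nil => simp [Tword]
    | cons s ω ih =>
      rw [Tword, List.map_cons, List.prod_cons, Matrix.transpose_mul, mul_assoc, E.Ts_symm,
        ← mul_assoc]
      show (E.Tword q ω)ᵀ * _ * E.Ts q s = _
      rw [ih, mul_assoc, List.reverse_cons, Tword, Tword, List.map_append, List.prod_append]
      simp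
  have hspec := (E.exists_word' w).choose_spec
  rw [Tw, key, E.Tword_eq_Tw q, E.pw_reverse, hspec.2]
  show E.len _ = _
  rw [E.pw_reverse, hspec.2, E.len_inv, List.length_reverse, hspec.1]

omit [Fintype I] in
theorem det_casimir_ne_zero {q : ℝ} (hq : 0 < q) (M : ℕ) :
    (E.casimir q M 1).det ≠ 0 := by
  intro h
  obtain ⟨v, hv, hcv⟩ := Matrix.exists_mulVec_eq_zero_iff.2 h
  set D := Matrix.diagonal (fun w => q ^ E.len w) with hD
  have hquad : ∀ u : W → ℝ, 0 ≤ u ⬝ᵥ (D *ᵥ u) := fun u => by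
    simp only [hD, dotProduct, Matrix.mulVec_diagonal]
    exact Finset.sum_nonneg fun w _ => by
      rw [mul_left_comm]; exact mul_nonneg (pow_nonneg hq.le _) (mul_self_nonneg _)
  have hpos : 0 < v ⬝ᵥ (D *ᵥ v) := by
    obtain ⟨w, hw⟩ := Function.ne_iff.1 hv
    simp only [hD, dotProduct, Matrix.mulVec_diagonal]
    refine Finset.sum_pos' (fun u _ => ?_) ⟨w, Finset.mem_univ _, ?_⟩
    · rw [mul_left_comm]; exact mul_nonneg (pow_nonneg hq.le _) (mul_self_nonneg _)
    · rw [mul_left_comm]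
      exact mul_pos (pow_pos hq _) (mul_self_pos.2 hw)
  have key : ∀ w : W, v ⬝ᵥ ((D * (E.Tw q w * E.Tw q w⁻¹)) *ᵥ v) =
      (E.Tw q w⁻¹ *ᵥ v) ⬝ᵥ (D *ᵥ (E.Tw q w⁻¹ *ᵥ v)) := by
    intro w
    have h1 := E.Tw_symm q w⁻¹
    rw [inv_inv] at h1
    rw [← mul_assoc, ← h1, mul_assoc, ← Matrix.mulVec_mulVec, ← Matrix.mulVec_mulVec,
      Matrix.dotProduct_mulVec v, Matrix.vecMul_transpose]
  have h0 : v ⬝ᵥ ((D * E.casimir q M 1) *ᵥ v) = 0 := by
    rw [← Matrix.mulVec_mulVec, hcv, Matrix.mulVec_zero, dotProduct_zero]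
  rw [casimir, Finset.mul_sum, Matrix.sum_mulVec, dotProduct_sum] at h0
  simp only [mul_one, mul_smul_comm, Matrix.smul_mulVec, dotProduct_smul, smul_eq_mul, key] at h0
  have h1 := (Finset.sum_eq_zero_iff_of_nonneg fun w _ =>
    mul_nonneg (pow_nonneg hq.le _) (hquad _)).1 h0 1 (Finset.mem_univ _)
  rw [inv_one, E.Tw_one, Matrix.one_mulVec] at h1
  exact absurd h1 (mul_pos (pow_pos hq _) hpos).ne'

/-- The dimension of the centre at a positive parameter. -/
theorem finrank_center {M : ℕ} (hM : ∀ w, E.len w ≤ M) {q : ℕ} (hq : 0 < q) :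
    Module.finrank ℂ (LinearMap.ker (E.MAd (q : ℂ)).mulVecLin) = Nat.card (ConjClasses W) := by
  have h1 : (E.casimir (1 : ℂ) M 1).det ≠ 0 := by
    rw [E.casimir_one_param, Matrix.det_smul, Matrix.det_one, mul_one]
    exact pow_ne_zero _ (Nat.cast_ne_zero.2 Fintype.card_ne_zero)
  have hqd : (E.casimir (q : ℂ) M 1).det ≠ 0 := by
    have h := E.det_casimir_ne_zero (q := (q : ℝ)) (Nat.cast_pos.2 hq) M
    intro h0
    apply h
    apply Complex.ofRealHom.injective
    rw [RingHom.map_det, map_zero, RingHom.mapMatrix_apply, E.map_casimir,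
      Matrix.map_one _ (map_zero _) (map_one _), map_natCast]
    exact h0
  rw [← E.finrank_center_one, ← E.ker_eq_range hM hqd, ← E.ker_eq_range hM h1]
  exact le_antisymm (E.rank_MPhi_le hM h1) (E.rank_MPhi_le hM hqd)

end ExchangeData

end Cfsg.Agent.Lib.BNPair
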