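import Cfsg.Agent.Lib.BNPair.LieType
import Cfsg.Agent.Lib.BNPair.HeckeCenter
import Cfsg.Agent.Lib.Characters.Convolution
import Cfsg.Agent.Lib.Characters.Perm
import Cfsg.Prelude.Def_ParabolicCharacters

/-!
The constituents of the permutation character on the cosets of `B`.
-/

set_option autoImplicit false

namespace Cfsg.Agent.Lib.BNPair

open scoped Classical ComplexConjugate ComplexOrder
open Matrix ExchangeData Cfsg.Agent.Lib.Characters

variable {G : Type*} [Group G] (P : Cfsg.BNPair G)
variable [hN : ((P.B ⊓ P.N).subgroupOf P.N).Normal]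

/-- The relative position of two cosets. -/
noncomputable def relW (c d : G ⧸ P.B) : Weyl P := (exists_cell P (c.out⁻¹ * d.out)).choose

theorem relW_mk {g h : G} {w : Weyl P} :
    relW P (QuotientGroup.mk g) (QuotientGroup.mk h) = w ↔ g⁻¹ * h ∈ cell P w := by
  set c : G ⧸ P.B := QuotientGroup.mk g
  set d : G ⧸ P.B := QuotientGroup.mk h
  have hc : g⁻¹ * c.out ∈ P.B := QuotientGroup.eq.1 (Quotient.out_eq c).symm
  have hd : h⁻¹ * d.out ∈ P.B := QuotientGroup.eq.1 (Quotient.out_eq d).symm
  have hspec : c.out⁻¹ * d.out ∈ cell P (relW P c d) :=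
    (exists_cell P (c.out⁻¹ * d.out)).choose_spec
  have hgh : g⁻¹ * h ∈ cell P (relW P c d) := by
    have := cell_mul_left P hc (cell_mul_right P (inv_mem hd) hspec)
    have e : g⁻¹ * c.out * (c.out⁻¹ * d.out * (h⁻¹ * d.out)⁻¹) = g⁻¹ * h := by group
    rwa [e] at this
  exact ⟨fun e => e ▸ hgh, fun h' => cell_inj P hgh h'⟩

theorem relW_smul (g : G) (c d : G ⧸ P.B) : relW P (g • c) (g • d) = relW P c d := by
  induction c using QuotientGroup.induction_on with
  | _ a =>
  induction d using QuotientGroup.induction_on with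
  | _ b =>
  show relW P (QuotientGroup.mk (g * a)) (QuotientGroup.mk (g * b)) = _
  rw [relW_mk]
  have e : (g * a)⁻¹ * (g * b) = a⁻¹ * b := by group
  rw [e]
  exact (relW_mk P).1 rfl

theorem relW_swap (c d : G ⧸ P.B) : relW P d c = (relW P c d)⁻¹ := by
  induction c using QuotientGroup.induction_on with
  | _ a =>
  induction d using QuotientGroup.induction_on with
  | _ b =>
  rw [relW_mk]
  simpa using cell_inv P ((relW_mk P).1 (rfl : relW P (QuotientGroup.mk a) (QuotientGroup.mk b) = _))

theorem relW_eq_one {c d : G ⧸ P.B} : relW P c d = 1 ↔ c = d := by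
  induction c using QuotientGroup.induction_on with
  | _ a =>
  induction d using QuotientGroup.induction_on with
  | _ b =>
  rw [relW_mk, cell_one, QuotientGroup.eq]

/-- Two pairs of cosets in the same position are conjugate. -/
theorem exists_smul_pair {c d c' d' : G ⧸ P.B} (h : relW P c d = relW P c' d') :
    ∃ g : G, g • c = c' ∧ g • d = d' := by
  suffices key : ∀ c d : G ⧸ P.B, ∃ g : G, g • (QuotientGroup.mk 1 : G ⧸ P.B) = c ∧
      g • (QuotientGroup.mk (wrep P (relW P c d)) : G ⧸ P.B) = d by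
    obtain ⟨g, hg1, hg2⟩ := key c d
    obtain ⟨g', hg1', hg2'⟩ := key c' d'
    rw [← h] at hg2'
    exact ⟨g' * g⁻¹, by rw [mul_smul, ← hg1, inv_smul_smul, hg1'],
      by rw [mul_smul, ← hg2, inv_smul_smul, hg2']⟩
  intro c d
  induction c using QuotientGroup.induction_on with
  | _ a =>
  induction d using QuotientGroup.induction_on with
  | _ b =>
  obtain ⟨x, hx, y, hy, he⟩ := exists_borel_rep P ((relW_mk P).1
    (rfl : relW P (QuotientGroup.mk a) (QuotientGroup.mk b) = _))
  refine ⟨a * x, ?_, ?_⟩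
  · show (QuotientGroup.mk (a * x * 1) : G ⧸ P.B) = QuotientGroup.mk a
    exact QuotientGroup.eq.2 (by simpa [mul_assoc] using inv_mem hx)
  · show (QuotientGroup.mk (a * x * wrep P _) : G ⧸ P.B) = QuotientGroup.mk b
    refine QuotientGroup.eq.2 ?_
    have e : (a * x * wrep P (relW P (QuotientGroup.mk a) (QuotientGroup.mk b)))⁻¹ * b = y := by
      calc _ = (x * wrep P (relW P (QuotientGroup.mk a) (QuotientGroup.mk b)))⁻¹ * (a⁻¹ * b) := by
            group
        _ = y := by rw [he]; group
    rw [e]; exact hy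

theorem mem_wsub_singleton {s : P.S} {v : Weyl P} (hv : v ∈ (exchangeData P).wsub {s}) :
    v = 1 ∨ v = (exchangeData P).gen s := by
  obtain ⟨κ, hκ, hve, hκs⟩ := (exchangeData P).exists_red_of_mem_wsub hv
  match κ, hκ, hve, hκs with
  | [], _, hve, _ => exact Or.inl hve.symm
  | [i], _, hve, hκs =>
    obtain rfl : i = s := hκs i (by simp)
    exact Or.inr (by rw [← hve]; simp [ExchangeData.pw])
  | i :: j :: κ, hκ, _, hκs =>
    obtain rfl : i = s := hκs i (by simp)
    obtain rfl : j = i := hκs j (by simp)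
    exact absurd hκ ((exchangeData P).not_red_double _ _)

theorem relW_gen_trans {s : P.S} {c e e' : G ⧸ P.B} (h : relW P c e = (exchangeData P).gen s)
    (h' : relW P c e' = (exchangeData P).gen s) :
    relW P e e' = 1 ∨ relW P e e' = (exchangeData P).gen s := by
  induction c using QuotientGroup.induction_on with
  | _ a =>
  induction e using QuotientGroup.induction_on with
  | _ b =>
  induction e' using QuotientGroup.induction_on with
  | _ b' =>
  rw [relW_mk] at h h'
  have hs := (exchangeData P).gen_mem_wsub (Set.mem_singleton s)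
  have hmem : b⁻¹ * b' ∈ par P {s} := by
    have := mul_mem (inv_mem (mem_par_of_cell P hs h)) (mem_par_of_cell P hs h')
    simpa [mul_assoc] using this
  obtain ⟨v, hv, hcell⟩ := mem_par_cell P hmem
  rw [(relW_mk P).2 hcell]
  exact mem_wsub_singleton P hv

variable [Finite G] [Fintype (G ⧸ P.B)] [Fintype (Weyl P)] [Fintype P.S]

/-- The operator of a cell. -/
noncomputable def Aop (w : Weyl P) : Matrix (G ⧸ P.B) (G ⧸ P.B) ℂ :=
  Matrix.of fun c d => if relW P c d = w then 1 else 0

/-- The algebra element of a vector. -/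
noncomputable def rho (x : Weyl P → ℂ) : Matrix (G ⧸ P.B) (G ⧸ P.B) ℂ :=
  Matrix.of fun c d => x (relW P c d)

theorem rho_bv (w : Weyl P) : rho P (bv w) = Aop P w := by
  ext c d
  simp [rho, Aop, bv, Pi.single_apply]

/-- `rho` as a linear map. -/
noncomputable def rhoL : (Weyl P → ℂ) →ₗ[ℂ] Matrix (G ⧸ P.B) (G ⧸ P.B) ℂ where
  toFun := rho P
  map_add' x y := by ext c d; rfl
  map_smul' a x := by ext c d; rfl

theorem rho_injective : Function.Injective (rhoL P) := by
  intro x y h
  funext w
  have h1 := congrFun (congrFun h (QuotientGroup.mk 1 : G ⧸ P.B)) (QuotientGroup.mk (wrep P w))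
  change x (relW P _ _) = y (relW P _ _) at h1
  rwa [(relW_mk P).2 (by simpa using wrep_mem_cell P w)] at h1

namespace LieData

variable {P} {p q : ℕ} {U : Subgroup G} (L : LieData P p q U)
include L

theorem card_relW (c : G ⧸ P.B) (w : Weyl P) :
    Nat.card {e : G ⧸ P.B // relW P c e = w} = q ^ (exchangeData P).len w := by
  induction c using QuotientGroup.induction_on with
  | _ a =>
  rw [← L.card_cell _ w rfl]
  refine Nat.card_congr ((MulAction.toPerm a⁻¹).subtypeEquiv fun e => ?_)
  induction e using QuotientGroup.induction_on with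
  | _ b =>
  rw [relW_mk]
  exact (inCell_iff P (g := a⁻¹ * b)).symm

theorem Aop_mul_up {s : P.S} {w : Weyl P}
    (h : (exchangeData P).len w < (exchangeData P).len ((exchangeData P).gen s * w)) :
    Aop P ((exchangeData P).gen s) * Aop P w = Aop P ((exchangeData P).gen s * w) := by
  set E := exchangeData P with hE
  have hadd : E.len (E.gen s * w) = E.len (E.gen s) + E.len w := by
    rw [E.len_gen]
    have := E.len_gen_mul_or s w
    omega
  ext c d
  simp only [Matrix.mul_apply, Aop, Matrix.of_apply, mul_ite, mul_one, mul_zero, ← ite_and]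
  rw [Finset.sum_boole]
  by_cases hcd : relW P c d = E.gen s * w
  · rw [if_pos hcd, Nat.cast_eq_one, Finset.card_eq_one]
    induction c using QuotientGroup.induction_on with
    | _ a =>
    induction d using QuotientGroup.induction_on with
    | _ b =>
    rw [relW_mk] at hcd
    obtain ⟨n, hn⟩ := exists_mk P w
    have hcd' : a⁻¹ * b ∈ dc P ((s : G) * n) := by
      rw [← hn, hE] at hcd
      change a⁻¹ * b ∈ cell P (wgen P s * QuotientGroup.mk n) at hcd
      rw [wgen, ← QuotientGroup.mk_mul, cell_mk] at hcd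
      exact hcd
    obtain ⟨x, hx, y, hy, he⟩ := (mem_dc P).1 hcd'
    refine ⟨QuotientGroup.mk (a * x * (s : G)), Finset.eq_singleton_iff_unique_mem.2 ⟨?_, ?_⟩⟩
    · rw [Finset.mem_filter]
      refine ⟨Finset.mem_univ _, ?_, ?_⟩
      · rw [relW_mk]
        have e : (a * x * (s : G))⁻¹ * b = (n : G) * y := by
          calc _ = (x * (s : G))⁻¹ * (a⁻¹ * b) := by group
            _ = _ := by rw [he]; group
        rw [e, ← hn]
        exact cell_mul_right P hy (mem_cell_mk P n)
      · rw [relW_mk]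
        have e : a⁻¹ * (a * x * (s : G)) = x * (s : G) := by group
        rw [e]
        exact cell_mul_left P hx (mem_cell_mk P ⟨(s : G), P.subset s.2⟩)
    · intro e he'
      rw [Finset.mem_filter] at he'
      obtain ⟨-, he1, he2⟩ := he'
      have hf1 : relW P (QuotientGroup.mk a) (QuotientGroup.mk (a * x * (s : G))) = E.gen s := by
        rw [relW_mk]
        have e : a⁻¹ * (a * x * (s : G)) = x * (s : G) := by group
        rw [e]
        exact cell_mul_left P hx (mem_cell_mk P ⟨(s : G), P.subset s.2⟩)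
      have hf2 : relW P (QuotientGroup.mk (a * x * (s : G))) (QuotientGroup.mk b) = w := by
        rw [relW_mk]
        have e : (a * x * (s : G))⁻¹ * b = (n : G) * y := by
          calc _ = (x * (s : G))⁻¹ * (a⁻¹ * b) := by group
            _ = _ := by rw [he]; group
        rw [e, ← hn]
        exact cell_mul_right P hy (mem_cell_mk P n)
      rcases relW_gen_trans P he2 hf1 with h1 | h1
      · exact (relW_eq_one P).1 h1
      · exfalso
        induction e using QuotientGroup.induction_on with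
        | _ z =>
        rw [relW_mk] at h1 hf2
        have h3 := cell_mul P hadd h1 hf2
        have e : z⁻¹ * (a * x * (s : G)) * ((a * x * (s : G))⁻¹ * b) = z⁻¹ * b := by group
        rw [e] at h3
        rw [relW_mk] at he1
        have h4 := cell_inj P he1 h3
        rw [eq_comm, mul_eq_right] at h4
        exact E.ne_one s h4
  · rw [if_neg hcd, Nat.cast_eq_zero, Finset.card_eq_zero, Finset.filter_eq_empty_iff]
    intro e _ he
    obtain ⟨he1, he2⟩ := he
    apply hcd
    induction c using QuotientGroup.induction_on with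
    | _ a =>
    induction d using QuotientGroup.induction_on with
    | _ b =>
    induction e using QuotientGroup.induction_on with
    | _ z =>
    rw [relW_mk] at he1 he2 ⊢
    have h3 := cell_mul P hadd he2 he1
    have e : a⁻¹ * z * (z⁻¹ * b) = a⁻¹ * b := by group
    rwa [e] at h3

theorem Aop_sq (s : P.S) :
    Aop P ((exchangeData P).gen s) * Aop P ((exchangeData P).gen s) =
      (q : ℂ) • Aop P 1 + ((q : ℂ) - 1) • Aop P ((exchangeData P).gen s) := by
  set E := exchangeData P with hE
  have hinv : (E.gen s)⁻¹ = E.gen s := E.gen_inv s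
  have hsne : E.gen s ≠ 1 := E.ne_one s
  have hcard : ∀ c : G ⧸ P.B,
      (Finset.univ.filter fun e => relW P c e = E.gen s).card = q := fun c => by
    have h := L.card_relW c (E.gen s)
    rw [← hE, E.len_gen, pow_one, Nat.card_eq_fintype_card, Fintype.card_subtype] at h
    exact h
  ext c d
  simp only [Matrix.mul_apply, Aop, Matrix.of_apply, mul_ite, mul_one, mul_zero, ← ite_and,
    Matrix.add_apply, Matrix.smul_apply, smul_eq_mul]
  rw [Finset.sum_boole]
  by_cases h1 : relW P c d = 1
  · obtain rfl := (relW_eq_one P).1 h1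
    rw [if_pos h1, if_neg (by rw [h1]; exact Ne.symm hsne), add_zero, Nat.cast_inj]
    rw [← hcard c]
    congr 1
    ext e
    simp only [Finset.mem_filter, Finset.mem_univ, true_and]
    exact ⟨fun h => h.2, fun h => ⟨by rw [relW_swap, h, hinv], h⟩⟩
  by_cases h2 : relW P c d = E.gen s
  · rw [if_neg h1, if_pos h2, zero_add]
    have hset : (Finset.univ.filter fun e => relW P e d = E.gen s ∧ relW P c e = E.gen s) =
        (Finset.univ.filter fun e => relW P c e = E.gen s).erase d := by
      ext e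
      simp only [Finset.mem_filter, Finset.mem_univ, true_and, Finset.mem_erase]
      constructor
      · rintro ⟨h3, h4⟩
        exact ⟨fun he => hsne (by rw [← h3, he]; exact (relW_eq_one P).2 rfl), h4⟩
      · rintro ⟨hne, h4⟩
        refine ⟨?_, h4⟩
        rcases relW_gen_trans P h4 h2 with h5 | h5
        · exact absurd ((relW_eq_one P).1 h5) hne
        · exact h5
    rw [hset, Finset.card_erase_of_mem (by simp [h2]), hcard]
    have hq : 1 ≤ q := L.q_pos
    push_cast [Nat.cast_sub hq]
    ring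
  · rw [if_neg h1, if_neg h2, add_zero, Nat.cast_eq_zero, Finset.card_eq_zero,
      Finset.filter_eq_empty_iff]
    intro e _ he
    obtain ⟨he1, he2⟩ := he
    have hec : relW P e c = E.gen s := by rw [relW_swap, he2, hinv]
    rcases relW_gen_trans P hec he1 with h3 | h3
    · exact h1 h3
    · exact h2 h3

omit L in
theorem Aop_one : Aop P (1 : Weyl P) = 1 := by
  ext c d
  simp [Aop, relW_eq_one, Matrix.one_apply]

theorem rho_lcol (s : P.S) (w : Weyl P) :
    rho P ((exchangeData P).lcol (q : ℂ) s w) = Aop P ((exchangeData P).gen s) * Aop P w := by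
  set E := exchangeData P with hE
  rw [lcol]
  split_ifs with h
  · rw [rho_bv, L.Aop_mul_up h]
  · have h' : E.len (E.gen s * w) < E.len (E.gen s * (E.gen s * w)) := by
      rw [E.gen_mul_gen_mul]
      have := E.len_mul_ne s w
      omega
    have hw : Aop P w = Aop P (E.gen s) * Aop P (E.gen s * w) := by
      rw [L.Aop_mul_up h', E.gen_mul_gen_mul]
    rw [hw, ← mul_assoc, L.Aop_sq, Aop_one, add_mul, smul_mul_assoc, one_mul, smul_mul_assoc,
      ← hw]
    show rhoL P _ = _
    rw [map_add, map_smul, map_smul]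
    show (q : ℂ) • rho P (bv _) + _ • rho P (bv _) = _
    rw [rho_bv, rho_bv]

theorem rho_Ts (s : P.S) (x : Weyl P → ℂ) :
    rho P ((exchangeData P).Ts (q : ℂ) s *ᵥ x) = Aop P ((exchangeData P).gen s) * rho P x := by
  have hx : x = ∑ w, x w • bv w := by
    funext y; simp [bv, Pi.single_apply, Finset.sum_apply]
  show rhoL P _ = _ * rhoL P x
  rw [hx, Matrix.mulVec_sum, map_sum, map_sum, Finset.mul_sum]
  refine Finset.sum_congr rfl fun w _ => ?_
  rw [Matrix.mulVec_smul, map_smul, map_smul, mul_smul_comm, Ts_bv]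
  show _ • rho P _ = _ • (_ * rho P _)
  rw [L.rho_lcol, rho_bv]

theorem rho_Tword {ω : List P.S} (h : (exchangeData P).Red ω) (x : Weyl P → ℂ) :
    rho P ((exchangeData P).Tword (q : ℂ) ω *ᵥ x) = Aop P ((exchangeData P).pw ω) * rho P x := by
  induction ω with
  | nil =>
    rw [show (exchangeData P).pw [] = 1 from rfl, Aop_one, one_mul, Tword, List.map_nil,
      List.prod_nil, Matrix.one_mulVec]
  | cons s ω ih =>
    have hred := (exchangeData P).red_tail h
    rw [Tword, List.map_cons, List.prod_cons, ← Matrix.mulVec_mulVec, L.rho_Ts]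
    show _ * rho P ((exchangeData P).Tword (q : ℂ) ω *ᵥ x) = _
    rw [ih hred, ← mul_assoc, L.Aop_mul_up, ← (exchangeData P).pw_cons]
    have h1 : (exchangeData P).len ((exchangeData P).pw (s :: ω)) = ω.length + 1 := h
    have h2 : (exchangeData P).len ((exchangeData P).pw ω) = ω.length := hred
    rw [← (exchangeData P).pw_cons]
    omega

theorem rho_Tw (w : Weyl P) (x : Weyl P → ℂ) :
    rho P ((exchangeData P).Tw (q : ℂ) w *ᵥ x) = Aop P w * rho P x := by
  obtain ⟨ω, hω, rfl⟩ := (exchangeData P).exists_word' w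
  have hred : (exchangeData P).Red ω := hω.symm
  rw [← (exchangeData P).Tword_eq_Tw _ hred, L.rho_Tword hred]

theorem rho_TT (x y : Weyl P → ℂ) :
    rho P ((exchangeData P).TT (q : ℂ) x *ᵥ y) = rho P x * rho P y := by
  have hx : rhoL P x = ∑ w, x w • Aop P w := by
    conv_lhs => rw [show x = ∑ w, x w • bv w from by
      funext y; simp [bv, Pi.single_apply, Finset.sum_apply]]
    rw [map_sum]
    exact Finset.sum_congr rfl fun w _ => by rw [map_smul]; exact congrArg _ (rho_bv P w)
  show rhoL P _ = rhoL P x * rho P y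
  rw [hx, TT, Matrix.sum_mulVec, map_sum, Finset.sum_mul]
  refine Finset.sum_congr rfl fun w _ => ?_
  rw [Matrix.smul_mulVec, map_smul, smul_mul_assoc]
  exact congrArg _ (L.rho_Tw w y)

theorem mem_ker_iff (x : Weyl P → ℂ) :
    (exchangeData P).MAd (q : ℂ) *ᵥ x = 0 ↔
      ∀ s, Aop P ((exchangeData P).gen s) * rho P x = rho P x * Aop P ((exchangeData P).gen s) := by
  set E := exchangeData P with hE
  rw [E.mem_ker_MAd]
  refine forall_congr' fun s => ?_
  have h1 : rho P ((E.Ts (q : ℂ) s * E.TT (q : ℂ) x) *ᵥ bv 1) = Aop P (E.gen s) * rho P x := by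
    rw [← Matrix.mulVec_mulVec, E.TT_bv_one, L.rho_Ts]
  have h2 : rho P ((E.TT (q : ℂ) x * E.Ts (q : ℂ) s) *ᵥ bv 1) = rho P x * Aop P (E.gen s) := by
    rw [← Matrix.mulVec_mulVec, L.rho_TT, L.rho_Ts, rho_bv, Aop_one, mul_one]
  constructor
  · intro h; rw [← h1, ← h2, h]
  · intro h
    refine E.isLeft_ext _ (E.isLeft_mul _ (E.isLeft_Ts _ s) (E.isLeft_TT _ x))
      (E.isLeft_mul _ (E.isLeft_TT _ x) (E.isLeft_Ts _ s)) (rho_injective P ?_)
    show rho P _ = rho P _
    rw [h1, h2, h]

end LieData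

/-- A permutation matrix. -/
noncomputable def piM (g : G) : Matrix (G ⧸ P.B) (G ⧸ P.B) ℂ :=
  Matrix.of fun c d => if g • d = c then 1 else 0

/-- A combination of permutation matrices. -/
noncomputable def xiM [Fintype G] (a : G → ℂ) : Matrix (G ⧸ P.B) (G ⧸ P.B) ℂ :=
  ∑ g, a g • piM P g

theorem piM_mul_apply (g : G) (M : Matrix (G ⧸ P.B) (G ⧸ P.B) ℂ) (c d : G ⧸ P.B) :
    (piM P g * M) c d = M (g⁻¹ • c) d := by
  simp only [Matrix.mul_apply, piM, Matrix.of_apply, ite_mul, one_mul, zero_mul]
  rw [Finset.sum_eq_single (g⁻¹ • c)]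
  · rw [if_pos (smul_inv_smul g c)]
  · intro e _ he
    rw [if_neg]
    intro h; exact he (by rw [← h, inv_smul_smul])
  · simp

theorem mul_piM_apply (g : G) (M : Matrix (G ⧸ P.B) (G ⧸ P.B) ℂ) (c d : G ⧸ P.B) :
    (M * piM P g) c d = M c (g • d) := by
  simp only [Matrix.mul_apply, piM, Matrix.of_apply, mul_ite, mul_one, mul_zero]
  rw [Finset.sum_eq_single (g • d)]
  · simp
  · intro e _ he; rw [if_neg (Ne.symm he)]
  · simp

theorem piM_mul (g h : G) : piM P g * piM P h = piM P (g * h) := by
  ext c d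
  rw [piM_mul_apply]
  simp only [piM, Matrix.of_apply, mul_smul, eq_inv_smul_iff]

theorem rho_comm_piM (g : G) (x : Weyl P → ℂ) : piM P g * rho P x = rho P x * piM P g := by
  ext c d
  rw [piM_mul_apply, mul_piM_apply]
  show x (relW P (g⁻¹ • c) d) = x (relW P c (g • d))
  rw [← relW_smul P g (g⁻¹ • c) d, smul_inv_smul]

theorem exists_rho_of_comm {M : Matrix (G ⧸ P.B) (G ⧸ P.B) ℂ}
    (h : ∀ g, piM P g * M = M * piM P g) : ∃ x, M = rho P x := by
  refine ⟨fun w => M (QuotientGroup.mk 1) (QuotientGroup.mk (wrep P w)), ?_⟩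
  ext c d
  show M c d = M _ _
  obtain ⟨g, hg1, hg2⟩ := exists_smul_pair P (c := (QuotientGroup.mk 1 : G ⧸ P.B))
    (d := QuotientGroup.mk (wrep P (relW P c d))) (c' := c) (d' := d)
    ((relW_mk P).2 (by simpa using wrep_mem_cell P (relW P c d)))
  have h1 := congrFun (congrFun (h g) c) (QuotientGroup.mk (wrep P (relW P c d)))
  rw [piM_mul_apply, mul_piM_apply, hg2] at h1
  rw [← h1]
  congr 1
  rw [← hg1, inv_smul_smul]

variable [Fintype G]

theorem piM_comm_xiM {a : G → ℂ} (ha : IsClassFunction G a) (h : G) :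
    piM P h * xiM P a = xiM P a * piM P h := by
  rw [xiM, Finset.mul_sum, Finset.sum_mul]
  simp only [mul_smul_comm, smul_mul_assoc, piM_mul]
  refine Fintype.sum_equiv (MulAut.conj h).toEquiv _ _ fun g => ?_
  show a g • piM P (h * g) = a (h * g * h⁻¹) • piM P (h * g * h⁻¹ * h)
  rw [ha, inv_mul_cancel_right]

theorem conjTranspose_piM (g : G) : (piM P g)ᴴ = piM P g⁻¹ := by
  ext c d
  simp only [Matrix.conjTranspose_apply, piM, Matrix.of_apply]
  by_cases h : g • c = d
  · rw [if_pos h, if_pos (by rw [← h, inv_smul_smul]), star_one]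
  · rw [if_neg h, if_neg (fun e => h (by rw [← e, smul_inv_smul])), star_zero]

theorem trace_piM (g : G) :
    (piM P g).trace = Cfsg.fixedPointCharacter P.B g := by
  simp only [Matrix.trace, Matrix.diag_apply, piM, Matrix.of_apply]
  rw [Finset.sum_boole, Cfsg.fixedPointCharacter, Nat.cast_inj, ← Fintype.card_subtype,
    ← Nat.card_eq_fintype_card]
  rfl

theorem trace_xiM (χ ψ : IrrCharacter G) :
    ((xiM P fun g => conj ((ψ : G → ℂ) g))ᴴ * xiM P fun g => conj ((χ : G → ℂ) g)).trace =
      if ψ = χ then (Nat.card G : ℂ) ^ 2 / (χ : G → ℂ) 1 *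
        classInner (Cfsg.fixedPointCharacter P.B) (χ : G → ℂ) else 0 := by
  have hχ := irr_isCharacter χ
  have hinv : ∀ x, (χ : G → ℂ) x⁻¹ = conj ((χ : G → ℂ) x) := IsCharacter.apply_inv hχ
  have hψinv : ∀ x, (ψ : G → ℂ) x⁻¹ = conj ((ψ : G → ℂ) x) :=
    IsCharacter.apply_inv (irr_isCharacter ψ)
  have hψcl : IsClassFunction G fun x => conj ((ψ : G → ℂ) x) := fun g h => by
    show conj _ = conj _
    rw [irr_isClassFunction ψ g h]
  simp only [xiM, Matrix.conjTranspose_sum, Matrix.conjTranspose_smul, conjTranspose_piM,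
    Finset.sum_mul, Finset.mul_sum, smul_mul_assoc, mul_smul_comm, piM_mul, Matrix.trace_sum,
    Matrix.trace_smul, trace_piM, smul_eq_mul, ← starRingEnd_apply, Complex.conj_conj]
  have e : ∀ g : G, (∑ h, conj ((χ : G → ℂ) h) *
      ((ψ : G → ℂ) g * Cfsg.fixedPointCharacter P.B (g⁻¹ * h))) =
      ∑ k, Cfsg.fixedPointCharacter P.B k *
        (conj ((ψ : G → ℂ) g⁻¹) * (χ : G → ℂ) (k⁻¹ * g⁻¹)) := fun g => by
    refine Fintype.sum_equiv (Equiv.mulLeft g⁻¹) _ _ fun h => ?_
    show _ = Cfsg.fixedPointCharacter P.B (g⁻¹ * h) *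
      (conj ((ψ : G → ℂ) g⁻¹) * (χ : G → ℂ) ((g⁻¹ * h)⁻¹ * g⁻¹))
    have e1 : (g⁻¹ * h)⁻¹ * g⁻¹ = h⁻¹ := by group
    rw [e1, hinv, hψinv, Complex.conj_conj]
    ring
  rw [Finset.sum_comm, Finset.sum_congr rfl fun g _ => e g, Finset.sum_comm]
  have e2 : ∀ k : G, (∑ g, Cfsg.fixedPointCharacter P.B k *
      (conj ((ψ : G → ℂ) g⁻¹) * (χ : G → ℂ) (k⁻¹ * g⁻¹))) =
      Cfsg.fixedPointCharacter P.B k * (conj ((χ : G → ℂ) k) / (χ : G → ℂ) 1 *
        ((Nat.card G : ℂ) * classInner (χ : G → ℂ) (ψ : G → ℂ))) := fun k => by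
    rw [← Finset.mul_sum]
    congr 1
    refine (Fintype.sum_equiv (Equiv.inv G) _
      (fun x => conj ((ψ : G → ℂ) x) * (χ : G → ℂ) (k⁻¹ * x)) (fun g => rfl)).trans ?_
    rw [IsIrrCharacter.sum_mul_translate χ.2 hψcl, hinv, classInner,
      mul_inv_cancel_left₀ natCard_ne_zero_complex]
    congr 1
    exact Finset.sum_congr rfl fun x _ => mul_comm _ _
  rw [Finset.sum_congr rfl fun k _ => e2 k]
  rw [classInner_irr]
  by_cases hc : ψ = χ
  · subst hc
    rw [if_pos rfl, if_pos rfl]
    unfold classInner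
    simp only [Finset.mul_sum]
    refine Finset.sum_congr rfl fun k _ => ?_
    have := natCard_ne_zero_complex (G := G)
    field_simp
  · rw [if_neg (Ne.symm hc), if_neg hc]
    simp

namespace LieData

variable {P} {p q : ℕ} {U : Subgroup G} (L : LieData P p q U)
include L

theorem card_pair_stab (c a d b : G ⧸ P.B) :
    Nat.card {g : G // g • c = d ∧ g • a = b} * q ^ (exchangeData P).len (relW P c a) =
      if relW P d b = relW P c a then Nat.card P.B else 0 := by
  split_ifs with h
  · set w := relW P c a with hw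
    obtain ⟨g₁, h1c, h1a⟩ := exists_smul_pair P (c := (QuotientGroup.mk 1 : G ⧸ P.B))
      (d := QuotientGroup.mk (wrep P w)) (c' := c) (d' := a)
      (((relW_mk P).2 (by simpa using wrep_mem_cell P w)))
    obtain ⟨g₂, h2c, h2a⟩ := exists_smul_pair P (c := (QuotientGroup.mk 1 : G ⧸ P.B))
      (d := QuotientGroup.mk (wrep P w)) (c' := d) (d' := b)
      (((relW_mk P).2 (by simpa using wrep_mem_cell P w)).trans h.symm)
    rw [← L.card_stabB w, mul_comm]
    congr 1
    refine Nat.card_congr (((Equiv.mulLeft g₂⁻¹).trans (Equiv.mulRight g₁)).subtypeEquiv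
      fun g => ?_)
    show g • c = d ∧ g • a = b ↔ g₂⁻¹ * g * g₁ ∈ stabB P w
    have hiff : ∀ (x : G) (z : G ⧸ P.B), (g₂⁻¹ * g * g₁) • z = z ↔
        g • (g₁ • z) = g₂ • z := fun x z => by
      rw [mul_smul, mul_smul, inv_smul_eq_iff]
    rw [mem_stabB]
    have hfix : ∀ x : G, (x • (QuotientGroup.mk 1 : G ⧸ P.B) = QuotientGroup.mk 1 ↔ x ∈ P.B) ∧
        (x • (QuotientGroup.mk (wrep P w) : G ⧸ P.B) = QuotientGroup.mk (wrep P w) ↔
          (wrep P w)⁻¹ * x * wrep P w ∈ P.B) := fun x => by
      constructor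
      · show (QuotientGroup.mk (x * 1) : G ⧸ P.B) = _ ↔ _
        rw [eq_comm, QuotientGroup.eq]; simp
      · show (QuotientGroup.mk (x * wrep P w) : G ⧸ P.B) = _ ↔ _
        rw [eq_comm, QuotientGroup.eq, mul_assoc]
    rw [← (hfix _).1, ← (hfix _).2, hiff g, hiff g, h1c, h1a, h2c, h2a]
  · have : IsEmpty {g : G // g • c = d ∧ g • a = b} := ⟨fun g => h (by
      have h' := relW_smul P g.1 c a
      rwa [g.2.1, g.2.2] at h')⟩
    rw [Nat.card_of_isEmpty, zero_mul]

theorem rho_casimir_eq_xiM {M : ℕ} (hM : ∀ w, (exchangeData P).len w ≤ M) (y : Weyl P → ℂ) :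
    ∃ a : G → ℂ, IsClassFunction G a ∧
      rho P ((exchangeData P).casimir (q : ℂ) M ((exchangeData P).TT (q : ℂ) y) *ᵥ bv 1) =
        xiM P a := by
  set E := exchangeData P with hE
  refine ⟨fun g => (q : ℂ) ^ M / (Nat.card P.B : ℂ) * ∑ a, rho P y a (g⁻¹ • a), ?_, ?_⟩
  · intro g h
    show _ * _ = _ * _
    congr 1
    refine Fintype.sum_equiv (MulAction.toPerm h⁻¹) _ _ fun a => ?_
    show y (relW P a ((h * g * h⁻¹)⁻¹ • a)) = y (relW P (h⁻¹ • a) (g⁻¹ • (h⁻¹ • a)))
    rw [← relW_smul P h⁻¹ a, smul_smul, smul_smul]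
    congr 3
    group
  · have hsum : rho P (E.casimir (q : ℂ) M (E.TT (q : ℂ) y) *ᵥ bv 1) =
        ∑ w, (q : ℂ) ^ (M - E.len w) • (Aop P w * rho P y * Aop P w⁻¹) := by
      rw [casimir, Matrix.sum_mulVec]
      show rhoL P _ = _
      rw [map_sum]
      refine Finset.sum_congr rfl fun w _ => ?_
      rw [Matrix.smul_mulVec, map_smul, ← Matrix.mulVec_mulVec, E.Tw_bv_one,
        ← Matrix.mulVec_mulVec]
      show _ • rho P _ = _
      rw [L.rho_Tw, L.rho_TT, rho_bv, mul_assoc]
    rw [hsum]
    ext c d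
    simp only [Matrix.sum_apply, Matrix.smul_apply, smul_eq_mul, Matrix.mul_apply, Aop,
      Matrix.of_apply, xiM, piM, mul_ite, mul_one, mul_zero, ite_mul, one_mul, zero_mul,
      Finset.mul_sum, Finset.sum_mul]
    rw [Finset.sum_comm]
    have hstep : ∀ b : G ⧸ P.B, (∑ w, if relW P b d = w⁻¹ then
          ∑ a, (if relW P c a = w then (q : ℂ) ^ (M - E.len w) * rho P y a b else 0) else 0) =
        ∑ a, (if relW P d b = relW P c a then
          (q : ℂ) ^ (M - E.len (relW P c a)) * rho P y a b else 0) := fun b => by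
      rw [Finset.sum_eq_single (relW P b d)⁻¹]
      · rw [if_pos (by rw [inv_inv]), ← relW_swap]
        refine Finset.sum_congr rfl fun a _ => ?_
        by_cases hca : relW P c a = relW P d b
        · rw [if_pos hca, if_pos hca.symm, hca]
        · rw [if_neg hca, if_neg (Ne.symm hca)]
      · intro w _ hw
        rw [if_neg (fun e => hw (by rw [e, inv_inv]))]
      · simp
    rw [Finset.sum_congr rfl fun b _ => hstep b]
    have hval : ∀ a b : G ⧸ P.B, (if relW P d b = relW P c a then
          (q : ℂ) ^ (M - E.len (relW P c a)) * rho P y a b else 0) =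
        (q : ℂ) ^ M / (Nat.card P.B : ℂ) *
          ((Nat.card {g : G // g • c = d ∧ g • a = b} : ℂ) * rho P y a b) := fun a b => by
      have h := congrArg (Nat.cast (R := ℂ)) (L.card_pair_stab c a d b)
      push_cast at h
      have hq : (q : ℂ) ≠ 0 := Nat.cast_ne_zero.2 L.q_pos.ne'
      have hB : (Nat.card P.B : ℂ) ≠ 0 := Nat.cast_ne_zero.2 Nat.card_pos.ne'
      have hpow : (q : ℂ) ^ M =
          (q : ℂ) ^ (M - E.len (relW P c a)) * (q : ℂ) ^ E.len (relW P c a) := by
        rw [← pow_add, Nat.sub_add_cancel (hM _)]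
      by_cases hr : relW P d b = relW P c a
      · rw [if_pos hr] at h ⊢
        rw [div_mul_eq_mul_div, eq_div_iff hB, ← h, hpow]
        ring
      · rw [if_neg hr] at h ⊢
        have h0 := (mul_eq_zero.1 h).resolve_right (pow_ne_zero _ hq)
        rw [h0]; simp
    simp only [hval, ← Finset.mul_sum]
    have hperm : (∑ b : G ⧸ P.B, ∑ a : G ⧸ P.B,
          (Nat.card {g : G // g • c = d ∧ g • a = b} : ℂ) * rho P y a b) =
        ∑ g : G, if g • c = d then ∑ a, rho P y a (g • a) else 0 := by
      rw [Finset.sum_comm]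
      have e : ∀ a b : G ⧸ P.B, (Nat.card {g : G // g • c = d ∧ g • a = b} : ℂ) * rho P y a b =
          ∑ g : G, if g • c = d ∧ g • a = b then rho P y a b else 0 := fun a b => by
        rw [Nat.card_eq_fintype_card, Fintype.card_subtype, ← Finset.sum_filter, Finset.sum_const,
          nsmul_eq_mul]
      simp only [e]
      rw [Finset.sum_congr rfl fun a _ => Finset.sum_comm, Finset.sum_comm]
      refine Finset.sum_congr rfl fun g _ => ?_
      by_cases hg : g • c = d
      · rw [if_pos hg]
        refine Finset.sum_congr rfl fun a _ => ?_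
        rw [Finset.sum_eq_single (g • a)]
        · rw [if_pos ⟨hg, rfl⟩]
        · intro b _ hb; rw [if_neg (fun h => hb h.2.symm)]
        · simp
      · rw [if_neg hg]
        exact Finset.sum_eq_zero fun a _ => Finset.sum_eq_zero fun b _ => by
          rw [if_neg (fun h => hg h.1)]
    rw [hperm, Finset.mul_sum]
    refine Fintype.sum_equiv (Equiv.inv G) _ _ fun g => ?_
    show _ = if g⁻¹ • d = c then _ else 0
    by_cases hg : g • c = d
    · rw [if_pos hg, if_pos (by rw [← hg, inv_smul_smul]), Finset.mul_sum]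
      rw [Finset.mul_sum]
      simp
    · rw [if_neg hg, if_neg (fun e => hg (by rw [← e, smul_inv_smul])), mul_zero]

theorem card_constituents :
    Nat.card {χ : IrrCharacter G //
      classInner (Cfsg.fixedPointCharacter P.B) (χ : G → ℂ) ≠ 0} =
      Nat.card (ConjClasses (Weyl P)) := by
  set E := exchangeData P with hE
  obtain ⟨w₀, h₀⟩ := E.exists_top
  have hM : ∀ w, E.len w ≤ E.len w₀ := fun w => by
    have := E.rtop_len_left (E.top_rtop h₀) (E.mem_univ_wsub w)
    omega
  have hdet : (E.casimir (q : ℂ) (E.len w₀) 1).det ≠ 0 := by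
    have h := E.det_casimir_ne_zero (q := (q : ℝ)) (Nat.cast_pos.2 L.q_pos) (E.len w₀)
    intro h0
    apply h
    apply Complex.ofRealHom.injective
    rw [RingHom.map_det, map_zero, RingHom.mapMatrix_apply, E.map_casimir,
      Matrix.map_one _ (map_zero _) (map_one _), map_natCast]
    exact h0
  haveI := Fintype.ofFinite (IrrCharacter G)
  let pr : {χ : IrrCharacter G // classInner (Cfsg.fixedPointCharacter P.B) (χ : G → ℂ) ≠ 0} →
      Matrix (G ⧸ P.B) (G ⧸ P.B) ℂ := fun χ => xiM P fun g => conj ((χ.1 : G → ℂ) g)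
  have hzero : ∀ χ : IrrCharacter G,
      classInner (Cfsg.fixedPointCharacter P.B) (χ : G → ℂ) = 0 →
        xiM P (fun g => conj ((χ : G → ℂ) g)) = 0 := fun χ hχ => by
    apply Matrix.trace_conjTranspose_mul_self_eq_zero_iff.1
    rw [trace_xiM, if_pos rfl, hχ, mul_zero]
  have hind : LinearIndependent ℂ pr := by
    rw [Fintype.linearIndependent_iff]
    intro c hc χ
    have h := congrArg (fun X => ((pr χ)ᴴ * X).trace) hc
    simp only [Finset.mul_sum, Matrix.trace_sum, mul_smul_comm, Matrix.trace_smul, Matrix.mul_zero,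
      Matrix.trace_zero, smul_eq_mul, pr, trace_xiM] at h
    rw [Finset.sum_eq_single χ (fun ψ _ hne => by
      rw [if_neg (fun e => hne (Subtype.ext e).symm), mul_zero]) (by simp), if_pos rfl] at h
    obtain ⟨d, hd0, hd⟩ := IsIrrCharacter.exists_apply_one χ.1.2
    rcases mul_eq_zero.1 h with h1 | h1
    · exact h1
    · exfalso
      rcases mul_eq_zero.1 h1 with h2 | h2
      · rw [div_eq_zero_iff] at h2
        rcases h2 with h2 | h2
        · exact natCard_ne_zero_complex (pow_eq_zero_iff two_ne_zero |>.1 h2)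
        · rw [hd, Nat.cast_eq_zero] at h2; omega
      · exact χ.2 h2
  have himage : (LinearMap.ker (E.MAd (q : ℂ)).mulVecLin).map (rhoL P) =
      Submodule.span ℂ (Set.range pr) := by
    refine le_antisymm ?_ (Submodule.span_le.2 ?_)
    · rintro _ ⟨x, hx, rfl⟩
      rw [SetLike.mem_coe, ← E.ker_eq_range hM hdet] at hx
      obtain ⟨y, rfl⟩ := hx
      obtain ⟨a, ha, he⟩ := L.rho_casimir_eq_xiM hM y
      rw [Matrix.mulVecLin_apply, E.MPhi_mulVec]
      show rho P _ ∈ _
      rw [he]
      have ha' : IsClassFunction G fun g => conj (a g) := fun g h => by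
        show conj _ = conj _
        rw [ha g h]
      have hexp := eq_sum_classInner ha'
      have hexp' : a = fun g => ∑ χ : IrrCharacter G,
          conj (classInner (fun g => conj (a g)) (χ : G → ℂ)) * conj ((χ : G → ℂ) g) := by
        funext g
        have := congrArg conj (congrFun hexp g)
        simpa [Finset.sum_apply, map_sum] using this
      rw [hexp', xiM]
      simp only [Finset.sum_smul, mul_smul]
      rw [Finset.sum_comm]
      refine Submodule.sum_mem _ fun χ _ => ?_
      rw [← Finset.smul_sum]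
      refine Submodule.smul_mem _ _ ?_
      by_cases hχ : classInner (Cfsg.fixedPointCharacter P.B) (χ : G → ℂ) = 0
      · have := hzero χ hχ
        rw [xiM] at this
        rw [this]
        exact Submodule.zero_mem _
      · exact Submodule.subset_span ⟨⟨χ, hχ⟩, rfl⟩
    · rintro _ ⟨χ, rfl⟩
      have hcl : IsClassFunction G fun g => conj ((χ.1 : G → ℂ) g) := fun g h => by
        show conj _ = conj _
        rw [irr_isClassFunction χ.1 g h]
      obtain ⟨x, hx⟩ := exists_rho_of_comm P (piM_comm_xiM P hcl)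
      refine ⟨x, ?_, hx.symm⟩
      rw [SetLike.mem_coe, LinearMap.mem_ker, Matrix.mulVecLin_apply, L.mem_ker_iff]
      intro s
      rw [← hx, xiM, Finset.mul_sum, Finset.sum_mul]
      refine Finset.sum_congr rfl fun g _ => ?_
      rw [mul_smul_comm, smul_mul_assoc, ← rho_bv, rho_comm_piM]
  rw [← E.finrank_center hM L.q_pos, (Submodule.equivMapOfInjective (rhoL P) (rho_injective P)
    (LinearMap.ker (E.MAd (q : ℂ)).mulVecLin)).finrank_eq, himage,
    finrank_span_eq_card hind, Nat.card_eq_fintype_card]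

omit L in
theorem constituent_iff (χ : IrrCharacter G) :
    (∃ φ : G → ℂ, Cfsg.IsCharacter G φ ∧
      Cfsg.fixedPointCharacter P.B = (χ : G → ℂ) + φ) ↔
      classInner (Cfsg.fixedPointCharacter P.B) (χ : G → ℂ) ≠ 0 := by
  have hπ : IsCharacter G (Cfsg.fixedPointCharacter P.B) := isCharacter_permChar (G := G) (G ⧸ P.B)
  constructor
  · rintro ⟨φ, hφ, he⟩
    obtain ⟨k, hk⟩ := IsCharacter.exists_classInner_nat hφ (irr_isCharacter χ)
    rw [he, classInner_add_left, IsIrrCharacter.classInner_self χ.2, hk]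
    have h : ((1 + k : ℕ) : ℂ) ≠ 0 := Nat.cast_ne_zero.2 (by omega)
    simpa using h
  · intro hne
    refine ⟨Cfsg.fixedPointCharacter P.B - (χ : G → ℂ), ?_, by abel⟩
    rw [isCharacter_iff_classInner_nat]
    refine ⟨IsClassFunction.sub (IsCharacter.isClassFunction hπ) (irr_isClassFunction χ),
      fun ψ => ?_⟩
    obtain ⟨k, hk⟩ := IsCharacter.exists_classInner_nat hπ (irr_isCharacter ψ)
    rw [classInner_sub_left, hk, classInner_irr]
    split_ifs with h
    · subst h
      obtain ⟨m, rfl⟩ : ∃ m, k = m + 1 :=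
        Nat.exists_eq_succ_of_ne_zero fun h0 => hne (by rw [hk, h0, Nat.cast_zero])
      exact ⟨m, by push_cast; ring⟩
    · exact ⟨k, sub_zero _⟩

end LieData

end Cfsg.Agent.Lib.BNPair
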