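import Cfsg.Agent.Lib.BNPair.Steinberg
import Cfsg.Agent.Lib.BNPair.LongestSub

/-!
Counting in a finite split (B,N)-pair of characteristic `p`: cells and radicals.
-/

set_option autoImplicit false

namespace Cfsg.Agent.Lib.BNPair

open scoped Classical

variable {G : Type*} [Group G] (P : Cfsg.BNPair G)
variable [hN : ((P.B ⊓ P.N).subgroupOf P.N).Normal]

/-- A finite split (B,N)-pair of characteristic `p` with parameter `q`. -/
structure LieData (p q : ℕ) (U : Subgroup G) : Prop where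
  hp : p.Prime
  q_pow : ∃ f : ℕ, q = p ^ f
  U_le : U ≤ P.B
  U_normal : ∀ b ∈ P.B, ∀ u ∈ U, b * u * b⁻¹ ∈ U
  borel : ∀ b ∈ P.B, ∃ u ∈ U, ∃ h ∈ P.B ⊓ P.N, b = u * h
  sylow : ∃ Q : Sylow p G, (Q : Subgroup G) = U
  torus : ¬ p ∣ Nat.card ↥(P.B ⊓ P.N)
  cell_s : ∀ s : P.S, Nat.card {c : G ⧸ P.B // InCell P (wgen P s) c} = q
  top : ∃ w₀ : Weyl P, (exchangeData P).IsTop w₀ ∧
    ∀ x ∈ P.B, (wrep P w₀)⁻¹ * x * wrep P w₀ ∈ P.B → x ∈ P.N
  radical : ∀ (J : Set P.S) (v : Weyl P), (exchangeData P).RTop J v →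
    ∃ V : Subgroup G, V ≤ U ∧ (∀ a ∈ par P J, ∀ u ∈ V, a * u * a⁻¹ ∈ V) ∧
      ∀ u ∈ U, (wrep P v)⁻¹ * u * wrep P v ∈ P.B → u ∈ V

theorem mem_par_cell {J : Set P.S} {g : G} (hg : g ∈ par P J) :
    ∃ v ∈ (exchangeData P).wsub J, g ∈ cell P v := by
  obtain ⟨v, hv, h⟩ := cell_mul_par P hg ((cell_one P).2 (one_mem P.B))
  exact ⟨v, hv, by simpa using h⟩

theorem inCell_iff {w : Weyl P} {g : G} :
    InCell P w (QuotientGroup.mk g) ↔ g ∈ cell P w :=
  ⟨mem_cell_of_inCell P, fun h => ⟨g, h, rfl⟩⟩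

theorem exists_borel_rep {w : Weyl P} {g : G} (hg : g ∈ cell P w) :
    ∃ a ∈ P.B, ∃ c ∈ P.B, g = a * wrep P w * c := (mem_dc P).1 hg

theorem exists_min_rep {K : Set P.S} {x v : Weyl P} (hv : v ∈ (exchangeData P).wsub K) {h : G}
    (hh : h ∈ cell P (x * v)) : ∃ p ∈ par P K, h * p ∈ cell P x := by
  obtain ⟨nx, rfl⟩ := exists_mk P x
  obtain ⟨nv, rfl⟩ := exists_mk P v
  rw [← QuotientGroup.mk_mul, cell_mk] at hh
  obtain ⟨a, ha, c, hc, rfl⟩ := (mem_dc P).1 hh
  refine ⟨c⁻¹ * (nv : G)⁻¹, mul_mem (B_le_par P K (inv_mem hc))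
    (inv_mem (mem_par_of_cell P hv (mem_cell_mk P nv))), ?_⟩
  rw [cell_mk]
  exact (mem_dc P).2 ⟨a, ha, 1, one_mem _, by push_cast; group⟩

theorem conj_mem_BN {n t : G} (hn : n ∈ P.N) (ht : t ∈ P.B ⊓ P.N) :
    n⁻¹ * t * n ∈ P.B ⊓ P.N :=
  Subgroup.mem_inf.2 ⟨t_conj' P hn ht.1 ht.2, P.N.mul_mem (P.N.mul_mem (P.N.inv_mem hn) ht.2) hn⟩

/-- The elements of `B` conjugated into `B` by a representative. -/
noncomputable def stabB (w : Weyl P) : Subgroup G :=
  P.B ⊓ P.B.comap (MulAut.conj (wrep P w)⁻¹).toMonoidHom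

theorem mem_stabB {w : Weyl P} {x : G} :
    x ∈ stabB P w ↔ x ∈ P.B ∧ (wrep P w)⁻¹ * x * wrep P w ∈ P.B := by
  simp [stabB]

variable [Finite G]

theorem cellFix_one_mul (w : Weyl P) :
    cellFix P 1 w * Nat.card (stabB P w) = Nat.card P.B := by
  have h := cellFix_eq P (n := (Quotient.out w : P.N)) (H := stabB P w)
    (fun x hx => by
      rw [mem_stabB]
      exact ⟨fun h => h.2, fun h => ⟨hx, h⟩⟩) 1
  rw [show (QuotientGroup.mk (Quotient.out w : P.N) : Weyl P) = w from Quotient.out_eq w,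
    OneMemClass.coe_one, Cfsg.fixedPointCharacter, Nat.cast_inj] at h
  have hh : Nat.card (MulAction.fixedBy (P.B ⧸ (stabB P w).subgroupOf P.B) (1 : P.B)) =
      Nat.card (P.B ⧸ (stabB P w).subgroupOf P.B) :=
    Nat.card_congr (Equiv.subtypeUnivEquiv fun q => one_smul _ q)
  rw [h, hh, ← Nat.card_congr (Subgroup.subgroupOfEquivOfLe (show stabB P w ≤ P.B from inf_le_left)).toEquiv]
  exact (Subgroup.card_eq_card_quotient_mul_card_subgroup _).symm

theorem card_cell_step (s : P.S) (w' : Weyl P)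
    (hadd : (exchangeData P).len ((exchangeData P).gen s * w') =
        (exchangeData P).len ((exchangeData P).gen s) + (exchangeData P).len w') :
    Nat.card {c : G ⧸ P.B // InCell P ((exchangeData P).gen s * w') c} =
      Nat.card {c : G ⧸ P.B // InCell P (wgen P s) c} * Nat.card {d : G ⧸ P.B // InCell P w' d} := by
  rw [← Nat.card_prod]
  have hout : ∀ c : {c : G ⧸ P.B // InCell P (wgen P s) c}, c.1.out ∈ cell P (wgen P s) :=
    fun c => mem_cell_of_inCell P (by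
      rw [show (QuotientGroup.mk c.1.out : G ⧸ P.B) = c.1 from Quotient.out_eq _]; exact c.2)
  refine (Nat.card_congr (Equiv.ofBijective
    (fun cd : {c : G ⧸ P.B // InCell P (wgen P s) c} × {d : G ⧸ P.B // InCell P w' d} =>
      (⟨cd.1.1.out • cd.2.1, ?_⟩ : {c : G ⧸ P.B // InCell P ((exchangeData P).gen s * w') c}))
    ?_)).symm
  · obtain ⟨⟨c, hc⟩, d, g, hg, rfl⟩ := cd
    exact ⟨c.out * g, cell_mul P hadd (hout ⟨c, hc⟩) hg, rfl⟩
  constructor
  · rintro ⟨⟨c, hc⟩, d, g, hg, rfl⟩ ⟨⟨c', hc'⟩, d', g', hg', rfl⟩ h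
    have hB : (c.out * g)⁻¹ * (c'.out * g') ∈ P.B := QuotientGroup.eq.1 (congrArg Subtype.val h)
    obtain ⟨a, ha, b, hb, hab⟩ := exists_borel_rep P (hout ⟨c, hc⟩)
    obtain ⟨a', ha', b', hb', hab'⟩ := exists_borel_rep P (hout ⟨c', hc'⟩)
    obtain ⟨n, hn⟩ := exists_mk P (wgen P s)
    have hsn : wrep P (wgen P s) ∈ cell P (wgen P s) := wrep_mem_cell P _
    have hg'' : g' ∈ cell P w' := hg'
    have hkey : c.out⁻¹ * c'.out ∈ P.B := by
      by_contra hnot
      have hsJ : wgen P s ∈ (exchangeData P).wsub {s} :=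
        (exchangeData P).gen_mem_wsub (Set.mem_singleton s)
      have hJ : c.out⁻¹ * c'.out ∈ par P {s} :=
        mul_mem (inv_mem (mem_par_of_cell P hsJ (hout ⟨c, hc⟩)))
          (mem_par_of_cell P hsJ (hout ⟨c', hc'⟩))
      obtain ⟨v, hv, hcv⟩ := mem_par_cell P hJ
      obtain ⟨κ, hκ, hve, hκs⟩ := (exchangeData P).exists_red_of_mem_wsub hv
      have hcases : v = 1 ∨ v = wgen P s := by
        match κ, hκ, hve, hκs with
        | [], _, hve, _ => exact Or.inl hve.symm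
        | [i], _, hve, hκs =>
          obtain rfl : i = s := hκs i (by simp)
          exact Or.inr (by rw [← hve]; simp [ExchangeData.pw]; rfl)
        | i :: j :: κ, hκ, _, hκs =>
          obtain rfl : i = s := hκs i (by simp)
          obtain rfl : j = i := hκs j (by simp)
          exact absurd hκ ((exchangeData P).not_red_double _ _)
      rcases hcases with rfl | rfl
      · exact hnot ((cell_one P).1 hcv)
      · have h3 := cell_mul P hadd hcv hg''
        have e : g = c.out⁻¹ * c'.out * g' * ((c.out * g)⁻¹ * (c'.out * g'))⁻¹ := by group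
        have h4 : g ∈ cell P ((exchangeData P).gen s * w') := by
          rw [e]; exact cell_mul_right P (inv_mem hB) h3
        have h5 := cell_inj P hg h4
        rw [eq_comm, mul_eq_right] at h5
        exact (exchangeData P).ne_one s h5
    have hcc : c = c' := by
      rw [← Quotient.out_eq c, ← Quotient.out_eq c']
      exact QuotientGroup.eq.2 hkey
    subst hcc
    have : (QuotientGroup.mk g : G ⧸ P.B) = QuotientGroup.mk g' := by
      refine QuotientGroup.eq.2 ?_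
      have e : (c.out * g)⁻¹ * (c.out * g') = g⁻¹ * g' := by group
      rwa [← e]
    exact Prod.ext rfl (Subtype.ext this)
  · rintro ⟨_, g, hg, rfl⟩
    obtain ⟨n, hn⟩ := exists_mk P w'
    have hg' := hg
    rw [← hn] at hg'
    change g ∈ cell P (wgen P s * QuotientGroup.mk n) at hg'
    rw [wgen, ← QuotientGroup.mk_mul, cell_mk] at hg'
    obtain ⟨a, ha, b, hb, rfl⟩ := (mem_dc P).1 hg'
    have hcs : a * (s : G) ∈ cell P (wgen P s) :=
      cell_mul_left P ha (mem_cell_mk P ⟨(s : G), P.subset s.2⟩)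
    set c : G ⧸ P.B := QuotientGroup.mk (a * (s : G)) with hc
    have hmem : (a * (s : G))⁻¹ * c.out ∈ P.B :=
      QuotientGroup.eq.1 (Quotient.out_eq c).symm
    refine ⟨(⟨c, a * (s : G), hcs, rfl⟩, ⟨QuotientGroup.mk
      (((a * (s : G))⁻¹ * c.out)⁻¹ * (n : G) * b), _, ?_, rfl⟩), Subtype.ext ?_⟩
    · exact cell_mul_right P hb (cell_mul_left P (inv_mem hmem) (hn ▸ mem_cell_mk P n))
    · show (QuotientGroup.mk (c.out * (((a * (s : G))⁻¹ * c.out)⁻¹ * (n : G) * b)) : G ⧸ P.B) = _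
      congr 1
      show _ = a * ((⟨(s : G), P.subset s.2⟩ : P.N) * n : P.N) * b
      push_cast
      group

namespace LieData

variable {P} {p q : ℕ} {U : Subgroup G} (L : LieData P p q U)
include L

omit [Finite G] in
theorem q_pos : 0 < q := by
  obtain ⟨f, rfl⟩ := L.q_pow
  exact pow_pos L.hp.pos f

theorem card_cell : ∀ (k : ℕ) (w : Weyl P), (exchangeData P).len w = k →
    Nat.card {c : G ⧸ P.B // InCell P w c} = q ^ k := by
  intro k
  induction k with
  | zero =>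
    intro w hk
    obtain rfl := (exchangeData P).eq_one_of_len_eq_zero hk
    rw [pow_zero, Nat.card_eq_one_iff_unique]
    refine ⟨⟨?_⟩, ⟨⟨QuotientGroup.mk 1, ⟨1, (cell_one P).2 (one_mem _), rfl⟩⟩⟩⟩
    rintro ⟨_, g, hg, rfl⟩ ⟨_, g', hg', rfl⟩
    rw [cell_one] at hg hg'
    exact Subtype.ext (QuotientGroup.eq.2 (mul_mem (inv_mem hg) hg'))
  | succ k ih =>
    intro w hk
    obtain ⟨ω, hω, he⟩ := (exchangeData P).exists_word' w
    cases ω with
    | nil => simp at hω; omega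
    | cons s ω =>
    rw [(exchangeData P).pw_cons] at he
    set w' := (exchangeData P).pw ω with hw'
    subst he
    rw [List.length_cons] at hω
    have h1 : (exchangeData P).len w' ≤ ω.length := (exchangeData P).len_pw_le ω
    have h2 := (exchangeData P).len_gen_mul_le s w'
    have hl : (exchangeData P).len w' = k := by omega
    have hadd : (exchangeData P).len ((exchangeData P).gen s * w') =
        (exchangeData P).len ((exchangeData P).gen s) + (exchangeData P).len w' := by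
      rw [(exchangeData P).len_gen]; omega
    rw [pow_succ', ← ih w' hl]
    nth_rw 1 [← L.cell_s s]
    exact card_cell_step P s w' hadd

theorem cellFix_one (w : Weyl P) : cellFix P 1 w = q ^ (exchangeData P).len w := by
  rw [← L.card_cell _ w rfl, cellFix]
  exact Nat.card_congr (Equiv.subtypeEquivRight fun c => ⟨fun h => h.1, fun h => ⟨h, one_smul _ c⟩⟩)

theorem card_stabB (w : Weyl P) :
    q ^ (exchangeData P).len w * Nat.card (stabB P w) = Nat.card P.B := by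
  rw [← L.cellFix_one, cellFix_one_mul]

theorem isPGroup_U : IsPGroup p U := by
  obtain ⟨Q, hQ⟩ := L.sylow
  exact hQ ▸ Q.isPGroup'

theorem U_inf_torus : U ⊓ (P.B ⊓ P.N) = ⊥ := by
  haveI := Fact.mk L.hp
  obtain ⟨k, hk⟩ := IsPGroup.iff_card.1 L.isPGroup_U
  refine Subgroup.inf_eq_bot_of_coprime ?_
  rw [hk]
  exact Nat.Coprime.pow_left k ((Nat.Prime.coprime_iff_not_dvd L.hp).2 L.torus)

theorem card_split {V R : Subgroup G} (hVU : V ≤ U) (hVR : V ≤ R)
    (hTR : P.B ⊓ P.N ≤ R) (hsplit : ∀ x ∈ R, ∃ u ∈ V, ∃ h ∈ P.B ⊓ P.N, x = u * h) :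
    Nat.card R = Nat.card V * Nat.card ↥(P.B ⊓ P.N) := by
  rw [← Nat.card_prod]
  refine (Nat.card_congr (Equiv.ofBijective
    (fun uh : V × ↥(P.B ⊓ P.N) => (⟨uh.1 * uh.2, mul_mem (hVR uh.1.2) (hTR uh.2.2)⟩ : R))
    ⟨?_, ?_⟩)).symm
  · rintro ⟨u, h⟩ ⟨u', h'⟩ e
    have e' : (u : G) * h = u' * h' := congrArg Subtype.val e
    have h1 : (u' : G)⁻¹ * u = h' * (h : G)⁻¹ := by
      rw [eq_mul_inv_iff_mul_eq, mul_assoc, e', inv_mul_cancel_left]
    have h3 : (h' : G) * (h : G)⁻¹ ∈ P.B ⊓ P.N := mul_mem h'.2 (inv_mem h.2)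
    rw [← h1] at h3
    have h2 : (u' : G)⁻¹ * u ∈ U ⊓ (P.B ⊓ P.N) :=
      Subgroup.mem_inf.2 ⟨hVU (mul_mem (inv_mem u'.2) u.2), h3⟩
    rw [L.U_inf_torus, Subgroup.mem_bot] at h2
    have hu : u = u' := Subtype.ext (inv_mul_eq_one.1 h2).symm
    subst hu
    exact Prod.ext rfl (Subtype.ext (mul_left_cancel e'))
  · rintro ⟨x, hx⟩
    obtain ⟨u, hu, h, hh, rfl⟩ := hsplit x hx
    exact ⟨(⟨u, hu⟩, ⟨h, hh⟩), rfl⟩

/-- The number of positive roots. -/
noncomputable def topLen : ℕ :=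
  (exchangeData P).len L.top.choose

theorem topLen_eq {w₀ : Weyl P} (h : (exchangeData P).IsTop w₀) :
    (exchangeData P).len w₀ = L.topLen :=
  congrArg _ ((exchangeData P).top_unique h L.top.choose_spec.1)

theorem card_B : Nat.card P.B = Nat.card U * Nat.card ↥(P.B ⊓ P.N) :=
  L.card_split le_rfl L.U_le inf_le_left fun x hx => L.borel x hx

theorem card_U : Nat.card U = q ^ L.topLen := by
  obtain ⟨w₀, h₀, hst⟩ := L.top
  have e : stabB P w₀ = P.B ⊓ P.N := by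
    ext x
    rw [mem_stabB]
    exact ⟨fun h => ⟨h.1, hst x h.1 h.2⟩,
      fun h => ⟨h.1, (conj_mem_BN P (wrep_mem P w₀) h).1⟩⟩
  have h1 := L.card_stabB w₀
  rw [e, L.card_B, L.topLen_eq h₀] at h1
  exact (Nat.eq_of_mul_eq_mul_right Nat.card_pos h1).symm

theorem exists_radical {J : Set P.S} {v : Weyl P} (hv : (exchangeData P).RTop J v) :
    ∃ V : Subgroup G, V ≤ U ∧ (∀ a ∈ par P J, ∀ u ∈ V, a * u * a⁻¹ ∈ V) ∧
      (∀ u ∈ U, (wrep P v)⁻¹ * u * wrep P v ∈ P.B ↔ u ∈ V) ∧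
      Nat.card V * q ^ (exchangeData P).len v = q ^ L.topLen := by
  obtain ⟨V, hVU, hnorm, hin⟩ := L.radical J v hv
  have hvJ : wrep P v ∈ par P J := mem_par_of_cell P hv.1 (wrep_mem_cell P v)
  have hback : ∀ u ∈ V, (wrep P v)⁻¹ * u * wrep P v ∈ P.B := fun u hu => by
    have := hnorm _ (inv_mem hvJ) u hu
    rw [inv_inv] at this
    exact L.U_le (hVU this)
  refine ⟨V, hVU, hnorm, fun u hu => ⟨hin u hu, hback u⟩, ?_⟩
  have h1 := L.card_stabB v
  have h2 : Nat.card (stabB P v) = Nat.card V * Nat.card ↥(P.B ⊓ P.N) := by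
    refine L.card_split hVU (fun u hu => (mem_stabB P).2 ⟨L.U_le (hVU hu), hback u hu⟩)
      (fun t ht => (mem_stabB P).2 ⟨ht.1, (conj_mem_BN P (wrep_mem P v) ht).1⟩) fun x hx => ?_
    obtain ⟨hxB, hx'⟩ := (mem_stabB P).1 hx
    obtain ⟨u, hu, t, ht, rfl⟩ := L.borel x hxB
    refine ⟨u, hin u hu ?_, t, ht, rfl⟩
    have e : (wrep P v)⁻¹ * u * wrep P v =
        ((wrep P v)⁻¹ * (u * t) * wrep P v) * ((wrep P v)⁻¹ * t * wrep P v)⁻¹ := by group
    rw [e]
    exact mul_mem hx' (inv_mem (conj_mem_BN P (wrep_mem P v) ht).1)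
  rw [h2, L.card_B, L.card_U, ← mul_assoc] at h1
  rw [mul_comm]
  exact Nat.eq_of_mul_eq_mul_right Nat.card_pos h1

theorem exists_conj_mem_U (J : Set P.S) {g : G} (hg : g ∈ par P J) {k : ℕ}
    (hord : orderOf g = p ^ k) : ∃ y ∈ par P J, y * g * y⁻¹ ∈ U := by
  haveI := Fact.mk L.hp
  obtain ⟨Q, hQ⟩ := L.sylow
  have hQJ : (Q : Subgroup G) ≤ par P J := hQ ▸ L.U_le.trans (B_le_par P J)
  have hzp : IsPGroup p (Subgroup.zpowers (⟨g, hg⟩ : par P J)) :=
    IsPGroup.of_card (n := k) (by rw [Nat.card_zpowers, Subgroup.orderOf_mk, hord])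
  obtain ⟨Q', hQ'⟩ := hzp.exists_le_sylow
  obtain ⟨y, hy⟩ := MulAction.exists_smul_eq (par P J) Q' (Q.subtype hQJ)
  refine ⟨y, y.2, ?_⟩
  have h1 : y * ⟨g, hg⟩ * y⁻¹ ∈ ((y • Q' : Sylow p (par P J)) : Subgroup (par P J)) :=
    ⟨⟨g, hg⟩, hQ' (Subgroup.mem_zpowers _), rfl⟩
  rw [hy] at h1
  exact hQ ▸ h1

end LieData

end Cfsg.Agent.Lib.BNPair
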