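import Mathlib
import Cfsg.Agent.Lib.BNPair.Basic

/-!
Tits' simplicity criterion and (B,N)-pairs of rank one from doubly transitive actions.
-/

set_option autoImplicit false

namespace Cfsg.Agent.Lib.BNPair

open scoped Pointwise

variable {G : Type*} [Group G] (P : Cfsg.BNPair G)

theorem len_s_mul_word {J : Set G} (hJ : J ⊆ P.S) {t : G} (ht : t ∈ P.S) (htJ : t ∉ J)
    {w : List G} (hw : IsWord J w) (hl : len P w.prod = w.length) :
    len P (t * w.prod) = w.length + 1 := by
  have hwS : IsWord P.S w := fun x hx => hJ (hw x hx)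
  have h1 := len_s_mul_le P ht (word_mem P hwS)
  have h2 := len_s_mul_ne P ht (word_mem P hwS)
  by_contra hne
  obtain ⟨i, hi, hc⟩ := exchange P w hwS hl ht (by omega)
  apply htJ
  refine mem_of_mem_parabolic P hJ ht ?_
  have hmem : ∀ v : List G, IsWord J v → v.prod ∈ P.parabolic J := fun v hv =>
    list_prod_mem fun x hx => subset_parabolic P J (hv x hx)
  have h3 := hmem _ (fun x hx => hw x ((List.eraseIdx_sublist w i).mem hx))
  have h4 := B_le_parabolic P J hc
  have e : t = (w.eraseIdx i).prod * ((t * w.prod)⁻¹ * (w.eraseIdx i).prod)⁻¹ * w.prod⁻¹ := by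
    group
  rw [e]
  exact mul_mem (mul_mem h3 (inv_mem h4)) (inv_mem (hmem w hw))

theorem cong_comm_of_normal {H : Subgroup G} [H.Normal] {J : Set G} (hJ : J ⊆ P.S)
    (hHJ : (P.B ⊔ H : Subgroup G) = P.parabolic J) {s t : G} (hs : s ∈ J) (ht : t ∈ P.S)
    (htJ : t ∉ J) : Cong P (s * t) (t * s) := by
  have hsS := hJ hs
  have hsJ : s ∈ P.B ⊔ H := by rw [hHJ]; exact subset_parabolic P J hs
  rw [← SetLike.mem_coe, Subgroup.mul_normal] at hsJ
  obtain ⟨b, hb, h, hh, he⟩ := Set.mem_mul.1 hsJ
  have hconj : t * (s⁻¹ * b) * t⁻¹ ∈ P.parabolic J := by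
    rw [← hHJ]
    refine Subgroup.mem_sup_right ?_
    have e : s⁻¹ * b = h⁻¹ := by rw [← he]; group
    rw [e]
    exact Subgroup.Normal.conj_mem inferInstance _ (inv_mem hh) t
  set b' := (s * s)⁻¹ * b with hb'
  have hb'B : b' ∈ P.B := mul_mem (inv_mem (P.sq_mem s hsS)) hb
  have hts : t * s ∈ P.N := mul_mem (s_mem P ht) (s_mem P hsS)
  have e : t * (s⁻¹ * b) * t⁻¹ = t * s * b' * t⁻¹ := by rw [hb']; group
  rw [e] at hconj
  have hlen1 : len P (t * s) = 2 := by
    simpa using len_s_mul_word P hJ ht htJ (w := [s]) (fun x hx => by simp at hx; exact hx ▸ hs)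
      (by simpa using len_s P hsS)
  rcases mem_union_right P ht hts hb'B with h' | h'
  swap
  · exfalso
    obtain ⟨n, hn, hn'⟩ := exists_mem_dc_of_mem_parabolic P hJ hconj
    have hcc := cong_of_mem_dc P ((Subgroup.closure_le _).2 (hJ.trans P.subset) hn) hts hn' h'
    have h5 : t * s ∈ P.parabolic J := by
      have := mul_mem (Subgroup.mem_sup_right (S := P.B) hn : n ∈ P.parabolic J)
        (B_le_parabolic P J hcc)
      have e9 : n * (n⁻¹ * (t * s)) = t * s := by group
      rwa [e9] at this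
    rw [Subgroup.mul_mem_cancel_right _ (subset_parabolic P J hs)] at h5
    exact htJ (mem_of_mem_parabolic P hJ ht h5)
  -- `t s t` lies in the Weyl group of `J`
  obtain ⟨n, hn, hn'⟩ := exists_mem_dc_of_mem_parabolic P hJ hconj
  obtain ⟨hnN, w, hw, hc⟩ := exists_word_of_mem_closure P hJ hn
  obtain ⟨v, hsub, hlv, hcv⟩ := exists_reduced_sublist P (fun x hx => hJ (hw x hx))
  have hvJ : IsWord J v := fun x hx => hw x (hsub.mem hx)
  have hvS : IsWord P.S v := fun x hx => hJ (hvJ x hx)
  have htst : t * s * t ∈ P.N := mul_mem hts (s_mem P ht)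
  have hcv' : Cong P v.prod (t * s * t) :=
    cong_trans P hcv (cong_trans P hc (cong_of_mem_dc P hnN htst hn' h'))
  have hlv' : len P v.prod = v.length := by rw [len_congr P hcv, hlv]
  have h6 : Cong P (t * v.prod) (s * t) := by
    refine cong_trans P (cong_left P t hcv') ?_
    have := cong_ssn P ht (mul_mem (s_mem P hsS) (s_mem P ht))
    simpa [mul_assoc] using this
  have h7 := len_s_mul_word P hJ ht htJ hvJ hlv'
  rw [len_congr P h6] at h7
  have hlen2 : len P (s * t) ≤ 2 := by
    have := len_s_mul_le P hsS (s_mem P ht)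
    rw [len_s P ht] at this
    exact this
  have hv1 : v.length ≤ 1 := by omega
  rcases Nat.le_one_iff_eq_zero_or_eq_one.1 hv1 with h0 | h1'
  · exfalso
    rw [List.length_eq_zero_iff] at h0
    subst h0
    simp only [List.prod_nil, mul_one, List.length_nil, zero_add] at h6 h7
    have hts' : Cong P (s * t) t := cong_symm P h6
    have := cong_right P (mul_mem (s_mem P hsS) (s_mem P ht)) (s_mem P ht) (inv_mem (s_mem P ht)) hts'
    simp only [mul_inv_cancel_right, mul_inv_cancel] at this
    exact s_not_mem P hsS (by simpa [Cong] using inv_mem this)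
  obtain ⟨j, rfl⟩ := List.length_eq_one_iff.1 h1'
  simp only [List.prod_singleton] at hcv' h6
  have hj : j ∈ J := hvJ j (by simp)
  -- j = s
  have hpar : s ∈ P.parabolic {t, j} := by
    have h8 : Cong P (t * j * t) s := by
      have h9 := cong_right P (mul_mem (s_mem P ht) (s_mem P (hJ hj)))
        (mul_mem (s_mem P hsS) (s_mem P ht)) (s_mem P ht) h6
      refine cong_trans P h9 ?_
      rw [mul_assoc]
      exact cong_nss P ht
    have hts2 : t ∈ P.parabolic {t, j} := subset_parabolic P _ (by simp)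
    have := mul_mem (mul_mem (mul_mem hts2 (subset_parabolic P {t, j} (show j ∈ ({t, j} : Set G) by simp))) hts2)
      (B_le_parabolic P _ h8)
    have e9 : t * j * t * ((t * j * t)⁻¹ * s) = s := by group
    rwa [e9] at this
  rcases mem_of_mem_parabolic P (Set.insert_subset ht (Set.singleton_subset_iff.2 (hJ hj))) hsS hpar
    with h9 | h9
  · exact absurd (h9 ▸ hs) htJ
  · rw [Set.mem_singleton_iff] at h9
    subst h9
    exact cong_symm P h6

/-- Tits' simplicity criterion. -/
theorem simple_of_criterion [Nontrivial G] (hirr : P.Irreducible) (hsolv : Group.IsSolvable P.B)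
    (hperf : commutator G = ⊤) (hcore : P.B.normalCore = ⊥) : IsSimpleGroup G := by
  refine ⟨fun H hH => ?_⟩
  have hJ := eq_parabolic P (M := P.B ⊔ H) le_sup_left
  set J := {x ∈ P.S | x ∈ P.B ⊔ H} with hJdef
  have hJS : J ⊆ P.S := fun x hx => hx.1
  have hcomm : ∀ s ∈ J, ∀ t ∈ P.S \ J, Cong P (s * t) (t * s) := fun s hs t ht =>
    cong_comm_of_normal P hJS hJ hs ht.1 ht.2
  rcases J.eq_empty_or_nonempty with h0 | hne
  · left
    rw [h0, Cfsg.BNPair.parabolic, Subgroup.closure_empty, sup_bot_eq] at hJ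
    have : H ≤ P.B.normalCore := Subgroup.normal_le_normalCore.2 (hJ ▸ le_sup_right)
    rw [hcore] at this
    exact le_bot_iff.1 this
  · right
    have hall : P.S \ J = ∅ := by
      by_contra hne'
      obtain ⟨s, hs, t, ht, hnot⟩ := hirr J hJS hne (Set.nonempty_iff_ne_empty.2 hne')
      apply hnot
      have hN : ∀ {x}, x ∈ P.S → x ∈ P.N := fun h => s_mem P h
      have h := hcomm s hs t ht
      have h1 : (t * s)⁻¹ * (s * t) ∈ P.B := cong_symm P h
      have h2 := t_conj P (mul_mem (hN ht.1) (hN (hJS hs))) h1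
        (mul_mem (inv_mem (mul_mem (hN ht.1) (hN (hJS hs)))) (mul_mem (hN (hJS hs)) (hN ht.1)))
      simpa [mul_assoc] using h2
    have hJeq : J = P.S := Set.Subset.antisymm hJS (Set.sdiff_eq_empty.1 hall)
    rw [hJeq, parabolic_S] at hJ
    -- `G / H` is solvable and perfect
    have hsurj : Function.Surjective ((QuotientGroup.mk' H).comp P.B.subtype) := by
      intro q
      induction q using QuotientGroup.induction_on with
      | _ g =>
      have hg : g ∈ P.B ⊔ H := by rw [hJ]; trivial
      rw [← SetLike.mem_coe, Subgroup.mul_normal] at hg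
      obtain ⟨b, hb, h, hh, rfl⟩ := Set.mem_mul.1 hg
      refine ⟨⟨b, hb⟩, ?_⟩
      exact QuotientGroup.eq.2 (by simpa using hh)
    have : Group.IsSolvable (G ⧸ H) := Group.isSolvable_of_surjective hsurj
    by_contra hne2
    have hperfq : commutator (G ⧸ H) = ⊤ := by
      rw [commutator_def, ← Subgroup.map_top_of_surjective _ (QuotientGroup.mk'_surjective H),
        ← Subgroup.map_commutator, ← commutator_def, hperf]
    have hnt : Nontrivial (G ⧸ H) := QuotientGroup.nontrivial_iff.2 hne2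
    exact (Group.IsSolvable.commutator_lt_top_of_nontrivial (G ⧸ H)).ne hperfq

/-- A doubly transitive action on at least three points gives a (B,N)-pair of rank one. -/
theorem exists_of_two_transitive {Ω : Type*} [MulAction G Ω]
    (h2 : MulAction.IsMultiplyPretransitive G Ω 2) {x y z : Ω} (hxy : x ≠ y) (hyz : y ≠ z)
    (hxz : x ≠ z) :
    ∃ P : Cfsg.BNPair G, P.B = MulAction.stabilizer G x ∧
      P.N = MulAction.stabilizer G ({x, y} : Set Ω) ∧ P.rank = 1 := by
  rw [MulAction.is_two_pretransitive_iff] at h2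
  obtain ⟨s, hsx, hsy⟩ := h2 hxy hxy.symm
  set B := MulAction.stabilizer G x with hB
  set N := MulAction.stabilizer G ({x, y} : Set Ω) with hN
  have hN' : ∀ n : G, n ∈ N ↔ (n • x = x ∧ n • y = y) ∨ (n • x = y ∧ n • y = x) := by
    intro n
    rw [hN, MulAction.mem_stabilizer_iff, Set.smul_set_insert, Set.smul_set_singleton, Set.pair_eq_pair_iff]
  have hsN : s ∈ N := (hN' s).2 (Or.inr ⟨hsx, hsy⟩)
  have hdec : ∀ g : G, g ∈ B ∨ g ∈ DoubleCoset.doubleCoset s (B : Set G) B := by
    intro g
    by_cases hg : g • x = x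
    · exact Or.inl hg
    right
    obtain ⟨b, hbx, hby⟩ := h2 hxy (Ne.symm hg : x ≠ g • x)
    refine DoubleCoset.mem_doubleCoset.2 ⟨b, hbx, (b * s)⁻¹ * g, ?_, by group⟩
    rw [SetLike.mem_coe, hB, MulAction.mem_stabilizer_iff, mul_smul, inv_smul_eq_iff, mul_smul,
      hsx, hby]
  have hsq : s * s ∈ B := by
    rw [hB, MulAction.mem_stabilizer_iff, mul_smul, hsx, hsy]
  have hmemu : ∀ n ∈ N, ∀ b ∈ B, s * b * n ∈
      DoubleCoset.doubleCoset (s * n) (B : Set G) B ∪ DoubleCoset.doubleCoset n (B : Set G) B := by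
    intro n hn b hb
    rcases (hN' n).1 hn with ⟨hnx, -⟩ | ⟨hnx, -⟩
    · refine Or.inl (DoubleCoset.mem_doubleCoset.2
        ⟨1, one_mem _, n⁻¹ * b * n, mul_mem (mul_mem (inv_mem hnx) hb) hnx, by group⟩)
    · rcases hdec (s * b * n) with h | h
      · left
        refine DoubleCoset.mem_doubleCoset.2 ⟨(s * b * n), h, (s * n)⁻¹, inv_mem ?_, by group⟩
        rw [hB, MulAction.mem_stabilizer_iff, mul_smul, hnx, hsy]
      · right
        have hns : n⁻¹ * s ∈ B := by
          rw [hB, MulAction.mem_stabilizer_iff, mul_smul, hsx, inv_smul_eq_iff, hnx]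
        have e : DoubleCoset.doubleCoset n (B : Set G) B = DoubleCoset.doubleCoset s (B : Set G) B :=
          (DoubleCoset.doubleCoset_eq_of_mem
            (DoubleCoset.mem_doubleCoset.2 ⟨1, one_mem _, n⁻¹ * s, hns, by group⟩)).symm
        rw [e]; exact h
  refine ⟨{
    B := B
    N := N
    S := {s}
    sup_eq_top := ?_
    conj_mem := ?_
    subset := Set.singleton_subset_iff.2 hsN
    sq_mem := by rintro _ rfl; exact hsq
    inj := by rintro _ rfl _ rfl _; rfl
    closure_sup := ?_
    mul_mem_union := by rintro _ rfl; exact hmemu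
    conj_ne := ?_ }, rfl, rfl, ?_⟩
  · rw [eq_top_iff]
    intro g _
    rcases hdec g with h | h
    · exact Subgroup.mem_sup_left h
    · obtain ⟨a, ha, c, hc, rfl⟩ := DoubleCoset.mem_doubleCoset.1 h
      exact mul_mem (mul_mem (Subgroup.mem_sup_left ha) (Subgroup.mem_sup_right hsN))
        (Subgroup.mem_sup_left hc)
  · intro n hn t ht
    have hx : t • x = x := ht.1
    have hy : t • y = y := by
      rcases (hN' t).1 ht.2 with ⟨-, h⟩ | ⟨h, -⟩
      · exact h
      · exact absurd (hx.symm.trans h) hxy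
    rw [hB, MulAction.mem_stabilizer_iff, mul_smul, mul_smul]
    rcases (hN' n⁻¹).1 (inv_mem hn) with ⟨h, -⟩ | ⟨h, -⟩ <;> rw [h]
    · rw [hx, ← eq_inv_smul_iff, h]
    · rw [hy, ← eq_inv_smul_iff, h]
  · apply le_antisymm
    · exact sup_le ((Subgroup.closure_le _).2 (Set.singleton_subset_iff.2 hsN)) inf_le_right
    · intro n hn
      rcases (hN' n).1 hn with ⟨h, -⟩ | ⟨h, -⟩
      · exact Subgroup.mem_sup_right ⟨h, hn⟩
      · have hns : s⁻¹ * n ∈ B ⊓ N := by
          refine Subgroup.mem_inf.2 ⟨?_, mul_mem (inv_mem hsN) hn⟩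
          rw [hB, MulAction.mem_stabilizer_iff, mul_smul, h, inv_smul_eq_iff, hsx]
        have h1 : s ∈ Subgroup.closure {s} := Subgroup.subset_closure (Set.mem_singleton s)
        have h2' : s * (s⁻¹ * n) ∈ Subgroup.closure {s} ⊔ B ⊓ N :=
          Subgroup.mul_mem _ (Subgroup.mem_sup_left h1) (Subgroup.mem_sup_right hns)
        rwa [mul_inv_cancel_left] at h2'
  · intro s' hs' h
    rw [Set.mem_singleton_iff] at hs'
    rw [hs'] at h
    obtain ⟨b, hbx, hby⟩ := h2 hxy hxz
    have hmem : s * b * s ∈ B := by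
      rw [← SetLike.mem_coe, ← h]
      exact ⟨b, hbx, rfl⟩
    rw [hB, MulAction.mem_stabilizer_iff, mul_smul, mul_smul, hsx, hby, ← hsy] at hmem
    exact hyz (MulAction.injective s hmem).symm
  · show Nat.card ({s} : Set G) = 1
    simp

end Cfsg.Agent.Lib.BNPair
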