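import Cfsg.Agent.Lib.BNPair.UnipotentCount
import Cfsg.Agent.Lib.Characters.Values
import Cfsg.Agent.Lib.Coprime.Action

/-!
The values of the Steinberg character at the semisimple elements.
-/

set_option autoImplicit false

namespace Cfsg.Agent.Lib.BNPair

open scoped Classical

theorem sum_alt_interval {α : Type*} [Fintype α] (A B : Finset α) (hAB : A ⊆ B)
    [Decidable (A = B)] [∀ K : Finset α, Decidable (A ⊆ K ∧ K ⊆ B)] :
    ∑ K : Finset α, (-1 : ℤ) ^ K.card * (if A ⊆ K ∧ K ⊆ B then 1 else 0) =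
      if A = B then (-1 : ℤ) ^ A.card else 0 := by
  have hfil : (Finset.univ : Finset (Finset α)).filter (fun K => A ⊆ K ∧ K ⊆ B) =
      ((B \ A).powerset).image (A ∪ ·) := by
    ext K
    simp only [Finset.mem_filter, Finset.mem_univ, true_and, Finset.mem_image, Finset.mem_powerset]
    constructor
    · rintro ⟨hA, hB⟩
      exact ⟨K \ A, Finset.sdiff_subset_sdiff hB le_rfl, Finset.union_sdiff_of_subset hA⟩
    · rintro ⟨L, hL, rfl⟩
      exact ⟨Finset.subset_union_left,
        Finset.union_subset hAB (hL.trans Finset.sdiff_subset)⟩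
  have hinj : Set.InjOn (fun L => A ∪ L) ↑((B \ A).powerset) := by
    intro L hL L' hL' h
    have hd : ∀ M ∈ (↑((B \ A).powerset) : Set (Finset α)), (A ∪ M) \ A = M := fun M hM => by
      rw [Finset.union_sdiff_left, Finset.sdiff_eq_self_iff_disjoint]
      exact Finset.disjoint_of_subset_left (Finset.mem_powerset.1 hM) Finset.sdiff_disjoint
    have h2 := congrArg (· \ A) h
    simp only [hd L hL, hd L' hL'] at h2
    exact h2
  simp only [mul_ite, mul_one, mul_zero]
  rw [← Finset.sum_filter, hfil, Finset.sum_image hinj]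
  have e : ∀ L ∈ (B \ A).powerset, (-1 : ℤ) ^ (A ∪ L).card = (-1) ^ A.card * (-1) ^ L.card := by
    intro L hL
    rw [← pow_add, Finset.card_union_of_disjoint]
    exact Finset.disjoint_of_subset_right (Finset.mem_powerset.1 hL) Finset.disjoint_sdiff
  rw [Finset.sum_congr rfl e, ← Finset.mul_sum, Finset.sum_powerset_neg_one_pow_card]
  have hiff : B \ A = ∅ ↔ A = B := by
    rw [Finset.sdiff_eq_empty_iff_subset]
    exact ⟨fun h => le_antisymm hAB h, fun h => h ▸ le_rfl⟩
  simp only [hiff]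
  split_ifs <;> simp

variable {G : Type*} [Group G] (P : Cfsg.BNPair G)
variable [hN : ((P.B ⊓ P.N).subgroupOf P.N).Normal]

/-- The alternating fixed point count as an integer. -/
noncomputable def steinZ [Fintype P.S] (g : G) : ℤ :=
  ∑ K : Finset P.S, (-1 : ℤ) ^ K.card *
    (Nat.card (MulAction.fixedBy (G ⧸ par P (↑K : Set P.S)) g) : ℤ)

omit hN in
theorem stein_eq_steinZ [Fintype P.S] (g : G) : stein P g = (steinZ P g : ℂ) := by
  simp [stein, steinZ, Cfsg.fixedPointCharacter]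

omit hN in
theorem steinZ_conj [Fintype P.S] (y g : G) : steinZ P (y * g * y⁻¹) = steinZ P g := by
  unfold steinZ
  refine Finset.sum_congr rfl fun K _ => ?_
  congr 2
  refine Nat.card_congr ((MulAction.toPerm y⁻¹).subtypeEquiv fun c => ?_)
  show (y * g * y⁻¹) • c = c ↔ g • (y⁻¹ • c) = y⁻¹ • c
  rw [mul_smul, mul_smul, smul_eq_iff_eq_inv_smul]

/-- The fixed cosets in the orbit of a Kilmoyer element. -/
noncomputable def orbFix (J : Set P.S) (g : G) (x : Weyl P) : ℕ :=
  Nat.card {c : G ⧸ par P ((exchangeData P).conjSet J x) //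
    (∃ h ∈ cell P x, QuotientGroup.mk h = c) ∧ g • c = c}

theorem conj_mem_conjSet {J : Set P.S} {x : Weyl P} (hs : (exchangeData P).AllSimple J x)
    {u : Weyl P} (hu : u ∈ (exchangeData P).wsub J) :
    x⁻¹ * u * x ∈ (exchangeData P).wsub ((exchangeData P).conjSet J x) := by
  have hle : (exchangeData P).wsub J ≤
      ((exchangeData P).wsub ((exchangeData P).conjSet J x)).comap (MulAut.conj x⁻¹).toMonoidHom := by
    refine (Subgroup.closure_le _).2 ?_
    rintro _ ⟨j, hj, rfl⟩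
    obtain ⟨k, hk⟩ := hs j hj
    have e : x⁻¹ * (exchangeData P).gen j * x = (exchangeData P).gen k := by
      rw [mul_assoc, hk, inv_mul_cancel_left]
    show x⁻¹ * (exchangeData P).gen j * x⁻¹⁻¹ ∈
      (exchangeData P).wsub ((exchangeData P).conjSet J x)
    rw [inv_inv, e]
    exact (exchangeData P).gen_mem_wsub ⟨j, hj, hk⟩
  simpa using hle hu

theorem rmin_conjSet {J : Set P.S} {x : Weyl P} (hx : (exchangeData P).LMin J x) :
    (exchangeData P).RMin ((exchangeData P).conjSet J x) x := by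
  rintro k ⟨j, hj, hjk⟩
  rw [← hjk]
  exact hx j hj

variable [Finite G] [Fintype P.S] [Fintype (Weyl P)]

omit [Fintype P.S] in
theorem fix_eq_orbFix {J K : Set P.S} {g : G} (hg : g ∈ par P J)
    (hmin : ∀ J' ⊂ J, ∀ y : G, y * g * y⁻¹ ∉ par P J') :
    Nat.card (MulAction.fixedBy (G ⧸ par P K) g) =
      ∑ x : Weyl P, if ((exchangeData P).LMin J x ∧ (exchangeData P).AllSimple J x) ∧
        ((exchangeData P).conjSet J x ⊆ K ∧ (exchangeData P).RMin K x)
        then orbFix P J g x else 0 := by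
  rw [← Finset.sum_filter, ← Finset.sum_coe_sort]
  unfold orbFix
  rw [← Nat.card_sigma]
  refine (Nat.card_congr (Equiv.ofBijective
    (fun y : (Σ x : {x // x ∈ Finset.univ.filter fun x : Weyl P =>
          ((exchangeData P).LMin J x ∧ (exchangeData P).AllSimple J x) ∧
            ((exchangeData P).conjSet J x ⊆ K ∧ (exchangeData P).RMin K x)},
        {c : G ⧸ par P ((exchangeData P).conjSet J x.1) //
          (∃ h ∈ cell P x.1, QuotientGroup.mk h = c) ∧ g • c = c}) =>
      (⟨Quotient.map' id (fun a a' h => by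
          rw [QuotientGroup.leftRel_apply] at h ⊢
          exact par_mono P (Finset.mem_filter.1 y.1.2).2.2.1 h) y.2.1, ?_⟩ :
        MulAction.fixedBy (G ⧸ par P K) g)) ?_)).symm
  · obtain ⟨⟨x, hx⟩, c, ⟨h, hh, rfl⟩, hc⟩ := y
    show g • (QuotientGroup.mk h : G ⧸ par P K) = QuotientGroup.mk h
    have h1 : QuotientGroup.mk (g * h) =
        (QuotientGroup.mk h : G ⧸ par P ((exchangeData P).conjSet J x)) := hc
    exact (QuotientGroup.eq.2 (par_mono P (Finset.mem_filter.1 hx).2.2.1 (QuotientGroup.eq.1 h1)) :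
      (QuotientGroup.mk (g * h) : G ⧸ par P K) = QuotientGroup.mk h)
  constructor
  · rintro ⟨⟨x, hx⟩, c, ⟨h, hh, rfl⟩, hc⟩ ⟨⟨x', hx'⟩, c', ⟨h', hh', rfl⟩, hc'⟩ he
    have he' : (QuotientGroup.mk h : G ⧸ par P K) = QuotientGroup.mk h' := congrArg Subtype.val he
    obtain ⟨rfl, hB⟩ := mem_B_of_rmin P (Finset.mem_filter.1 hx).2.2.2
      (Finset.mem_filter.1 hx').2.2.2 hh hh' (QuotientGroup.eq.1 he')
    have : (QuotientGroup.mk h : G ⧸ par P ((exchangeData P).conjSet J x)) = QuotientGroup.mk h' :=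
      QuotientGroup.eq.2 (B_le_par P _ hB)
    exact Sigma.ext rfl (heq_of_eq (Subtype.ext this))
  · rintro ⟨q, hq⟩
    induction q using QuotientGroup.induction_on with
    | _ h =>
    obtain ⟨w, hw⟩ := exists_cell P h
    obtain ⟨x, hxJ, hxK, ⟨u, hu, v, hv, rfl⟩, -⟩ := (exchangeData P).exists_double_min J K w
    obtain ⟨nu, rfl⟩ := exists_mk P u
    obtain ⟨nx, rfl⟩ := exists_mk P x
    obtain ⟨nv, rfl⟩ := exists_mk P v
    rw [← QuotientGroup.mk_mul, ← QuotientGroup.mk_mul, cell_mk] at hw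
    obtain ⟨b, hb, b', hb', hab⟩ := (mem_dc P).1 hw
    push_cast at hab
    set a : G := b * nu with ha
    have haJ : a ∈ par P J :=
      mul_mem (B_le_par P J hb) (mem_par_of_cell P hu (mem_cell_mk P nu))
    have hpK : (nv : G) * b' ∈ par P K :=
      mul_mem (mem_par_of_cell P hv (mem_cell_mk P nv)) (B_le_par P K hb')
    have hh : (QuotientGroup.mk h : G ⧸ par P K) = QuotientGroup.mk (a * nx) := by
      refine QuotientGroup.eq.2 ?_
      have e : h⁻¹ * (a * (nx : G)) = ((nv : G) * b')⁻¹ := by rw [hab, ha]; group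
      rw [e]; exact inv_mem hpK
    have hfix : g • (QuotientGroup.mk (a * nx) : G ⧸ par P K) = QuotientGroup.mk (a * nx) :=
      hh ▸ hq
    set g' : G := (nx : G)⁻¹ * (a⁻¹ * g * a) * nx with hg'
    have hg'K : g' ∈ par P K := by
      have h1 : (QuotientGroup.mk (g * (a * nx)) : G ⧸ par P K) = QuotientGroup.mk (a * nx) := hfix
      have h2 := inv_mem (QuotientGroup.eq.1 h1)
      simpa [hg', mul_assoc] using h2
    obtain ⟨u', hu', hu'cell⟩ := mem_par_cell P (mul_mem (mul_mem (inv_mem haJ) hg) haJ)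
    obtain ⟨v', hv', hv'cell⟩ := mem_par_cell P hg'K
    have hlx : ∀ y : Weyl P, y ∈ (exchangeData P).wsub J →
        (exchangeData P).len (y * QuotientGroup.mk nx) =
          (exchangeData P).len y + (exchangeData P).len (QuotientGroup.mk nx) := fun y hy => by
      have := (exchangeData P).rmin_len_add ((exchangeData P).lmin_iff.1 hxJ) (inv_mem hy)
      rw [← mul_inv_rev, (exchangeData P).len_inv, (exchangeData P).len_inv,
        (exchangeData P).len_inv] at this
      omega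
    have hcells : u' * QuotientGroup.mk nx = QuotientGroup.mk nx * v' := by
      refine cell_inj P (cell_mul P (hlx u' hu') hu'cell (mem_cell_mk P nx)) ?_
      have e : a⁻¹ * g * a * (nx : G) = (nx : G) * g' := by rw [hg']; group
      rw [e]
      exact cell_mul P ((exchangeData P).rmin_len_add hxK hv') (mem_cell_mk P nx) hv'cell
    have hk := (exchangeData P).kilmoyer hxJ hxK hu' hv' hcells
    have hall : ∀ j ∈ J, (QuotientGroup.mk nx : Weyl P)⁻¹ * (exchangeData P).gen j *
        QuotientGroup.mk nx ∈ (exchangeData P).wsub K := by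
      intro j hj
      by_contra hnot
      refine hmin {i ∈ J | (QuotientGroup.mk nx : Weyl P)⁻¹ * (exchangeData P).gen i *
        QuotientGroup.mk nx ∈ (exchangeData P).wsub K}
        ⟨fun i hi => hi.1, fun hsub => hnot (hsub hj).2⟩ a⁻¹ ?_
      rw [inv_inv]
      exact mem_par_of_cell P hk hu'cell
    have hsimple : (exchangeData P).AllSimple J (QuotientGroup.mk nx) := fun j hj =>
      let ⟨k, _, hk⟩ := (exchangeData P).simple_of_mem hxJ hxK hj (hall j hj)
      ⟨k, hk⟩
    have hsub : (exchangeData P).conjSet J (QuotientGroup.mk nx) ⊆ K := by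
      rintro k ⟨j, hj, hjk⟩
      obtain ⟨k', hk', hjk'⟩ := (exchangeData P).simple_of_mem hxJ hxK hj (hall j hj)
      rwa [(exchangeData P).gen_inj (mul_left_cancel (hjk.symm.trans hjk'))]
    obtain ⟨ua, hua, huacell⟩ := mem_par_cell P haJ
    have hcellax : a * (nx : G) ∈ cell P (QuotientGroup.mk nx *
        ((QuotientGroup.mk nx : Weyl P)⁻¹ * ua * QuotientGroup.mk nx)) := by
      rw [← mul_assoc, ← mul_assoc, mul_inv_cancel, one_mul]
      exact cell_mul P (hlx ua hua) huacell (mem_cell_mk P nx)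
    obtain ⟨p, hp, hpx⟩ := exists_min_rep P (conj_mem_conjSet P hsimple hua) hcellax
    have hg'C : g' ∈ par P ((exchangeData P).conjSet J (QuotientGroup.mk nx)) := by
      refine mem_par_of_cell P ?_ hv'cell
      rw [show v' = (QuotientGroup.mk nx : Weyl P)⁻¹ * u' * QuotientGroup.mk nx by
        rw [mul_assoc, hcells, inv_mul_cancel_left]]
      exact conj_mem_conjSet P hsimple hu'
    refine ⟨⟨⟨QuotientGroup.mk nx, Finset.mem_filter.2
      ⟨Finset.mem_univ _, ⟨hxJ, hsimple⟩, hsub, hxK⟩⟩,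
      QuotientGroup.mk (a * nx * p), ⟨_, hpx, rfl⟩, ?_⟩, ?_⟩
    · show (QuotientGroup.mk (g * (a * nx * p)) :
        G ⧸ par P ((exchangeData P).conjSet J (QuotientGroup.mk nx))) = QuotientGroup.mk _
      refine QuotientGroup.eq.2 ?_
      have e : (g * (a * (nx : G) * p))⁻¹ * (a * (nx : G) * p) = p⁻¹ * g'⁻¹ * p := by
        rw [hg']; group
      rw [e]
      exact mul_mem (mul_mem (inv_mem hp) (inv_mem hg'C)) hp
    · refine Subtype.ext ?_
      show (QuotientGroup.mk (a * nx * p) : G ⧸ par P K) = QuotientGroup.mk h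
      rw [hh]
      refine QuotientGroup.eq.2 ?_
      simpa [mul_assoc] using inv_mem (par_mono P hsub hp)

namespace LieData

variable {P} {p q : ℕ} {U : Subgroup G} (L : LieData P p q U)
include L

theorem pow_factorization :
    p ^ (Nat.card G).factorization p = q ^ L.topLen := by
  haveI := Fact.mk L.hp
  obtain ⟨Q, hQ⟩ := L.sylow
  rw [← L.card_U, ← Q.card_eq_multiplicity]
  exact Nat.card_congr (MulEquiv.subgroupCongr hQ).toEquiv

theorem steinZ_vanish {g : G} (hg : p ∣ orderOf g) : steinZ P g = 0 := by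
  haveI := Fintype.ofFinite G
  have hs : stein P g = 0 := by
    obtain ⟨w₀, h₀, -⟩ := L.top
    refine Characters.vanish_of_defect_zero (stein_isIrr P) L.hp (d := q ^ L.topLen) ?_
      (by rw [L.pow_factorization]) hg
    rw [stein_borel P (one_mem P.B) h₀, L.cellFix_one, L.topLen_eq h₀]
  rw [stein_eq_steinZ] at hs
  exact_mod_cast hs

theorem steinZ_dvd {g : G} (hg : ¬ p ∣ orderOf g) (Q : Subgroup G) (hQ : IsPGroup p Q)
    (hcomm : ∀ y ∈ Q, g * y = y * g) : (Nat.card Q : ℤ) ∣ steinZ P g := by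
  haveI := Fintype.ofFinite G
  haveI := Fact.mk L.hp
  have hsum : steinZ P g = ∑ y : Q, steinZ P (g * (y : G)) := by
    rw [Finset.sum_eq_single (1 : Q)]
    · simp
    · intro y _ hy
      refine L.steinZ_vanish ?_
      obtain ⟨k, hk⟩ := IsPGroup.iff_orderOf.1 hQ y
      rw [← Subgroup.orderOf_coe] at hk
      rw [(show Commute g (y : G) from hcomm _ y.2).orderOf_mul_eq_mul_orderOf_of_coprime
        (by rw [hk]; exact Nat.Coprime.pow_right k
              ((Nat.Prime.coprime_iff_not_dvd L.hp).2 hg).symm), hk]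
      refine dvd_mul_of_dvd_right (dvd_pow_self p ?_) _
      rintro rfl
      rw [pow_zero, orderOf_eq_one_iff] at hk
      exact hy (Subtype.ext hk)
    · simp
  rw [hsum]
  unfold steinZ
  rw [Finset.sum_comm]
  refine Finset.dvd_sum fun K _ => ?_
  rw [← Finset.mul_sum, ← Nat.cast_sum]
  refine Dvd.dvd.mul_left (Int.natCast_dvd_natCast.2 ?_) _
  set X := G ⧸ par P (↑K : Set P.S)
  let X' : SubMulAction Q X :=
    { carrier := {x | ∃ y : Q, (y : G) • x = g⁻¹ • x}
      smul_mem' := fun z x ⟨y, hy⟩ => by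
        refine ⟨z * y * z⁻¹, ?_⟩
        show ((z * y * z⁻¹ : Q) : G) • ((z : G) • x) = g⁻¹ • ((z : G) • x)
        have hc : (z : G) * g⁻¹ = g⁻¹ * (z : G) :=
          ((Commute.inv_left (hcomm _ z.2)).symm)
        rw [smul_smul, smul_smul g⁻¹ (z : G) x, ← hc, ← smul_smul (z : G) g⁻¹ x, ← hy, smul_smul]
        push_cast
        congr 1
        group }
  have hx' : ∀ y : Q, Nat.card (MulAction.fixedBy X (g * (y : G))) =
      Nat.card {x : X' // (y : G) • (x : X) = g⁻¹ • (x : X)} := fun y => by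
    refine Nat.card_congr
      { toFun := fun x => ⟨⟨x.1, y, ?_⟩, ?_⟩
        invFun := fun x => ⟨x.1.1, ?_⟩
        left_inv := fun x => rfl
        right_inv := fun x => rfl }
    · show (y : G) • (x.1 : X) = g⁻¹ • (x.1 : X)
      rw [eq_inv_smul_iff, smul_smul]; exact x.2
    · show (y : G) • (x.1 : X) = g⁻¹ • (x.1 : X)
      rw [eq_inv_smul_iff, smul_smul]; exact x.2
    · show (g * (y : G)) • (x.1.1 : X) = x.1.1
      rw [mul_smul, x.2, smul_inv_smul]
  rw [Finset.sum_congr rfl fun y _ => hx' y, ← Nat.card_sigma]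
  have hburn : (∑ y : Q, Nat.card (MulAction.fixedBy X' y)) =
      Nat.card (Quotient (MulAction.orbitRel Q X')) * Nat.card Q := by
    haveI := Fintype.ofFinite X'
    haveI := Fintype.ofFinite (Quotient (MulAction.orbitRel Q X'))
    simp only [Nat.card_eq_fintype_card]
    exact MulAction.sum_card_fixedBy_eq_card_orbits_mul_card_group Q X'
  rw [← Nat.card_sigma] at hburn
  choose y₀ hy₀ using fun x : X' => x.2
  have e : Nat.card (Σ y : Q, {x : X' // (y : G) • (x : X) = g⁻¹ • (x : X)}) =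
      Nat.card (Σ y : Q, MulAction.fixedBy X' y) := by
    refine Nat.card_congr
      { toFun := fun s => ⟨(y₀ s.2.1)⁻¹ * s.1, s.2.1, ?_⟩
        invFun := fun s => ⟨y₀ s.2.1 * s.1, s.2.1, ?_⟩
        left_inv := ?_
        right_inv := ?_ }
    · refine Subtype.ext ?_
      show (((y₀ s.2.1)⁻¹ * s.1 : Q) : G) • (s.2.1 : X) = (s.2.1 : X)
      rw [Subgroup.coe_mul, mul_smul, s.2.2, ← hy₀ s.2.1, Subgroup.coe_inv, inv_smul_smul]
    · have h2 : ((s.1 : Q) : G) • (s.2.1 : X) = (s.2.1 : X) := congrArg Subtype.val s.2.2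
      rw [Subgroup.coe_mul, mul_smul, h2, hy₀]
    · rintro ⟨y, x, hx⟩
      have e1 : y₀ x * ((y₀ x)⁻¹ * y) = y := mul_inv_cancel_left _ _
      exact Sigma.ext e1 ((Subtype.heq_iff_coe_eq (fun z => by
        show (((y₀ x * ((y₀ x)⁻¹ * y) : Q)) : G) • (z : X) = _ ↔ _
        rw [e1])).2 rfl)
    · rintro ⟨y, x, hx⟩
      have e1 : (y₀ x)⁻¹ * (y₀ x * y) = y := inv_mul_cancel_left _ _
      exact Sigma.ext e1 ((Subtype.heq_iff_coe_eq (fun z => by
        show (((y₀ x)⁻¹ * (y₀ x * y) : Q)) • z = z ↔ _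
        rw [e1]; rfl)).2 rfl)
  rw [e, hburn]
  exact dvd_mul_left _ _

theorem steinZ_value {J : Finset P.S} {g : G} (hg : g ∈ par P (↑J : Set P.S))
    (hord : ¬ p ∣ orderOf g)
    (hmin : ∀ J' ⊂ (↑J : Set P.S), ∀ y : G, y * g * y⁻¹ ∉ par P J') :
    ∃ C : Subgroup G, IsPGroup p C ∧ (∀ u ∈ C, g * u = u * g) ∧
      ((steinZ P g).natAbs = Nat.card C) := by
  set E := exchangeData P with hE
  obtain ⟨w₀, h₀, hst⟩ := L.top
  set v := vTop P (↑J : Set P.S) with hvdef
  have hv : E.RTop (↑J : Set P.S) v := vTop_spec P _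
  obtain ⟨hxL, hxS, hxA, hxlen⟩ := E.opp_spec hv h₀
  set x := v * w₀ with hx
  set C₀ := E.conjSet (↑J : Set P.S) x with hC₀
  have hxR : E.RMin C₀ x := rmin_conjSet P hxL
  -- the alternating sum has one term
  have hval : steinZ P g =
      (-1 : ℤ) ^ (Finset.univ.filter fun k => k ∈ C₀).card * (orbFix P (↑J : Set P.S) g x : ℤ) := by
    unfold steinZ
    rw [Finset.sum_congr rfl fun K _ => by
      rw [fix_eq_orbFix P hg hmin (K := (↑K : Set P.S)), Nat.cast_sum, Finset.mul_sum]]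
    rw [Finset.sum_comm]
    have hinner : ∀ y : Weyl P, (∑ K : Finset P.S, (-1 : ℤ) ^ K.card *
        (((if (E.LMin (↑J : Set P.S) y ∧ E.AllSimple (↑J : Set P.S) y) ∧
          (E.conjSet (↑J : Set P.S) y ⊆ ↑K ∧ E.RMin (↑K : Set P.S) y)
            then orbFix P (↑J : Set P.S) g y else 0) : ℕ) : ℤ)) =
        if E.LMin (↑J : Set P.S) y ∧ E.AllSimple (↑J : Set P.S) y then
          (orbFix P (↑J : Set P.S) g y : ℤ) *
            (if (Finset.univ.filter fun k => k ∈ E.conjSet (↑J : Set P.S) y) =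
              (Finset.univ.filter fun k => Asc P y k) then
              (-1 : ℤ) ^ (Finset.univ.filter fun k => k ∈ E.conjSet (↑J : Set P.S) y).card else 0)
        else 0 := by
      intro y
      by_cases h1 : E.LMin (↑J : Set P.S) y ∧ E.AllSimple (↑J : Set P.S) y
      · have hAB : (Finset.univ.filter fun k => k ∈ E.conjSet (↑J : Set P.S) y) ⊆
            (Finset.univ.filter fun k => Asc P y k) := fun k hk =>
          Finset.mem_filter.2 ⟨Finset.mem_univ _, rmin_conjSet P h1.1 k (Finset.mem_filter.1 hk).2⟩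
        rw [if_pos h1, ← sum_alt_interval _ _ hAB, Finset.mul_sum]
        refine Finset.sum_congr rfl fun K _ => ?_
        have hiff : (E.conjSet (↑J : Set P.S) y ⊆ ↑K ∧ E.RMin (↑K : Set P.S) y) ↔
            ((Finset.univ.filter fun k => k ∈ E.conjSet (↑J : Set P.S) y) ⊆ K ∧
              K ⊆ Finset.univ.filter fun k => Asc P y k) := by
          simp only [Finset.subset_iff, Finset.mem_filter, Finset.mem_univ, true_and]
          exact Iff.rfl
        by_cases h3 : E.conjSet (↑J : Set P.S) y ⊆ ↑K ∧ E.RMin (↑K : Set P.S) y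
        · rw [if_pos ⟨h1, h3⟩, if_pos (hiff.1 h3)]; ring
        · rw [if_neg (fun h => h3 h.2), if_neg (fun h => h3 (hiff.2 h))]; simp
      · rw [if_neg h1]
        exact Finset.sum_eq_zero fun K _ => by rw [if_neg (fun h => h1 h.1), Nat.cast_zero, mul_zero]
    rw [Finset.sum_congr rfl fun y _ => hinner y, Finset.sum_eq_single x]
    · have hfe : (Finset.univ.filter fun k => k ∈ C₀) = Finset.univ.filter fun k => Asc P x k := by
        ext k
        simp only [Finset.mem_filter, Finset.mem_univ, true_and]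
        exact ⟨fun h => hxR k h, fun h => hxA k h⟩
      rw [if_pos ⟨hxL, hxS⟩, if_pos hfe]
      ring
    · intro y _ hy
      split_ifs with h1 h2
      · exfalso
        refine hy (E.opp_unique hv h₀ h1.1 fun k hk => ?_)
        have : k ∈ Finset.univ.filter fun k => Asc P y k :=
          Finset.mem_filter.2 ⟨Finset.mem_univ _, hk⟩
        rw [← h2] at this
        exact (Finset.mem_filter.1 this).2
      · rw [mul_zero]
      · rfl
    · simp
  -- the radical acts regularly on the orbit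
  obtain ⟨V, hVU, hnorm, hVin, hVcard⟩ := L.exists_radical hv
  have hVB : V ≤ P.B := hVU.trans L.U_le
  set X₀ := {c : G ⧸ par P C₀ // ∃ h ∈ cell P x, QuotientGroup.mk h = c} with hX₀
  have hcardX : Nat.card X₀ = Nat.card V := by
    have h1 : Nat.card X₀ = q ^ E.len x := by
      rw [← L.card_cell _ x rfl]
      refine (Nat.card_congr (Equiv.ofBijective
        (fun c : {c : G ⧸ P.B // InCell P x c} =>
          (⟨Quotient.map' id (fun a a' h => by
            rw [QuotientGroup.leftRel_apply] at h ⊢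
            exact B_le_par P C₀ h) c.1, ?_⟩ : X₀)) ⟨?_, ?_⟩)).symm
      · obtain ⟨_, h, hh, rfl⟩ := c
        exact ⟨h, hh, rfl⟩
      · rintro ⟨_, h, hh, rfl⟩ ⟨_, h', hh', rfl⟩ he
        exact Subtype.ext (QuotientGroup.eq.2 (mem_B_of_rmin P hxR hxR hh hh'
          (QuotientGroup.eq.1 (congrArg Subtype.val he))).2)
      · rintro ⟨_, h, hh, rfl⟩
        exact ⟨⟨_, h, hh, rfl⟩, rfl⟩
    have h2 : q ^ E.len x * q ^ E.len v = Nat.card V * q ^ E.len v := by
      rw [hVcard, ← pow_add, hxlen, L.topLen_eq h₀]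
    rw [h1]
    exact Nat.eq_of_mul_eq_mul_right (pow_pos L.q_pos _) h2
  have hUnorm : ∀ u ∈ V, u * wrep P x ∈ cell P x := fun u hu =>
    cell_mul_left P (hVB hu) (wrep_mem_cell P x)
  have hfree : ∀ u ∈ V, (wrep P x)⁻¹ * u * wrep P x ∈ par P C₀ → u = 1 := by
    intro u hu h
    have hB : (wrep P x)⁻¹ * u * wrep P x ∈ P.B := by
      have := (mem_B_of_rmin P hxR hxR (wrep_mem_cell P x) (hUnorm u hu)
        (by simpa [mul_assoc] using h)).2
      simpa [mul_assoc] using this
    have hc : Cong P (wrep P x) (wrep P v * wrep P w₀) := by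
      have := (weyl_mk_eq P (n := ⟨wrep P x, wrep_mem P x⟩)
        (n' := ⟨wrep P v, wrep_mem P v⟩ * ⟨wrep P w₀, wrep_mem P w₀⟩)).1 (by
          rw [QuotientGroup.mk_mul, mk_wrep, mk_wrep, mk_wrep])
      exact this
    set y := (wrep P v)⁻¹ * u * wrep P v with hy
    have hyV : y ∈ V := by
      have := hnorm _ (inv_mem (mem_par_of_cell P hv.1 (wrep_mem_cell P v))) u hu
      rwa [inv_inv] at this
    have hyB : (wrep P w₀)⁻¹ * y * wrep P w₀ ∈ P.B := by
      have h3 := mul_mem (mul_mem (inv_mem hc) hB) hc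
      have e : ((wrep P x)⁻¹ * (wrep P v * wrep P w₀))⁻¹ * ((wrep P x)⁻¹ * u * wrep P x) *
          ((wrep P x)⁻¹ * (wrep P v * wrep P w₀)) = (wrep P w₀)⁻¹ * y * wrep P w₀ := by
        rw [hy]; group
      rwa [e] at h3
    have h4 : y ∈ U ⊓ (P.B ⊓ P.N) :=
      Subgroup.mem_inf.2 ⟨hVU hyV, Subgroup.mem_inf.2 ⟨hVB hyV, hst y (hVB hyV) hyB⟩⟩
    rw [L.U_inf_torus, Subgroup.mem_bot, hy] at h4
    have e : u = wrep P v * ((wrep P v)⁻¹ * u * wrep P v) * (wrep P v)⁻¹ := by group
    rw [e, h4, mul_one, mul_inv_cancel]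
  have htrans : ∀ c : X₀, ∃ u ∈ V, u • (QuotientGroup.mk (wrep P x) : G ⧸ par P C₀) = c.1 := by
    have hb : Function.Bijective (fun u : V =>
        (⟨(u : G) • (QuotientGroup.mk (wrep P x) : G ⧸ par P C₀), _, hUnorm u u.2, rfl⟩ : X₀)) := by
      refine (Nat.bijective_iff_injective_and_card _).2 ⟨?_, hcardX.symm⟩
      rintro ⟨u, hu⟩ ⟨u', hu'⟩ he
      have h1 : (QuotientGroup.mk (u * wrep P x) : G ⧸ par P C₀) =
          QuotientGroup.mk (u' * wrep P x) := congrArg Subtype.val he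
      have h2 := hfree (u⁻¹ * u') (mul_mem (inv_mem hu) hu')
        (by simpa [mul_assoc] using QuotientGroup.eq.1 h1)
      exact Subtype.ext (inv_mul_eq_one.1 h2)
    intro c
    obtain ⟨u, hu⟩ := hb.2 c
    exact ⟨u, u.2, congrArg Subtype.val hu⟩
  have hA : ∀ a ∈ Subgroup.zpowers g, a ∈ par P (↑J : Set P.S) := fun a ha =>
    (Subgroup.zpowers_le.2 hg) ha
  have hstab : ∀ a ∈ par P (↑J : Set P.S), ∀ h ∈ cell P x,
      ∃ h' ∈ cell P x, (QuotientGroup.mk h' : G ⧸ par P C₀) = QuotientGroup.mk (a * h) := by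
    intro a ha h hh
    obtain ⟨u, hu, hcell⟩ := par_mul_cell P ha hh
    rw [show u * x = x * (x⁻¹ * u * x) by group] at hcell
    obtain ⟨r, hr, hrx⟩ := exists_min_rep P (conj_mem_conjSet P hxS hu) hcell
    exact ⟨a * h * r, hrx, QuotientGroup.eq.2 (by simpa [mul_assoc] using inv_mem hr)⟩
  have hAV : Subgroup.zpowers g ≤ Subgroup.normalizer (V : Set G) := by
    intro a ha
    rw [Subgroup.mem_normalizer_iff]
    refine fun u => ⟨fun hu => hnorm a (hA a ha) u hu, fun hu => ?_⟩
    simpa [mul_assoc] using hnorm a⁻¹ (inv_mem (hA a ha)) _ hu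
  have hVp : IsPGroup p V := L.isPGroup_U.to_le hVU
  have hcop : (Nat.card (Subgroup.zpowers g)).Coprime (Nat.card V) := by
    haveI := Fact.mk L.hp
    obtain ⟨k, hk⟩ := IsPGroup.iff_card.1 hVp
    rw [Nat.card_zpowers, hk]
    exact Nat.Coprime.pow_right k ((Nat.Prime.coprime_iff_not_dvd L.hp).2 hord).symm
  have hsolv : Group.IsSolvable (Subgroup.zpowers g) ∨ Group.IsSolvable V :=
    Or.inl inferInstance
  set c₀ : G ⧸ par P C₀ := QuotientGroup.mk (wrep P x) with hc₀
  obtain ⟨u₀, hu₀, hfixu⟩ := Coprime.exists_fixed_smul hAV hcop hsolv c₀ fun a ha => by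
    obtain ⟨h', hh', he⟩ := hstab a (hA a ha) _ (wrep_mem_cell P x)
    obtain ⟨u, hu, hue⟩ := htrans ⟨_, h', hh', rfl⟩
    exact ⟨u, hu, (hue.trans he).symm⟩
  have hc₁ : ∃ h ∈ cell P x, (QuotientGroup.mk h : G ⧸ par P C₀) = u₀ • c₀ :=
    ⟨_, hUnorm u₀ hu₀, rfl⟩
  refine ⟨V ⊓ Subgroup.centralizer ({g} : Set G), hVp.to_le inf_le_left, fun u hu =>
    Subgroup.mem_centralizer_iff.1 hu.2 g (Set.mem_singleton g), ?_⟩
  rw [hval, Int.natAbs_mul, Int.natAbs_pow]
  simp only [Int.natAbs_neg, Int.natAbs_one, one_pow, one_mul, Int.natAbs_natCast]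
  refine (Nat.card_congr (Equiv.ofBijective
    (fun u : ↥(V ⊓ Subgroup.centralizer ({g} : Set G)) =>
      (⟨(u : G) • (u₀ • c₀), ?_, ?_⟩ :
        {c : G ⧸ par P C₀ // (∃ h ∈ cell P x, QuotientGroup.mk h = c) ∧ g • c = c})) ⟨?_, ?_⟩)).symm
  · exact ⟨(u : G) * u₀ * wrep P x, hUnorm _ (mul_mem u.2.1 hu₀), by
      rw [hc₀, smul_smul]; rfl⟩
  · rw [smul_smul, Subgroup.mem_centralizer_iff.1 u.2.2 g (Set.mem_singleton g), ← smul_smul,
      hfixu g (Subgroup.mem_zpowers g)]
  · rintro ⟨u, hu⟩ ⟨u', hu'⟩ he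
    have h1 : (QuotientGroup.mk (u * u₀ * wrep P x) : G ⧸ par P C₀) =
        QuotientGroup.mk (u' * u₀ * wrep P x) := by
      have h0 : u • (u₀ • c₀) = u' • (u₀ • c₀) := congrArg Subtype.val he
      rw [smul_smul, smul_smul] at h0
      exact h0
    have h2 := hfree (u₀⁻¹ * (u⁻¹ * u') * u₀)
      (mul_mem (mul_mem (inv_mem hu₀) (mul_mem (inv_mem hu.1) hu'.1)) hu₀)
      (by simpa [mul_assoc] using QuotientGroup.eq.1 h1)
    refine Subtype.ext (inv_mul_eq_one.1 ?_)
    have e : u⁻¹ * u' = u₀ * (u₀⁻¹ * (u⁻¹ * u') * u₀) * u₀⁻¹ := by group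
    rw [e, h2, mul_one, mul_inv_cancel]
  · rintro ⟨c, hc, hgc⟩
    obtain ⟨u, hu, hue⟩ := htrans ⟨c, hc⟩
    have hgA : ∀ a ∈ Subgroup.zpowers g, a • c = c := fun a ha =>
      MulAction.mem_stabilizer_iff.1
        ((Subgroup.zpowers_le.2 (MulAction.mem_stabilizer_iff.2 hgc)) ha)
    have hk : ∃ k ∈ V, k • (u₀ • c₀) = c := ⟨u * u₀⁻¹, mul_mem hu (inv_mem hu₀), by
      rw [smul_smul, inv_mul_cancel_right]; exact hue⟩
    obtain ⟨z, hz, hzc, hze⟩ :=
      Coprime.exists_centralizer_smul_eq hAV hcop hsolv (u₀ • c₀) c hfixu hgA hk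
    refine ⟨⟨z, hz, Subgroup.mem_centralizer_iff.2 fun a ha => ?_⟩, Subtype.ext hze⟩
    rw [Set.mem_singleton_iff] at ha
    subst ha
    exact Subgroup.mem_centralizer_iff.1 hzc a (Subgroup.mem_zpowers a)

/-- The value at a semisimple element is the `p`-part of the order of its centraliser. -/
theorem stein_semisimple {g : G} (hord : ¬ p ∣ orderOf g) :
    stein P g = ((p ^ (Nat.card ↥(Subgroup.centralizer ({g} : Set G))).factorization p : ℕ) : ℂ) ∨
      stein P g = -((p ^ (Nat.card ↥(Subgroup.centralizer ({g} : Set G))).factorization p : ℕ) : ℂ) := by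
  haveI := Fact.mk L.hp
  have hne : ∃ n, ∃ J : Finset P.S, J.card = n ∧ ∃ y : G, y * g * y⁻¹ ∈ par P (↑J : Set P.S) :=
    ⟨_, Finset.univ, rfl, 1, by rw [Finset.coe_univ, par_univ P]; exact Subgroup.mem_top _⟩
  obtain ⟨J, hJ, y, hy⟩ := Nat.find_spec hne
  set g' := y * g * y⁻¹ with hg'
  have hord' : ¬ p ∣ orderOf g' := by
    rwa [hg', show y * g * y⁻¹ = MulAut.conj y g from rfl, MulEquiv.orderOf_eq]
  obtain ⟨C, hC, hCg, hval⟩ := L.steinZ_value hy hord' fun J' hJ' z hz => by
    refine Nat.find_min hne (m := J'.toFinset.card) ?_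
      ⟨J'.toFinset, rfl, z * y, by rw [Set.coe_toFinset]; simpa [hg', mul_assoc] using hz⟩
    rw [← hJ]
    refine Finset.card_lt_card ?_
    rwa [← Finset.coe_ssubset, Set.coe_toFinset]
  set Cg := Subgroup.centralizer ({g'} : Set G)
  obtain ⟨Q⟩ : Nonempty (Sylow p Cg) := inferInstance
  have hdvd : p ^ (Nat.card Cg).factorization p ∣ (steinZ P g').natAbs := by
    rw [← Q.card_eq_multiplicity, ← Int.natCast_dvd]
    have h := L.steinZ_dvd hord' ((Q : Subgroup Cg).map Cg.subtype) (Q.isPGroup'.map _) (by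
      rintro _ ⟨z, -, rfl⟩
      exact Subgroup.mem_centralizer_iff.1 z.2 g' (Set.mem_singleton g'))
    rwa [← Nat.card_congr ((Q : Subgroup Cg).equivMapOfInjective _ Cg.subtype_injective).toEquiv] at h
  have hle : (steinZ P g').natAbs ∣ p ^ (Nat.card Cg).factorization p := by
    obtain ⟨k, hk⟩ := IsPGroup.iff_card.1 hC
    rw [hval, hk]
    refine pow_dvd_pow p ((L.hp.pow_dvd_iff_le_factorization Nat.card_pos.ne').1 ?_)
    rw [← hk]
    refine Subgroup.card_dvd_of_le fun u hu => Subgroup.mem_centralizer_iff.2 fun a ha => ?_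
    rw [Set.mem_singleton_iff] at ha
    subst ha
    exact hCg u hu
  have habs := Nat.dvd_antisymm hle hdvd
  have hcard : Nat.card ↥(Subgroup.centralizer ({g} : Set G)) = Nat.card Cg := by
    refine Nat.card_congr ((MulAut.conj y).toEquiv.subtypeEquiv fun z => ?_)
    show z ∈ Subgroup.centralizer ({g} : Set G) ↔ y * z * y⁻¹ ∈ Cg
    rw [Subgroup.mem_centralizer_iff, Subgroup.mem_centralizer_iff]
    simp only [Set.mem_singleton_iff, forall_eq, hg']
    constructor
    · intro h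
      calc y * g * y⁻¹ * (y * z * y⁻¹) = y * (g * z) * y⁻¹ := by group
        _ = y * (z * g) * y⁻¹ := by rw [h]
        _ = _ := by group
    · intro h
      calc g * z = y⁻¹ * (y * g * y⁻¹ * (y * z * y⁻¹)) * y := by group
        _ = _ := by rw [h]; group
  rw [hcard, stein_eq_steinZ, ← steinZ_conj P y g, ← hg', ← habs]
  rcases Int.natAbs_eq (steinZ P g') with h | h
  · left; rw [← Int.cast_natCast (R := ℂ), ← h]
  · right; rw [← Int.cast_natCast (R := ℂ), ← Int.cast_neg, ← h]

end LieData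

end Cfsg.Agent.Lib.BNPair
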