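import Mathlib
import Cfsg.Prelude.Def_ParabolicCharacters
import Cfsg.Agent.Lib.BNPair.Cells
import Cfsg.Agent.Lib.Characters.Perm
import Cfsg.Agent.Lib.Characters.Ortho
import Cfsg.Agent.Lib.Flag.Inner

/-!
The Steinberg character of a finite group with a (B,N)-pair.
-/

set_option autoImplicit false

namespace Cfsg.Agent.Lib.BNPair

open scoped Classical
open Cfsg.Agent.Lib.Characters

theorem sum_alt_powerset {α : Type*} [Fintype α] (p : α → Prop)
    [∀ J : Finset α, Decidable (∀ i ∈ J, p i)] [Decidable (∀ i, ¬ p i)] :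
    ∑ J : Finset α, (-1 : ℂ) ^ J.card * (if ∀ i ∈ J, p i then 1 else 0) =
      if ∀ i, ¬ p i then 1 else 0 := by
  have hfil : (Finset.univ : Finset (Finset α)).filter (fun J => ∀ i ∈ J, p i) =
      (Finset.univ.filter p).powerset := by
    ext J
    simp [Finset.subset_iff]
  simp only [mul_ite, mul_one, mul_zero]
  rw [← Finset.sum_filter, hfil]
  have h := congrArg (Int.cast (R := ℂ))
    (Finset.sum_powerset_neg_one_pow_card (x := Finset.univ.filter p))
  push_cast at h
  rw [h]
  simp [Finset.filter_eq_empty_iff]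

section Steinberg

variable {G : Type*} [Group G] (P : Cfsg.BNPair G)
variable [hN : ((P.B ⊓ P.N).subgroupOf P.N).Normal]

/-- The alternating sum of the parabolic permutation characters. -/
noncomputable def stein [Fintype P.S] (g : G) : ℂ :=
  ∑ J : Finset P.S, (-1 : ℂ) ^ J.card * Cfsg.fixedPointCharacter (par P (↑J : Set P.S)) g

/-- A right ascent. -/
def Asc (w : Weyl P) (i : P.S) : Prop :=
  (exchangeData P).len w < (exchangeData P).len (w * (exchangeData P).gen i)

/-- The `B`-cosets in a cell. -/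
def InCell (w : Weyl P) (c : G ⧸ P.B) : Prop := ∃ g ∈ cell P w, QuotientGroup.mk g = c

theorem mem_cell_of_inCell {w : Weyl P} {g : G} (h : InCell P w (QuotientGroup.mk g)) :
    g ∈ cell P w := by
  obtain ⟨g', hg', e⟩ := h
  have := cell_mul_right P (QuotientGroup.eq.1 e) hg'
  rwa [mul_inv_cancel_left] at this

/-- The number of fixed `B`-cosets in a cell. -/
noncomputable def cellFix (b : G) (w : Weyl P) : ℕ :=
  Nat.card {c : G ⧸ P.B // InCell P w c ∧ b • c = c}

variable [Finite G] [Fintype P.S] [Fintype (Weyl P)]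

theorem fix_par_eq {b : G} (hb : b ∈ P.B) (J : Set P.S) :
    Nat.card (MulAction.fixedBy (G ⧸ par P J) b) =
      ∑ w : Weyl P, if (exchangeData P).RMin J w then cellFix P b w else 0 := by
  classical
  rw [← Finset.sum_filter, ← Finset.sum_coe_sort]
  unfold cellFix
  rw [← Nat.card_sigma]
  refine (Nat.card_congr (Equiv.ofBijective
    (fun x : (Σ w : {w // w ∈ Finset.univ.filter fun w : Weyl P => (exchangeData P).RMin J w},
        {c : G ⧸ P.B // InCell P w.1 c ∧ b • c = c}) =>
      (⟨Quotient.map' id (fun a a' h => by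
          rw [QuotientGroup.leftRel_apply] at h ⊢
          exact B_le_par P J h) x.2.1, ?_⟩ : MulAction.fixedBy (G ⧸ par P J) b)) ?_)).symm
  · obtain ⟨w, c, -, hc⟩ := x
    induction c using QuotientGroup.induction_on with
    | _ g =>
    show b • (QuotientGroup.mk g : G ⧸ par P J) = QuotientGroup.mk g
    have h1 : QuotientGroup.mk (b * g) = (QuotientGroup.mk g : G ⧸ P.B) := hc
    exact (QuotientGroup.eq.2 (B_le_par P J (QuotientGroup.eq.1 h1)) :
      (QuotientGroup.mk (b * g) : G ⧸ par P J) = QuotientGroup.mk g)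
  constructor
  · rintro ⟨⟨w, hw⟩, c, hc, hcb⟩ ⟨⟨w', hw'⟩, c', hc', hcb'⟩ h
    induction c using QuotientGroup.induction_on with
    | _ g =>
    induction c' using QuotientGroup.induction_on with
    | _ g' =>
    have h' : (QuotientGroup.mk g : G ⧸ par P J) = QuotientGroup.mk g' := congrArg Subtype.val h
    obtain ⟨rfl, hB⟩ := mem_B_of_rmin P (Finset.mem_filter.1 hw).2 (Finset.mem_filter.1 hw').2
      (mem_cell_of_inCell P hc) (mem_cell_of_inCell P hc') (QuotientGroup.eq.1 h')
    have : (QuotientGroup.mk g : G ⧸ P.B) = QuotientGroup.mk g' := QuotientGroup.eq.2 hB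
    exact Sigma.ext rfl (heq_of_eq (Subtype.ext this))
  · rintro ⟨q, hq⟩
    induction q using QuotientGroup.induction_on with
    | _ g =>
    obtain ⟨w, hw, p, hp, hgp⟩ := exists_rmin_rep P J g
    refine ⟨⟨⟨w, Finset.mem_filter.2 ⟨Finset.mem_univ _, hw⟩⟩, QuotientGroup.mk (g * p),
      ⟨g * p, hgp, rfl⟩, ?_⟩, ?_⟩
    · show (QuotientGroup.mk (b * (g * p)) : G ⧸ P.B) = QuotientGroup.mk (g * p)
      refine QuotientGroup.eq.2 ?_
      have hq' : (QuotientGroup.mk (b * g) : G ⧸ par P J) = QuotientGroup.mk g := hq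
      refine (mem_B_of_rmin P (J := J) hw hw (cell_mul_left P hb hgp) hgp ?_).2
      have e : (b * (g * p))⁻¹ * (g * p) = p⁻¹ * ((b * g)⁻¹ * g) * p := by group
      rw [e]
      exact mul_mem (mul_mem (inv_mem hp) (QuotientGroup.eq.1 hq')) hp
    · refine Subtype.ext ?_
      exact (QuotientGroup.eq.2 (by simpa using inv_mem hp) :
        (QuotientGroup.mk (g * p) : G ⧸ par P J) = QuotientGroup.mk g)

theorem stein_borel {b : G} (hb : b ∈ P.B) {w₀ : Weyl P} (h₀ : (exchangeData P).IsTop w₀) :
    stein P b = (cellFix P b w₀ : ℂ) := by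
  classical
  unfold stein
  simp only [Cfsg.fixedPointCharacter, fix_par_eq P hb, Nat.cast_sum, Finset.mul_sum]
  rw [Finset.sum_comm, Finset.sum_eq_single w₀]
  · rw [Finset.sum_eq_single ∅]
    · rw [Finset.coe_empty, if_pos (show (exchangeData P).RMin ∅ w₀ from fun i hi =>
        absurd hi (Set.notMem_empty i))]
      simp
    · intro J _ hJ
      rw [if_neg (fun h => hJ (Finset.coe_eq_empty.1 ((exchangeData P).top_rmin h₀ h))),
        Nat.cast_zero, mul_zero]
    · simp
  · intro w _ hw
    have e : ∀ J : Finset P.S, (-1 : ℂ) ^ J.card *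
        (((if (exchangeData P).RMin (↑J : Set P.S) w then cellFix P b w else 0 : ℕ)) : ℂ) =
          (cellFix P b w : ℂ) * ((-1 : ℂ) ^ J.card * (if ∀ i ∈ J,
            Asc P w i
            then 1 else 0)) := by
      intro J
      by_cases h : (exchangeData P).RMin (↑J : Set P.S) w
      · rw [if_pos h, if_pos (show ∀ i ∈ J, Asc P w i from fun i hi => h i hi)]; ring
      · rw [if_neg h, if_neg (show ¬ ∀ i ∈ J, Asc P w i from fun h' => h fun i hi => h' i hi)]; simp
    rw [Finset.sum_congr rfl fun J _ => e J, ← Finset.mul_sum, sum_alt_powerset,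
      if_neg, mul_zero]
    intro hall
    refine hw ((exchangeData P).top_unique (fun i => lt_of_le_of_ne (le_of_not_gt (hall i)) ?_) h₀)
    exact len_mul_wgen_ne P i w
  · simp

omit [Fintype P.S] [Fintype (Weyl P)] in
theorem cellFix_eq {n : P.N} {H : Subgroup G}
    (hH : ∀ x ∈ P.B, x ∈ H ↔ (n : G)⁻¹ * x * n ∈ P.B) (b : P.B) :
    (cellFix P (b : G) (QuotientGroup.mk n) : ℂ) =
      Cfsg.fixedPointCharacter (H.subgroupOf P.B) b := by
  unfold cellFix Cfsg.fixedPointCharacter
  congr 1
  have key : ∀ x y : P.B, (QuotientGroup.mk x : P.B ⧸ H.subgroupOf P.B) = QuotientGroup.mk y ↔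
      (QuotientGroup.mk ((x : G) * n) : G ⧸ P.B) = QuotientGroup.mk ((y : G) * n) := by
    intro x y
    rw [QuotientGroup.eq, QuotientGroup.eq, Subgroup.mem_subgroupOf, hH _ (x⁻¹ * y).2]
    simp [mul_assoc]
  refine (Nat.card_congr (Equiv.ofBijective
    (fun q : MulAction.fixedBy (P.B ⧸ H.subgroupOf P.B) b =>
      (⟨Quotient.map' (fun x : P.B => (x : G) * n) (fun x y h => by
          have h' := (key x y).1 (QuotientGroup.eq.2 (QuotientGroup.leftRel_apply.1 h))
          exact QuotientGroup.leftRel_apply.2 (QuotientGroup.eq.1 h')) q.1, ?_, ?_⟩ :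
        {c : G ⧸ P.B // InCell P (QuotientGroup.mk n) c ∧ (b : G) • c = c})) ?_)).symm
  · obtain ⟨q, hq⟩ := q
    induction q using QuotientGroup.induction_on with
    | _ x => exact ⟨(x : G) * n, cell_mul_left P x.2 (mem_cell_mk P n), rfl⟩
  · obtain ⟨q, hq⟩ := q
    induction q using QuotientGroup.induction_on with
    | _ x =>
    have h1 : (QuotientGroup.mk (b * x) : P.B ⧸ H.subgroupOf P.B) = QuotientGroup.mk x := hq
    have h2 := (key _ _).1 h1
    rw [Subgroup.coe_mul, mul_assoc] at h2
    exact h2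
  constructor
  · rintro ⟨q, hq⟩ ⟨q', hq'⟩ h
    induction q using QuotientGroup.induction_on with
    | _ x =>
    induction q' using QuotientGroup.induction_on with
    | _ y =>
    exact Subtype.ext ((key x y).2 (congrArg Subtype.val h))
  · rintro ⟨c, ⟨g, hg, rfl⟩, hc⟩
    rw [cell_mk] at hg
    obtain ⟨a, ha, a', ha', rfl⟩ := (mem_dc P).1 hg
    have e : (QuotientGroup.mk (a * n) : G ⧸ P.B) = QuotientGroup.mk (a * n * a') :=
      QuotientGroup.eq.2 (by simpa [mul_assoc] using ha')
    refine ⟨⟨QuotientGroup.mk (⟨a, ha⟩ : P.B), ?_⟩, Subtype.ext e⟩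
    show (QuotientGroup.mk (b * ⟨a, ha⟩) : P.B ⧸ H.subgroupOf P.B) = QuotientGroup.mk _
    rw [key, Subgroup.coe_mul, mul_assoc]
    show (b : G) • (QuotientGroup.mk (a * n) : G ⧸ P.B) = QuotientGroup.mk (a * n)
    rw [e]; exact hc

omit [Fintype P.S] in
theorem card_orbits_pair (J K : Set P.S) :
    Nat.card (Quotient (MulAction.orbitRel G ((G ⧸ par P J) × (G ⧸ par P K)))) =
      ∑ w : Weyl P, if (exchangeData P).LMin J w ∧ (exchangeData P).RMin K w then 1 else 0 := by
  classical
  rw [← Finset.sum_filter, ← Finset.card_eq_sum_ones, ← Nat.card_eq_finsetCard]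
  refine (Nat.card_congr (Equiv.ofBijective
    (fun w : {w // w ∈ Finset.univ.filter fun w : Weyl P =>
        (exchangeData P).LMin J w ∧ (exchangeData P).RMin K w} =>
      (Quotient.mk'' ((QuotientGroup.mk 1 : G ⧸ par P J),
        (QuotientGroup.mk (wrep P w.1) : G ⧸ par P K)) :
        Quotient (MulAction.orbitRel G ((G ⧸ par P J) × (G ⧸ par P K))))) ?_)).symm
  constructor
  · rintro ⟨x, hx⟩ ⟨y, hy⟩ h
    obtain ⟨g, hg⟩ := Quotient.eq''.1 h
    have h1 : (QuotientGroup.mk (g * 1) : G ⧸ par P J) = QuotientGroup.mk 1 :=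
      congrArg Prod.fst hg
    have h2 : (QuotientGroup.mk (g * wrep P y) : G ⧸ par P K) = QuotientGroup.mk (wrep P x) :=
      congrArg Prod.snd hg
    have hp : g ∈ par P J := by simpa using QuotientGroup.eq.1 h1
    obtain ⟨u, hu, hmem⟩ := par_mul_cell P hp (wrep_mem_cell P y)
    obtain ⟨v, hv, hmem'⟩ := cell_mul_par P (QuotientGroup.eq.1 h2) hmem
    rw [mul_inv_cancel_left] at hmem'
    have e := cell_inj P (wrep_mem_cell P x) hmem'
    obtain ⟨z, -, -, -, huniq⟩ := (exchangeData P).exists_double_min J K x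
    simp only [Finset.mem_filter, Finset.mem_univ, true_and] at hx hy
    refine Subtype.ext ((huniq x hx.1 hx.2 ⟨1, one_mem _, 1, one_mem _, by group⟩).trans
      (huniq y hy.1 hy.2 ⟨u, hu, v, hv, e⟩).symm)
  · intro q
    induction q using Quotient.inductionOn' with
    | _ ab =>
    obtain ⟨a, c⟩ := ab
    induction a using QuotientGroup.induction_on with
    | _ a =>
    induction c using QuotientGroup.induction_on with
    | _ c =>
    obtain ⟨w, hw⟩ := exists_cell P (a⁻¹ * c)
    obtain ⟨x, hxJ, hxK, ⟨u, hu, v, hv, rfl⟩, -⟩ := (exchangeData P).exists_double_min J K w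
    refine ⟨⟨x, Finset.mem_filter.2 ⟨Finset.mem_univ _, hxJ, hxK⟩⟩, Quotient.eq''.2 ?_⟩
    obtain ⟨nu, rfl⟩ := exists_mk P u
    obtain ⟨nx, rfl⟩ := exists_mk P x
    obtain ⟨nv, rfl⟩ := exists_mk P v
    have hcong : Cong P (nx : G) (wrep P (QuotientGroup.mk nx)) :=
      cong_symm P ((weyl_mk_eq P).1 (mk_wrep P _))
    rw [← QuotientGroup.mk_mul, ← QuotientGroup.mk_mul, cell_mk] at hw
    obtain ⟨b, hb, b', hb', hab⟩ := (mem_dc P).1 hw
    refine ⟨(a * b * (nu : G))⁻¹, Prod.ext ?_ ?_⟩
    · show (QuotientGroup.mk ((a * b * (nu : G))⁻¹ * a) : G ⧸ par P J) = QuotientGroup.mk 1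
      refine QuotientGroup.eq.2 ?_
      have e : ((a * b * (nu : G))⁻¹ * a)⁻¹ * 1 = b * nu := by group
      rw [e]
      exact mul_mem (B_le_par P J hb) (mem_par_of_cell P hu (mem_cell_mk P nu))
    · show (QuotientGroup.mk ((a * b * (nu : G))⁻¹ * c) : G ⧸ par P K) =
        QuotientGroup.mk (wrep P (QuotientGroup.mk nx))
      refine QuotientGroup.eq.2 ?_
      have e1 : (a * b * (nu : G))⁻¹ * c = (nx : G) * nv * b' := by
        calc _ = (b * (nu : G))⁻¹ * (a⁻¹ * c) := by group
          _ = _ := by rw [hab]; push_cast; group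
      have e : ((nx : G) * nv * b')⁻¹ * wrep P (QuotientGroup.mk nx) =
          b'⁻¹ * (nv : G)⁻¹ * ((nx : G)⁻¹ * wrep P (QuotientGroup.mk nx)) := by group
      rw [e1, e]
      exact mul_mem (mul_mem (B_le_par P K (inv_mem hb'))
        (inv_mem (mem_par_of_cell P hv (mem_cell_mk P nv)))) (B_le_par P K hcong)

omit [Finite G] [Fintype (Weyl P)] in
theorem stein_eq_sum : stein P = ∑ J : Finset P.S,
    ((-1 : ℂ) ^ J.card) • Cfsg.fixedPointCharacter (par P (↑J : Set P.S)) := by
  funext g
  simp [stein, Finset.sum_apply]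

omit [Fintype (Weyl P)] in
theorem isGeneralized_stein : Cfsg.IsGeneralizedCharacter G (stein P) := by
  haveI := Fintype.ofFinite G
  rw [stein_eq_sum]
  refine IsGeneralizedCharacter.sum _ fun J _ => ?_
  have := IsGeneralizedCharacter.intCast_smul
    (IsCharacter.isGeneralizedCharacter
      (isCharacter_permChar (G := G) (G ⧸ par P (↑J : Set P.S)))) ((-1) ^ J.card)
  push_cast at this
  exact this

theorem classInner_stein [Fintype G] : classInner (stein P) (stein P) = 1 := by
  classical
  obtain ⟨w₀, h₀⟩ := (exchangeData P).exists_top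
  have horb : ∀ J K : Finset P.S,
      classInner (Cfsg.fixedPointCharacter (par P (↑J : Set P.S)))
        (Cfsg.fixedPointCharacter (par P (↑K : Set P.S))) =
      ∑ w : Weyl P, (if (exchangeData P).LMin (↑J : Set P.S) w ∧
        (exchangeData P).RMin (↑K : Set P.S) w then 1 else 0 : ℂ) := by
    intro J K
    unfold classInner
    simp only [Cfsg.Agent.Lib.Flag.conj_fixedPointCharacter]
    rw [Cfsg.Agent.Lib.Flag.avg_fixed_mul, card_orbits_pair]
    push_cast
    rfl
  rw [stein_eq_sum, classInner_sum_left, Finset.sum_eq_single ∅]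
  · rw [classInner_smul_left, classInner_sum_right]
    simp only [classInner_smul_right, map_pow, map_neg, map_one, horb, Finset.card_empty, pow_zero,
      one_mul, Finset.mul_sum]
    rw [Finset.sum_comm, Finset.sum_eq_single w₀]
    · rw [Finset.sum_eq_single ∅]
      · rw [if_pos ⟨fun i hi => absurd hi (by simp), fun i hi => absurd hi (by simp)⟩]
        simp
      · intro K _ hK
        rw [if_neg (fun h => hK (Finset.coe_eq_empty.1 ((exchangeData P).top_rmin h₀ h.2))),
          mul_zero]
      · simp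
    · intro w _ hw
      have e : ∀ K : Finset P.S, (-1 : ℂ) ^ K.card *
          (if (exchangeData P).LMin (↑(∅ : Finset P.S) : Set P.S) w ∧
            (exchangeData P).RMin (↑K : Set P.S) w then 1 else 0 : ℂ) =
            (-1 : ℂ) ^ K.card * (if ∀ i ∈ K,
              Asc P w i
              then 1 else 0) := by
        intro K
        congr 1
        refine if_congr ?_ rfl rfl
        exact ⟨fun h i hi => h.2 i hi, fun h => ⟨fun i hi => absurd hi (by simp), fun i hi => h i hi⟩⟩
      rw [Finset.sum_congr rfl fun K _ => e K, sum_alt_powerset, if_neg]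
      intro hall
      exact hw ((exchangeData P).top_unique
        (fun i => lt_of_le_of_ne (le_of_not_gt (hall i)) (len_mul_wgen_ne P i w)) h₀)
    · simp
  · intro J _ hJ
    rw [classInner_smul_left, classInner_sum_right]
    simp only [classInner_smul_right, map_pow, map_neg, map_one, horb, Finset.mul_sum]
    rw [Finset.sum_comm]
    refine Finset.sum_eq_zero fun w _ => ?_
    rw [← Finset.mul_sum]
    refine mul_eq_zero_of_right _ ?_
    by_cases hL : (exchangeData P).LMin (↑J : Set P.S) w
    · have hne : w ≠ w₀ := fun e => hJ (Finset.coe_eq_empty.1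
        ((exchangeData P).top_lmin h₀ (e ▸ hL)))
      have e : ∀ K : Finset P.S, (-1 : ℂ) ^ K.card *
          (if (exchangeData P).LMin (↑J : Set P.S) w ∧
            (exchangeData P).RMin (↑K : Set P.S) w then 1 else 0 : ℂ) =
            (-1 : ℂ) ^ K.card * (if ∀ i ∈ K,
              Asc P w i
              then 1 else 0) := fun K => by
        congr 1
        exact if_congr ⟨fun h i hi => h.2 i hi, fun h => ⟨hL, fun i hi => h i hi⟩⟩ rfl rfl
      rw [Finset.sum_congr rfl fun K _ => e K, sum_alt_powerset, if_neg]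
      intro hall
      exact hne ((exchangeData P).top_unique
        (fun i => lt_of_le_of_ne (le_of_not_gt (hall i)) (len_mul_wgen_ne P i w)) h₀)
    · refine Finset.sum_eq_zero fun K _ => ?_
      rw [if_neg (fun h => hL h.1), mul_zero]
  · simp

theorem stein_isIrr [Fintype G] : Cfsg.IsIrrCharacter G (stein P) := by
  obtain ⟨w₀, h₀⟩ := (exchangeData P).exists_top
  obtain ⟨χ, h | h⟩ := IsGeneralizedCharacter.eq_pm_irr (isGeneralized_stein P) (classInner_stein P)
  · exact h ▸ χ.2
  · exfalso
    obtain ⟨d, hd0, hd⟩ := IsIrrCharacter.exists_apply_one χ.2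
    have h1 := stein_borel P (one_mem P.B) h₀
    rw [h, Pi.neg_apply, hd, neg_eq_iff_add_eq_zero, ← Nat.cast_add, Nat.cast_eq_zero] at h1
    omega

end Steinberg

end Cfsg.Agent.Lib.BNPair
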