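import Cfsg.Agent.Lib.BNPair.LieType

/-!
Steinberg's count of the unipotent elements.
-/

set_option autoImplicit false

namespace Cfsg.Agent.Lib.BNPair

open scoped Classical

theorem sum_alt_subsets {α : Type*} (J : Finset α) (p : α → Prop)
    [∀ K : Finset α, Decidable (∀ i ∈ K, p i)] [Decidable (∀ i ∈ J, ¬ p i)] :
    ∑ K ∈ J.powerset, (-1 : ℤ) ^ K.card * (if ∀ i ∈ K, p i then 1 else 0) =
      if ∀ i ∈ J, ¬ p i then 1 else 0 := by
  have hfil : J.powerset.filter (fun K => ∀ i ∈ K, p i) = (J.filter p).powerset := by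
    ext K
    simp only [Finset.mem_filter, Finset.mem_powerset, Finset.subset_iff]
    exact ⟨fun h i hi => ⟨h.1 hi, h.2 i hi⟩, fun h => ⟨fun i hi => (h hi).1, fun i hi => (h hi).2⟩⟩
  simp only [mul_ite, mul_one, mul_zero]
  rw [← Finset.sum_filter, hfil, Finset.sum_powerset_neg_one_pow_card]
  simp [Finset.filter_eq_empty_iff]

variable {G : Type*} [Group G] (P : Cfsg.BNPair G)
variable [hN : ((P.B ⊓ P.N).subgroupOf P.N).Normal]

/-- A `P_K`-coset inside `P_J`. -/
def InPar (J K : Set P.S) (c : G ⧸ par P K) : Prop := ∃ a ∈ par P J, QuotientGroup.mk a = c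

/-- The fixed `P_K`-cosets inside `P_J`. -/
noncomputable def fixIn (J K : Set P.S) (g : G) : ℕ :=
  Nat.card {c : G ⧸ par P K // InPar P J K c ∧ g • c = c}

/-- The elements of `p`-power order of `P_J`. -/
def PelIn (p : ℕ) (J : Set P.S) (g : G) : Prop := g ∈ par P J ∧ ∃ k : ℕ, orderOf g = p ^ k

/-- Their number. -/
noncomputable def uCount (p : ℕ) (J : Set P.S) : ℕ := Nat.card {g : G // PelIn P p J g}

omit hN in
theorem par_mono {J K : Set P.S} (h : K ⊆ J) : par P K ≤ par P J :=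
  sup_le_sup_left (Subgroup.closure_mono (Set.image_mono h)) _

variable [Finite G] [Fintype P.S] [Fintype (Weyl P)]

omit [Fintype P.S] in
theorem fixIn_borel {b : G} (hb : b ∈ P.B) {J K : Set P.S} (hKJ : K ⊆ J) :
    fixIn P J K b = ∑ w : Weyl P,
      if w ∈ (exchangeData P).wsub J ∧ (exchangeData P).RMin K w then cellFix P b w else 0 := by
  rw [← Finset.sum_filter, ← Finset.sum_coe_sort]
  unfold fixIn cellFix
  rw [← Nat.card_sigma]
  refine (Nat.card_congr (Equiv.ofBijective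
    (fun x : (Σ w : {w // w ∈ Finset.univ.filter fun w : Weyl P =>
          w ∈ (exchangeData P).wsub J ∧ (exchangeData P).RMin K w},
        {c : G ⧸ P.B // InCell P w.1 c ∧ b • c = c}) =>
      (⟨Quotient.map' id (fun a a' h => by
          rw [QuotientGroup.leftRel_apply] at h ⊢
          exact B_le_par P K h) x.2.1, ?_⟩ :
        {c : G ⧸ par P K // InPar P J K c ∧ b • c = c})) ?_)).symm
  · obtain ⟨⟨w, hw⟩, c, ⟨g, hg, rfl⟩, hc⟩ := x
    refine ⟨⟨g, mem_par_of_cell P (Finset.mem_filter.1 hw).2.1 hg, rfl⟩, ?_⟩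
    show b • (QuotientGroup.mk g : G ⧸ par P K) = QuotientGroup.mk g
    have h1 : QuotientGroup.mk (b * g) = (QuotientGroup.mk g : G ⧸ P.B) := hc
    exact (QuotientGroup.eq.2 (B_le_par P K (QuotientGroup.eq.1 h1)) :
      (QuotientGroup.mk (b * g) : G ⧸ par P K) = QuotientGroup.mk g)
  constructor
  · rintro ⟨⟨w, hw⟩, c, ⟨g, hg, rfl⟩, hcb⟩ ⟨⟨w', hw'⟩, c', ⟨g', hg', rfl⟩, hcb'⟩ h
    have h' : (QuotientGroup.mk g : G ⧸ par P K) = QuotientGroup.mk g' := congrArg Subtype.val h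
    obtain ⟨rfl, hB⟩ := mem_B_of_rmin P (Finset.mem_filter.1 hw).2.2
      (Finset.mem_filter.1 hw').2.2 hg hg' (QuotientGroup.eq.1 h')
    have : (QuotientGroup.mk g : G ⧸ P.B) = QuotientGroup.mk g' := QuotientGroup.eq.2 hB
    exact Sigma.ext rfl (heq_of_eq (Subtype.ext this))
  · rintro ⟨_, ⟨g, hgJ, rfl⟩, hq⟩
    obtain ⟨w, hw, p, hp, hgp⟩ := exists_rmin_rep P K g
    have hwJ : w ∈ (exchangeData P).wsub J := by
      obtain ⟨v, hv, hcv⟩ := mem_par_cell P (mul_mem hgJ (par_mono P hKJ hp))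
      rwa [cell_inj P hgp hcv]
    refine ⟨⟨⟨w, Finset.mem_filter.2 ⟨Finset.mem_univ _, hwJ, hw⟩⟩, QuotientGroup.mk (g * p),
      ⟨g * p, hgp, rfl⟩, ?_⟩, ?_⟩
    · show (QuotientGroup.mk (b * (g * p)) : G ⧸ P.B) = QuotientGroup.mk (g * p)
      refine QuotientGroup.eq.2 ?_
      have hq' : (QuotientGroup.mk (b * g) : G ⧸ par P K) = QuotientGroup.mk g := hq
      refine (mem_B_of_rmin P (J := K) hw hw (cell_mul_left P hb hgp) hgp ?_).2
      have e : (b * (g * p))⁻¹ * (g * p) = p⁻¹ * ((b * g)⁻¹ * g) * p := by group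
      rw [e]
      exact mul_mem (mul_mem (inv_mem hp) (QuotientGroup.eq.1 hq')) hp
    · refine Subtype.ext ?_
      exact (QuotientGroup.eq.2 (by simpa using inv_mem hp) :
        (QuotientGroup.mk (g * p) : G ⧸ par P K) = QuotientGroup.mk g)

omit hN [Fintype P.S] [Fintype (Weyl P)] in
theorem fixIn_conj {J K : Set P.S} {y : G} (hy : y ∈ par P J) (g : G) :
    fixIn P J K (y * g * y⁻¹) = fixIn P J K g := by
  refine Nat.card_congr ((MulAction.toPerm y⁻¹).subtypeEquiv fun c => ?_)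
  constructor
  · rintro ⟨⟨a, ha, rfl⟩, h⟩
    refine ⟨⟨y⁻¹ * a, mul_mem (inv_mem hy) ha, rfl⟩, ?_⟩
    show g • (y⁻¹ • (QuotientGroup.mk a : G ⧸ par P K)) = y⁻¹ • QuotientGroup.mk a
    conv_rhs => rw [← h]
    rw [smul_smul, smul_smul]
    congr 1
    group
  · rintro ⟨⟨a, ha, he⟩, h⟩
    have e : c = QuotientGroup.mk (y * a) := by
      show c = y • (QuotientGroup.mk a : G ⧸ par P K)
      rw [he]; exact (smul_inv_smul y c).symm
    refine ⟨⟨y * a, mul_mem hy ha, e.symm⟩, ?_⟩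
    have h' : g • (y⁻¹ • c) = y⁻¹ • c := h
    rw [mul_smul, mul_smul, h', smul_inv_smul]

omit hN [Fintype P.S] [Fintype (Weyl P)] in
theorem sum_fixIn (p : ℕ) {J K : Set P.S} (hKJ : K ⊆ J) [Fintype {g : G // PelIn P p J g}] :
    ∑ g : {g : G // PelIn P p J g}, fixIn P J K g.1 = fixIn P J K 1 * uCount P p K := by
  have hout : ∀ c : G ⧸ par P K, InPar P J K c → c.out ∈ par P J := by
    rintro c ⟨a, ha, rfl⟩
    have h1 : a⁻¹ * (QuotientGroup.mk a : G ⧸ par P K).out ∈ par P K :=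
      QuotientGroup.eq.1 (Quotient.out_eq _).symm
    simpa using mul_mem ha (par_mono P hKJ h1)
  unfold fixIn uCount
  rw [← Nat.card_sigma, ← Nat.card_prod]
  refine Nat.card_congr
    { toFun := fun x => (⟨x.2.1, x.2.2.1, one_smul _ _⟩,
        ⟨x.2.1.out⁻¹ * x.1.1 * x.2.1.out, ?_⟩)
      invFun := fun x => ⟨⟨x.1.1.out * x.2.1 * x.1.1.out⁻¹, ?_⟩, ⟨x.1.1, x.1.2.1, ?_⟩⟩
      left_inv := ?_
      right_inv := ?_ }
  · obtain ⟨⟨g, hg, k, hk⟩, c, hcJ, hgc⟩ := x
    refine ⟨?_, k, ?_⟩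
    · have h1 : (QuotientGroup.mk (g * c.out) : G ⧸ par P K) = QuotientGroup.mk c.out := by
        show g • (QuotientGroup.mk c.out : G ⧸ par P K) = _
        rw [show (QuotientGroup.mk c.out : G ⧸ par P K) = c from Quotient.out_eq c]
        exact hgc
      have h2 := inv_mem (QuotientGroup.eq.1 h1)
      simpa [mul_assoc] using h2
    · show orderOf (c.out⁻¹ * g * c.out) = p ^ k
      rw [show c.out⁻¹ * g * c.out = MulAut.conj c.out⁻¹ g by simp, MulEquiv.orderOf_eq, hk]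
  · obtain ⟨⟨c, hcJ, -⟩, g, hg, k, hk⟩ := x
    refine ⟨mul_mem (mul_mem (hout c hcJ) (par_mono P hKJ hg)) (inv_mem (hout c hcJ)), k, ?_⟩
    show orderOf (MulAut.conj c.out g) = p ^ k
    rw [MulEquiv.orderOf_eq, hk]
  · obtain ⟨⟨c, hcJ, -⟩, g, hg, k, hk⟩ := x
    have h1 : (QuotientGroup.mk (c.out * g * c.out⁻¹ * c.out) : G ⧸ par P K) =
        QuotientGroup.mk c.out := QuotientGroup.eq.2 (by simpa [mul_assoc] using inv_mem hg)
    have hc' : (QuotientGroup.mk c.out : G ⧸ par P K) = c := Quotient.out_eq c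
    show (c.out * g * c.out⁻¹) • c = c
    calc (c.out * g * c.out⁻¹) • c = (c.out * g * c.out⁻¹) • (QuotientGroup.mk c.out : G ⧸ par P K) := by
          rw [hc']
      _ = QuotientGroup.mk c.out := h1
      _ = c := hc'
  · rintro ⟨⟨g, hg⟩, c, hc⟩
    refine Sigma.ext (Subtype.ext (by show c.out * (c.out⁻¹ * g * c.out) * c.out⁻¹ = g; group)) ?_
    exact (Subtype.heq_iff_coe_eq (fun x => by
      show InPar P J K x ∧ (c.out * (c.out⁻¹ * g * c.out) * c.out⁻¹) • x = x ↔
        InPar P J K x ∧ g • x = x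
      rw [show c.out * (c.out⁻¹ * g * c.out) * c.out⁻¹ = g by group])).2 rfl
  · rintro ⟨⟨c, hc⟩, g, hg⟩
    exact Prod.ext rfl (Subtype.ext (by
      show c.out⁻¹ * (c.out * g * c.out⁻¹) * c.out = g
      group))

/-- The longest element of `W_J`. -/
noncomputable def vTop (J : Set P.S) : Weyl P := ((exchangeData P).exists_rtop J).choose

omit [Fintype P.S] [Fintype (Weyl P)] in
theorem vTop_spec (J : Set P.S) : (exchangeData P).RTop J (vTop P J) :=
  ((exchangeData P).exists_rtop J).choose_spec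

omit hN [Finite G] [Fintype P.S] [Fintype (Weyl P)] in
theorem par_univ : par P (Set.univ : Set P.S) = ⊤ := by
  rw [par, Set.image_univ, Subtype.range_coe]
  exact parabolic_S P

namespace LieData

variable {P} {p q : ℕ} {U : Subgroup G} (L : LieData P p q U)
include L

omit [Fintype P.S] in
theorem fixIn_one {J K : Set P.S} (hKJ : K ⊆ J) :
    fixIn P J K 1 = ∑ w : Weyl P,
      if w ∈ (exchangeData P).wsub J ∧ (exchangeData P).RMin K w then
        q ^ (exchangeData P).len w else 0 := by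
  rw [fixIn_borel P (one_mem _) hKJ]
  simp only [L.cellFix_one]

theorem alt_index (J : Finset P.S) :
    ∑ K ∈ J.powerset, (-1 : ℤ) ^ K.card *
      ((fixIn P (↑J : Set P.S) (↑K : Set P.S) 1 : ℤ) *
        (q : ℤ) ^ (exchangeData P).len (vTop P (↑K : Set P.S))) = 1 := by
  set E := exchangeData P with hE
  have key : ∀ K ∈ J.powerset,
      (fixIn P (↑J : Set P.S) (↑K : Set P.S) 1 : ℤ) * (q : ℤ) ^ E.len (vTop P (↑K : Set P.S)) =
        ∑ y : Weyl P, (if y ∈ E.wsub (↑J : Set P.S) ∧ ∀ k ∈ K, E.len (y * E.gen k) < E.len y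
          then (q : ℤ) ^ E.len y else 0) := by
    intro K hK
    rw [Finset.mem_powerset] at hK
    have hKJ : (↑K : Set P.S) ⊆ ↑J := Finset.coe_subset.2 hK
    have hsub : E.wsub (↑K : Set P.S) ≤ E.wsub (↑J : Set P.S) :=
      Subgroup.closure_mono (Set.image_mono hKJ)
    have hv : E.RTop (↑K : Set P.S) (vTop P (↑K : Set P.S)) := vTop_spec P _
    rw [L.fixIn_one hKJ]
    push_cast
    rw [Finset.sum_mul]
    simp only [ite_mul, zero_mul, ← pow_add]
    rw [← Finset.sum_filter, ← Finset.sum_filter]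
    refine Finset.sum_bij (fun w _ => w * vTop P (↑K : Set P.S)) ?_ ?_ ?_ ?_
    · intro w hw
      obtain ⟨hwJ, hmin⟩ := (Finset.mem_filter.1 hw).2
      refine Finset.mem_filter.2 ⟨Finset.mem_univ _, mul_mem hwJ (hsub hv.1), fun k hk => ?_⟩
      have h1 := E.rmin_len_add hmin hv.1
      have h2 := E.rmin_len_add hmin (mul_mem hv.1 (E.gen_mem_wsub (Finset.mem_coe.2 hk)))
      have h3 := hv.2 k (Finset.mem_coe.2 hk)
      rw [← mul_assoc] at h2
      omega
    · intro a _ b _ h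
      exact mul_right_cancel h
    · intro y hy
      obtain ⟨hyJ, hdesc⟩ := (Finset.mem_filter.1 hy).2
      obtain ⟨v, hv', hmin⟩ := E.exists_rmin (↑K : Set P.S) y
      have htop : E.RTop (↑K : Set P.S) v⁻¹ := by
        refine ⟨inv_mem hv', fun k hk => ?_⟩
        have h1 := E.rmin_len_add hmin (inv_mem hv')
        have h2 := E.rmin_len_add hmin (mul_mem (inv_mem hv') (E.gen_mem_wsub hk))
        have h3 := hdesc k (Finset.mem_coe.1 hk)
        rw [mul_inv_cancel_right] at h1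
        rw [← mul_assoc, mul_inv_cancel_right] at h2
        omega
      refine ⟨y * v, Finset.mem_filter.2 ⟨Finset.mem_univ _, mul_mem hyJ (hsub hv'), hmin⟩, ?_⟩
      rw [← E.rtop_unique htop hv, mul_inv_cancel_right]
    · intro w hw
      rw [E.rmin_len_add (Finset.mem_filter.1 hw).2.2 hv.1]
  rw [Finset.sum_congr rfl fun K hK => congrArg ((-1 : ℤ) ^ K.card * ·) (key K hK)]
  simp only [Finset.mul_sum]
  rw [Finset.sum_comm, Finset.sum_eq_single (1 : Weyl P)]
  · rw [Finset.sum_eq_single ∅]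
    · rw [if_pos ⟨one_mem _, fun k hk => absurd hk (Finset.notMem_empty k)⟩, E.len_one]
      simp
    · intro K _ hK
      rw [if_neg, mul_zero]
      rintro ⟨-, h⟩
      obtain ⟨k, hk⟩ := Finset.nonempty_iff_ne_empty.2 hK
      have := h k hk
      rw [E.len_one] at this
      omega
    · simp
  · intro y _ hy
    by_cases hyJ : y ∈ E.wsub (↑J : Set P.S)
    · have e : ∀ K : Finset P.S, (-1 : ℤ) ^ K.card *
          (if y ∈ E.wsub (↑J : Set P.S) ∧ ∀ k ∈ K, E.len (y * E.gen k) < E.len y then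
            (q : ℤ) ^ E.len y else 0) =
          (q : ℤ) ^ E.len y * ((-1 : ℤ) ^ K.card *
            (if ∀ k ∈ K, E.len (y * E.gen k) < E.len y then 1 else 0)) := by
        intro K
        by_cases h : ∀ k ∈ K, E.len (y * E.gen k) < E.len y
        · rw [if_pos ⟨hyJ, h⟩, if_pos h]; ring
        · rw [if_neg (fun h' => h h'.2), if_neg h]; ring
      rw [Finset.sum_congr rfl fun K _ => e K, ← Finset.mul_sum, sum_alt_subsets, if_neg, mul_zero]
      intro hall
      apply hy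
      symm
      refine E.rmin_unique (J := (↑J : Set P.S)) (fun k _ => by rw [one_mul, E.len_one, E.len_gen]; exact one_pos)
        (fun k hk => lt_of_le_of_ne (not_lt.1 (hall k (Finset.mem_coe.1 hk))) ?_) (by simpa using hyJ)
      exact (len_mul_wgen_ne P k y).symm
    · exact Finset.sum_eq_zero fun K _ => by rw [if_neg (fun h => hyJ h.1), mul_zero]
  · simp

theorem alt_fixIn_unip (J : Finset P.S) {u : G} (hu : u ∈ U) :
    ∑ K ∈ J.powerset, (-1 : ℤ) ^ K.card * (fixIn P (↑J : Set P.S) (↑K : Set P.S) u : ℤ) =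
      (cellFix P u (vTop P (↑J : Set P.S)) : ℤ) := by
  set E := exchangeData P with hE
  have hv : E.RTop (↑J : Set P.S) (vTop P (↑J : Set P.S)) := vTop_spec P _
  rw [Finset.sum_congr rfl fun K hK => by
    rw [fixIn_borel P (L.U_le hu) (Finset.coe_subset.2 (Finset.mem_powerset.1 hK)), Nat.cast_sum,
      Finset.mul_sum]]
  rw [Finset.sum_comm, Finset.sum_eq_single (vTop P (↑J : Set P.S))]
  · rw [Finset.sum_eq_single ∅]
    · rw [if_pos ⟨hv.1, fun k hk => absurd hk (by simp)⟩]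
      simp
    · intro K hK hne
      rw [if_neg, Nat.cast_zero, mul_zero]
      rintro ⟨-, h⟩
      obtain ⟨k, hk⟩ := Finset.nonempty_iff_ne_empty.2 hne
      have h1 : E.len (vTop P (↑J : Set P.S)) < E.len (vTop P (↑J : Set P.S) * E.gen k) :=
        h k (Finset.mem_coe.2 hk)
      have h2 := hv.2 k (Finset.mem_coe.2 (Finset.mem_powerset.1 hK hk))
      omega
    · simp
  · intro y _ hy
    by_cases hyJ : y ∈ E.wsub (↑J : Set P.S)
    · have e : ∀ K : Finset P.S, (-1 : ℤ) ^ K.card *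
          (((if y ∈ E.wsub (↑J : Set P.S) ∧ E.RMin (↑K : Set P.S) y then cellFix P u y else 0) : ℕ) : ℤ) =
          (cellFix P u y : ℤ) * ((-1 : ℤ) ^ K.card *
            (if ∀ k ∈ K, Asc P y k then 1 else 0)) := by
        intro K
        by_cases h : E.RMin (↑K : Set P.S) y
        · rw [if_pos ⟨hyJ, h⟩, if_pos (show ∀ k ∈ K, Asc P y k from fun k hk => h k hk)]; ring
        · rw [if_neg (fun h' => h h'.2),
            if_neg (show ¬ ∀ k ∈ K, Asc P y k from fun h' => h fun k hk => h' k hk)]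
          simp
      rw [Finset.sum_congr rfl fun K _ => e K, ← Finset.mul_sum, sum_alt_subsets, if_neg, mul_zero]
      intro hall
      refine hy (E.rtop_unique ⟨hyJ, fun k hk => lt_of_le_of_ne
        (not_lt.1 (hall k (Finset.mem_coe.1 hk))) ?_⟩ hv)
      exact len_mul_wgen_ne P k y
    · exact Finset.sum_eq_zero fun K _ => by rw [if_neg (fun h => hyJ h.1), Nat.cast_zero, mul_zero]
  · simp

omit [Fintype P.S] [Fintype (Weyl P)] in
theorem cellFix_unip {J : Set P.S} {v : Weyl P} {V : Subgroup G}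
    (hnorm : ∀ a ∈ par P J, ∀ u ∈ V, a * u * a⁻¹ ∈ V)
    (hV : ∀ u ∈ U, (wrep P v)⁻¹ * u * wrep P v ∈ P.B ↔ u ∈ V) {u : G} (hu : u ∈ U) :
    cellFix P u v = if u ∈ V then q ^ (exchangeData P).len v else 0 := by
  have key : ∀ c : G ⧸ P.B, InCell P v c → (u • c = c ↔ u ∈ V) := by
    rintro _ ⟨g, hg, rfl⟩
    obtain ⟨a, ha, b, hb, rfl⟩ := exists_borel_rep P hg
    show (QuotientGroup.mk (u * (a * wrep P v * b)) : G ⧸ P.B) = QuotientGroup.mk _ ↔ _
    rw [QuotientGroup.eq]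
    have e : (u * (a * wrep P v * b))⁻¹ * (a * wrep P v * b) =
        b⁻¹ * ((wrep P v)⁻¹ * (a⁻¹ * u⁻¹ * a) * wrep P v) * b := by group
    rw [e, Subgroup.mul_mem_cancel_right _ hb, Subgroup.mul_mem_cancel_left _ (inv_mem hb),
      hV _ (by simpa using L.U_normal _ (inv_mem ha) _ (inv_mem hu))]
    constructor
    · intro h
      have := hnorm a (B_le_par P J ha) _ h
      simpa [mul_assoc] using inv_mem this
    · intro h
      simpa using hnorm a⁻¹ (inv_mem (B_le_par P J ha)) _ (inv_mem h)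
  split_ifs with huV
  · rw [← L.card_cell _ v rfl, cellFix]
    exact Nat.card_congr (Equiv.subtypeEquivRight fun c =>
      ⟨fun h => h.1, fun h => ⟨h, (key c h).2 huV⟩⟩)
  · rw [cellFix]
    haveI : IsEmpty {c : G ⧸ P.B // InCell P v c ∧ u • c = c} :=
      ⟨fun c => huV ((key c.1 c.2.1).1 c.2.2)⟩
    exact Nat.card_of_isEmpty

theorem uCount_eq (J : Finset P.S) :
    (uCount P p (↑J : Set P.S) : ℤ) =
      (q : ℤ) ^ (L.topLen + (exchangeData P).len (vTop P (↑J : Set P.S))) := by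
  induction J using Finset.strongInduction with
  | _ J ih =>
  set E := exchangeData P with hE
  haveI := Fact.mk L.hp
  haveI := Fintype.ofFinite G
  obtain ⟨V, hVU, hnorm, hV, hcard⟩ := L.exists_radical (vTop_spec P (↑J : Set P.S))
  set v := vTop P (↑J : Set P.S) with hv
  -- the sum of the alternating fixed point numbers over the unipotent elements
  have hpel : ∀ g : {g : G // PelIn P p (↑J : Set P.S) g},
      ∑ K ∈ J.powerset, (-1 : ℤ) ^ K.card * (fixIn P (↑J : Set P.S) (↑K : Set P.S) g.1 : ℤ) =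
        if g.1 ∈ V then (q : ℤ) ^ E.len v else 0 := by
    rintro ⟨g, hg, k, hk⟩
    obtain ⟨y, hy, hyU⟩ := L.exists_conj_mem_U _ hg hk
    rw [Finset.sum_congr rfl fun K _ => by rw [← fixIn_conj P hy g],
      L.alt_fixIn_unip J hyU, L.cellFix_unip hnorm hV hyU]
    have hiff : y * g * y⁻¹ ∈ V ↔ g ∈ V := ⟨fun h => by
      simpa [mul_assoc] using hnorm _ (inv_mem hy) _ h, hnorm y hy g⟩
    simp only [hiff]
    split_ifs <;> simp [hE]
  have hVpel : ∀ g ∈ V, PelIn P p (↑J : Set P.S) g := fun g hg => by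
    refine ⟨B_le_par P _ (L.U_le (hVU hg)), ?_⟩
    obtain ⟨k, hk⟩ := (IsPGroup.iff_orderOf.1 L.isPGroup_U) ⟨g, hVU hg⟩
    exact ⟨k, by rwa [Subgroup.orderOf_mk] at hk⟩
  have htot : ∑ K ∈ J.powerset, (-1 : ℤ) ^ K.card *
      ((fixIn P (↑J : Set P.S) (↑K : Set P.S) 1 : ℤ) * (uCount P p (↑K : Set P.S) : ℤ)) =
        (q : ℤ) ^ L.topLen := by
    rw [Finset.sum_congr rfl fun K hK => by
      rw [← Nat.cast_mul, ← sum_fixIn P p (Finset.coe_subset.2 (Finset.mem_powerset.1 hK)),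
        Nat.cast_sum, Finset.mul_sum]]
    rw [Finset.sum_comm, Finset.sum_congr rfl fun g _ => hpel g, ← Finset.sum_filter,
      Finset.sum_const, nsmul_eq_mul,
      ← (by exact_mod_cast hcard :
        (Nat.card V : ℤ) * (q : ℤ) ^ E.len v = (q : ℤ) ^ L.topLen)]
    congr 1
    rw [Nat.cast_inj, ← Nat.card_eq_finsetCard]
    exact Nat.card_congr
      { toFun := fun g => ⟨g.1.1, (Finset.mem_filter.1 g.2).2⟩
        invFun := fun g => ⟨⟨g.1, hVpel g.1 g.2⟩, Finset.mem_filter.2 ⟨Finset.mem_univ _, g.2⟩⟩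
        left_inv := fun g => rfl
        right_inv := fun g => rfl }
  have halt := congrArg ((q : ℤ) ^ L.topLen * ·) (L.alt_index J)
  simp only [mul_one, Finset.mul_sum] at halt
  rw [← halt, ← Finset.sum_erase_add _ _ (Finset.mem_powerset_self J),
    ← Finset.sum_erase_add J.powerset _ (Finset.mem_powerset_self J)] at htot
  have hrest : ∀ K ∈ J.powerset.erase J,
      (-1 : ℤ) ^ K.card * ((fixIn P (↑J : Set P.S) (↑K : Set P.S) 1 : ℤ) *
        (uCount P p (↑K : Set P.S) : ℤ)) =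
      (q : ℤ) ^ L.topLen * ((-1 : ℤ) ^ K.card * ((fixIn P (↑J : Set P.S) (↑K : Set P.S) 1 : ℤ) *
        (q : ℤ) ^ E.len (vTop P (↑K : Set P.S)))) := by
    intro K hK
    obtain ⟨hne, hsub⟩ := Finset.mem_erase.1 hK
    rw [ih K (Finset.ssubset_iff_subset_ne.2 ⟨Finset.mem_powerset.1 hsub, hne⟩), pow_add]
    ring
  rw [Finset.sum_congr rfl hrest, add_left_cancel_iff] at htot
  have h1 : fixIn P (↑J : Set P.S) (↑J : Set P.S) 1 = 1 := by
    rw [fixIn, Nat.card_eq_one_iff_unique]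
    refine ⟨⟨?_⟩, ⟨⟨QuotientGroup.mk 1, ⟨1, one_mem _, rfl⟩, one_smul _ _⟩⟩⟩
    rintro ⟨_, ⟨a, ha, rfl⟩, -⟩ ⟨_, ⟨b, hb, rfl⟩, -⟩
    exact Subtype.ext (QuotientGroup.eq.2 (mul_mem (inv_mem ha) hb))
  rw [h1] at htot
  have h2 : ((-1 : ℤ) ^ J.card) ≠ 0 := pow_ne_zero _ (by norm_num)
  apply mul_left_cancel₀ h2
  rw [pow_add]
  simp only [Nat.cast_one, one_mul] at htot
  rw [htot]
  ring

theorem card_unipotent :
    Nat.card {g : G // ∃ k : ℕ, orderOf g = p ^ k} = q ^ (2 * L.topLen) := by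
  have h := L.uCount_eq (Finset.univ)
  rw [Finset.coe_univ] at h
  have hv := vTop_spec P (Set.univ : Set P.S)
  rw [L.topLen_eq (fun i => hv.2 i (Set.mem_univ i)), ← two_mul] at h
  norm_cast at h
  rw [← h, uCount]
  exact Nat.card_congr (Equiv.subtypeEquivRight fun g =>
    ⟨fun h => ⟨by rw [par_univ P]; exact Subgroup.mem_top g, h⟩, fun h => h.2⟩)

end LieData

end Cfsg.Agent.Lib.BNPair
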